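import Groth.Agent.CAlgCohen.Normalization
import Groth.Agent.MvPSLib.Basic
import Groth.Agent.GorenBasic.Basic
import Groth.Agent.GorenBasic.ChangeRings
import Groth.Agent.Depth.CM

/-!
# Complete local rings are quotients of Gorenstein local rings of the same dimension
-/

universe u

open IsLocalRing LocCoh

namespace Groth.Agent.LocDuality

variable {R : Type u} [CommRing R]

lemma isCohenMacaulayLocalRing_of_gorenstein [IsGorensteinLocalRing R] : IsCohenMacaulayLocalRing R := by
  obtain ⟨d, hd, hdep, -, -⟩ := GorenBasic.gorenstein_dim (R := R)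
  exact Depth.isCohenMacaulayLocalRing_iff.mpr (by rw [hd, hdep]; rfl)

/-- Power series over a complete regular local ring of dimension at most one form a regular local ring. -/
theorem isRegularLocalRing_mvPowerSeries (Λ : Type u) [CommRing Λ] [IsDomain Λ] [IsLocalRing Λ]
    [IsNoetherianRing Λ] (π : Λ) (hπ : maximalIdeal Λ = Ideal.span {π}) (n : ℕ) :
    IsRegularLocalRing (MvPowerSeries (Fin n) Λ) := by
  classical
  have hm : maximalIdeal (MvPowerSeries (Fin n) Λ) =
      Ideal.span (insert (MvPowerSeries.C π) (Set.range MvPowerSeries.X)) := by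
    rw [Ideal.span_insert, CAlgCohen.maximalIdeal_mvPowerSeries, hπ, Ideal.map_span, Set.image_singleton,
      FSAdic.augIdeal_eq_span]
  have hX : (Set.range (MvPowerSeries.X (R := Λ) : Fin n → _)).ncard ≤ n := by
    rw [← Set.image_univ]; exact le_trans Set.ncard_image_le (by simp)
  have hle : ∀ m : ℕ, ringKrullDim Λ + m ≤ ringKrullDim (MvPowerSeries (Fin m) Λ) := by
    intro m
    induction m with
    | zero => rw [ringKrullDim_eq_of_ringEquiv (MvPowerSeries.isEmptyEquiv (σ := Fin 0) Λ).toRingEquiv, Nat.cast_zero, add_zero]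
    | succ m ih =>
      rw [ringKrullDim_eq_of_ringEquiv (MvPowerSeries.finSuccEquiv Λ m).toRingEquiv, Nat.cast_succ, ← add_assoc]
      exact le_trans (add_le_add ih le_rfl) ringKrullDim_succ_le_ringKrullDim_powerseries
  refine IsRegularLocalRing.of_spanFinrank_maximalIdeal_le _ (le_trans ?_ (hle n))
  by_cases hπ0 : π = 0
  · have hdim : (0 : WithBot ℕ∞) ≤ ringKrullDim Λ := ringKrullDim_nonneg_of_nontrivial
    refine le_trans (Nat.cast_le.mpr ?_) (le_add_of_nonneg_left hdim)
    rw [hm, hπ0, map_zero, Ideal.span_insert, Ideal.span_singleton_zero, bot_sup_eq]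
    exact (Submodule.spanFinrank_span_le_ncard_of_finite (Set.finite_range _)).trans hX
  · have hdim : (1 : WithBot ℕ∞) ≤ ringKrullDim Λ := by
      rw [← maximalIdeal_height_eq_ringKrullDim, ← WithBot.coe_one, WithBot.coe_le_coe, hπ,
        Ideal.height_span_singleton_eq_one_of_mem_nonZeroDivisors (mem_nonZeroDivisors_of_ne_zero hπ0) (fun hu =>
          (maximalIdeal.isMaximal Λ).ne_top (hπ ▸ Ideal.span_singleton_eq_top.mpr hu))]
    refine le_trans (b := ((1 + n : ℕ) : WithBot ℕ∞)) (Nat.cast_le.mpr ?_) (by push_cast; exact add_le_add hdim le_rfl)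
    rw [hm]
    exact (Submodule.spanFinrank_span_le_ncard_of_finite ((Set.finite_range _).insert _)).trans
      ((Set.ncard_insert_le _ _).trans (by omega))

/-- A complete Noetherian local ring is a quotient of a regular local ring. -/
theorem exists_regular_surjection [IsLocalRing R] [IsNoetherianRing R] [IsAdicComplete (maximalIdeal R) R] :
    ∃ (S : Type u) (_ : CommRing S) (_ : IsRegularLocalRing S) (g : S →+* R), Function.Surjective g := by
  classical
  obtain ⟨t, ht⟩ := IsNoetherian.noetherian (maximalIdeal R)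
  let z : Fin t.card → R := fun i => (t.equivFin.symm i : R)
  have hz : Ideal.span (Set.range z) = maximalIdeal R := by
    rw [← ht]
    congr 1
    ext x
    exact ⟨fun ⟨i, hi⟩ => hi ▸ (t.equivFin.symm i).2, fun hx => ⟨t.equivFin ⟨x, hx⟩, by simp [z]⟩⟩
  have hzm : ∀ i, z i ∈ maximalIdeal R := fun i => hz ▸ Ideal.subset_span ⟨i, rfl⟩
  suffices ∃ (Λ : Type u) (_ : CommRing Λ) (_ : IsDomain Λ) (_ : IsLocalRing Λ) (_ : IsNoetherianRing Λ)
      (π : Λ) (φ : Λ →+* R), maximalIdeal Λ = Ideal.span {π} ∧ Function.Surjective ((residue R).comp φ) by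
    obtain ⟨Λ, _, _, _, _, π, φ, hπ, hφ⟩ := this
    obtain ⟨g, hX, hC⟩ := CAlgCohen.exists_eval φ z hzm
    exact ⟨_, inferInstance, isRegularLocalRing_mvPowerSeries Λ π hπ t.card, g,
      CAlgCohen.surjective_eval φ hφ z g hX hC hz⟩
  obtain ⟨p, hp⟩ := CharP.exists (ResidueField R)
  rcases CharP.char_is_prime_or_zero (ResidueField R) p with hpr | rfl
  · haveI := Fact.mk hpr
    obtain ⟨Λ, _, _, _, φ, -, hm, hφ⟩ := CAlgCohen.exists_cohen_map R p
    exact ⟨Λ, inferInstance, inferInstance, inferInstance, inferInstance, (p : Λ), φ, hm, hφ⟩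
  · obtain ⟨s, hs⟩ := CAlgCohen.exists_coefficientField R fun p hp h0 => absurd h0 (by
      have := CharP.charP_to_charZero (ResidueField R)
      exact_mod_cast hp.ne_zero)
    refine ⟨ResidueField R, inferInstance, inferInstance, inferInstance, inferInstance, 0, s, ?_, fun x => ⟨x, RingHom.congr_fun hs x⟩⟩
    rw [Ideal.span_singleton_zero]
    exact isField_iff_maximalIdeal_eq.1 (Field.toIsField _)

/-- Cutting a Gorenstein cover down to the dimension of the quotient. -/
theorem exists_gorenstein_cover_of_surjective {S : Type u} [CommRing S] [hS : IsGorensteinLocalRing S]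
    (g : S →+* R) (hg : Function.Surjective g) [Nontrivial R] (n c : ℕ) (hn : ringKrullDim R = n)
    (hS' : ringKrullDim S = (n + c : ℕ)) :
    ∃ (A : Type u) (_ : CommRing A) (_ : IsGorensteinLocalRing A) (π : A →+* R),
      Function.Surjective π ∧ ringKrullDim A = n := by
  induction c generalizing S with
  | zero => exact ⟨S, inferInstance, hS, g, hg, by simpa using hS'⟩
  | succ c ih =>
    have hCM := isCohenMacaulayLocalRing_of_gorenstein (R := S)
    have hle : RingHom.ker g ≤ maximalIdeal S := IsLocalRing.le_maximalIdeal (RingHom.ker_ne_top g)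
    have hI : RingHom.ker g • (⊤ : Submodule S S) ≠ ⊤ := Depth.smul_top_ne_top_self (RingHom.ker_ne_top g)
    have h1 : 1 ≤ idealDepth (RingHom.ker g) S := Order.one_le_iff_ne_zero.mpr fun h0 => by
      obtain ⟨P, hP, hgP⟩ := (Depth.idealDepth_eq_zero_iff hI).mp h0
      have h2 := Depth.ringKrullDim_quotient_eq_of_mem_associatedPrimes (Depth.isCohenMacaulayModule_self (R := S)) hP
      rw [Module.supportDim_self_eq_ringKrullDim, hS'] at h2
      have h3 : ringKrullDim (S ⧸ P) ≤ ringKrullDim R := by
        rw [← ringKrullDim_eq_of_ringEquiv (RingHom.quotientKerEquivOfSurjective hg)]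
        exact ringKrullDim_le_of_surjective (Ideal.Quotient.factor hgP) (Ideal.Quotient.factor_surjective hgP)
      rw [h2, hn] at h3
      norm_cast at h3
      omega
    obtain ⟨f, hf, hreg⟩ := (Depth.one_le_idealDepth_iff hI).mp h1
    have := (GorenBasic.isGorensteinLocalRing_quotient_iff f hreg (hle hf)).mp hS
    refine ih (S := S ⧸ Ideal.span {f}) (Ideal.Quotient.lift _ g (fun a ha => ?_))
      (Ideal.Quotient.lift_surjective_of_surjective _ _ hg) ?_
    · obtain ⟨b, rfl⟩ := Ideal.mem_span_singleton'.mp ha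
      rw [map_mul, RingHom.mem_ker.mp hf, mul_zero]
    · have h2 := ringKrullDim_quotient_span_singleton_succ_eq_ringKrullDim_of_mem_nonZeroDivisors
        (R := S) (x := f) ?_ (hle hf)
      · rw [hS', show ((n + (c + 1) : ℕ) : WithBot ℕ∞) = ((n + c : ℕ) : WithBot ℕ∞) + 1 by push_cast; rw [add_assoc]] at h2
        exact Depth.withBot_add_one_cancel h2
      · rw [← isRegular_iff_mem_nonZeroDivisors]
        exact ⟨hreg, fun a b hab => hreg (by simpa [mul_comm] using hab)⟩

/-- A complete Noetherian local ring is a quotient of a Gorenstein local ring of the same dimension. -/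
theorem exists_gorenstein_cover [IsLocalRing R] [IsNoetherianRing R] [IsAdicComplete (maximalIdeal R) R]
    (n : ℕ) (hn : ringKrullDim R = n) :
    ∃ (A : Type u) (_ : CommRing A) (_ : IsGorensteinLocalRing A) (π : A →+* R),
      Function.Surjective π ∧ ringKrullDim A = n := by
  obtain ⟨S, _, _, g, hg⟩ := exists_regular_surjection (R := R)
  have := GorenBasic.isGorensteinLocalRing_of_isRegularLocalRing S
  obtain ⟨d, hd⟩ := CAlgReg.exists_dim (R := S)
  have hle := ringKrullDim_le_of_surjective g hg
  rw [hn, hd] at hle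
  obtain ⟨c, rfl⟩ := Nat.exists_eq_add_of_le (show n ≤ d by exact_mod_cast hle)
  exact exists_gorenstein_cover_of_surjective g hg n c hn hd

end Groth.Agent.LocDuality
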