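import Groth.Prelude.Def_CAlg
import Groth.Agent.GorenBasic.Basic
import Mathlib.Algebra.Module.FinitePresentation
import Mathlib.Algebra.Category.ModuleCat.EnoughInjectives
import Mathlib.CategoryTheory.Abelian.Injective.Dimension

/-!
# Localisation of injective modules and of Gorenstein rings
-/

universe u

open CategoryTheory Limits

namespace Groth.Agent.LocDuality

variable {R : Type u} [CommRing R] [IsNoetherianRing R] (S : Submonoid R)

/-- Localisations of injective modules over Noetherian rings are injective. -/
theorem injective_localizedModule (I : Type u) [AddCommGroup I] [Module R I] [Module.Injective R I] :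
    Module.Injective (Localization S) (LocalizedModule S I) := by
  refine Module.Baer.injective fun J g => ?_
  let J₀ : Ideal R := J.comap (algebraMap R (Localization S))
  let ι : J₀ →ₗ[R] J :=
    { toFun := fun j => ⟨algebraMap R _ j.1, j.2⟩
      map_add' := fun _ _ => Subtype.ext (map_add _ _ _)
      map_smul' := fun r j => Subtype.ext (by
        show algebraMap R (Localization S) (r * j.1) = r • algebraMap R (Localization S) j.1
        rw [map_mul, Algebra.smul_def]) }
  have : Module.FinitePresentation R J₀ := Module.finitePresentation_of_finite R J₀
  obtain ⟨φ, s, hφ⟩ := Module.FinitePresentation.exists_lift_of_isLocalizedModule S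
    (LocalizedModule.mkLinearMap S I) (g.restrictScalars R ∘ₗ ι)
  obtain ⟨Φ, hΦ⟩ := Module.Injective.extension_property R I _ _ J₀.subtype (Submodule.injective_subtype _) φ
  refine ⟨LinearMap.toSpanSingleton (Localization S) _
    ((IsLocalization.mk' (Localization S) 1 s) • LocalizedModule.mkLinearMap S I (Φ 1)), fun x hx => ?_⟩
  obtain ⟨j, t, rfl⟩ := IsLocalization.exists_mk'_eq S x
  have hj : j ∈ J₀ := by
    have := J.mul_mem_right (algebraMap R (Localization S) t) hx
    rwa [IsLocalization.mk'_spec] at this
  have h1 : (s : R) • g ⟨algebraMap R _ j, hj⟩ = j • LocalizedModule.mkLinearMap S I (Φ 1) := by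
    have ha := LinearMap.congr_fun hφ ⟨j, hj⟩
    have hb : φ ⟨j, hj⟩ = j • Φ 1 := by
      rw [← hΦ, ← map_smul, smul_eq_mul, mul_one]; rfl
    exact ha.symm.trans (by rw [LinearMap.comp_apply, hb, map_smul])
  have e : (⟨IsLocalization.mk' (Localization S) j t, hx⟩ : J) =
      IsLocalization.mk' (Localization S) 1 t • (⟨algebraMap R _ j, hj⟩ : J) :=
    Subtype.ext (show IsLocalization.mk' (Localization S) j t = IsLocalization.mk' (Localization S) 1 t * algebraMap R _ j by
      rw [mul_comm, IsLocalization.mul_mk'_eq_mk'_of_mul, mul_one])
  rw [e, map_smul, LinearMap.toSpanSingleton_apply, IsLocalization.mk'_eq_mul_mk'_one (M := S) j t,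
    mul_comm, mul_smul]
  congr 1
  have h2 : IsLocalization.mk' (Localization S) 1 s • ((s : R) • g ⟨algebraMap R _ j, hj⟩) = g ⟨algebraMap R _ j, hj⟩ := by
    rw [← algebraMap_smul (Localization S) (s : R), smul_smul, IsLocalization.mk'_spec, map_one, one_smul]
  rw [← h2, h1, smul_comm, algebraMap_smul]

/-- Localisation does not increase the injective dimension. -/
theorem hasInjectiveDimensionLT_localized : ∀ (n : ℕ) (M : ModuleCat.{u} R) [HasInjectiveDimensionLT M n],
    HasInjectiveDimensionLT (ModuleCat.of (Localization S) (LocalizedModule S M)) n := by
  intro n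
  induction n with
  | zero =>
    intro M _
    have : Subsingleton M := ModuleCat.subsingleton_of_isZero (isZero_of_hasInjectiveDimensionLT_zero M)
    have : Subsingleton (LocalizedModule S M) := subsingleton_of_forall_eq 0 fun x => by
      induction x using LocalizedModule.induction_on with
      | h m s => rw [Subsingleton.elim m 0, LocalizedModule.zero_mk]
    exact (ModuleCat.isZero_of_subsingleton (ModuleCat.of (Localization S) (LocalizedModule S M))).hasInjectiveDimensionLT_zero
  | succ n ih =>
    intro M hM
    rcases Nat.eq_zero_or_pos n with rfl | hn
    · have h1 : Injective M := injective_iff_hasInjectiveDimensionLT_one.mpr hM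
      have : Module.Injective R M := Module.injective_module_of_injective_object (inj := h1) R M
      have := injective_localizedModule S M
      exact injective_iff_hasInjectiveDimensionLT_one.mp (Module.injective_object_of_injective_module (inj := this) (Localization S) (LocalizedModule S M))
    let I := Injective.under M
    have hI : Injective I := inferInstanceAs (Injective (Injective.under M))
    let T := ShortComplex.mk (Injective.ι M) (cokernel.π _) (cokernel.condition _)
    have hT : T.ShortExact := { exact := ShortComplex.exact_cokernel _ }
    obtain ⟨m, rfl⟩ : ∃ m, n = m + 1 := ⟨n - 1, by omega⟩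
    have hC : HasInjectiveDimensionLT T.X₃ (m + 1) := hT.hasInjectiveDimensionLT_X₃ (m + 1) (hasInjectiveDimensionLT_of_ge T.X₂ 1 _ (by omega)) hM
    have hC' := ih T.X₃
    have : Module.Injective R I := Module.injective_module_of_injective_object (inj := hI) R I
    have := injective_localizedModule S I
    have hI' : Injective (ModuleCat.of (Localization S) (LocalizedModule S I)) :=
      Module.injective_object_of_injective_module (inj := this) (Localization S) (LocalizedModule S I)
    let f' : LocalizedModule S M →ₗ[Localization S] LocalizedModule S I := LocalizedModule.map S T.f.hom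
    let g' : LocalizedModule S I →ₗ[Localization S] LocalizedModule S T.X₃ := LocalizedModule.map S T.g.hom
    have hex : Function.Exact f' g' := LocalizedModule.map_exact S T.f.hom T.g.hom ((ShortComplex.ShortExact.moduleCat_exact_iff_function_exact T).mp hT.exact)
    let T' := ModuleCat.shortComplexOfCompEqZero f' g' hex.linearMap_comp_eq_zero
    have hT' : T'.ShortExact := ModuleCat.shortComplex_shortExact _ hex
      (LocalizedModule.map_injective S T.f.hom hT.moduleCat_injective_f)
      (LocalizedModule.map_surjective S T.g.hom hT.moduleCat_surjective_g)
    exact hT'.hasInjectiveDimensionLT_X₁ (m + 1) hC' (hasInjectiveDimensionLT_of_ge T'.X₂ 1 _ (by omega))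

/-- Localisations of Gorenstein local rings are Gorenstein. -/
theorem isGorensteinLocalRing_atPrime (A : Type u) [CommRing A] [h : LocCoh.IsGorensteinLocalRing A]
    (p : Ideal A) [p.IsPrime] : LocCoh.IsGorensteinLocalRing (Localization.AtPrime p) := by
  obtain ⟨n, hn⟩ := h.exists_hasInjectiveDimensionLT
  have := hasInjectiveDimensionLT_localized p.primeCompl n (ModuleCat.of A A)
  have : IsNoetherianRing (Localization.AtPrime p) := IsLocalization.isNoetherianRing p.primeCompl _ inferInstance
  exact { exists_hasInjectiveDimensionLT := ⟨n, hasInjectiveDimensionLT_of_iso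
    (((IsLocalizedModule.iso p.primeCompl (Algebra.linearMap A (Localization.AtPrime p))).extendScalarsOfIsLocalization
      p.primeCompl (Localization.AtPrime p)).toModuleIso : ModuleCat.of (Localization.AtPrime p) (LocalizedModule p.primeCompl A) ≅ ModuleCat.of (Localization.AtPrime p) (Localization.AtPrime p)) n⟩ }

end Groth.Agent.LocDuality
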