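import Groth.Agent.LocDuality.Reflexive
import Groth.Agent.LocDuality.GorenLocal
import Groth.Agent.LocCohBasic.Finiteness

/-!
# Double duals at primes of height at most one, and duals at minimal primes
-/

universe u

open CategoryTheory LocCoh Function IsLocalRing Groth.Agent.LocCohBasic

namespace Groth.Agent.LocDuality

noncomputable section

variable {A : Type u} [CommRing A] (P : Ideal A) [P.IsPrime] (M : Type u) [AddCommGroup M] [Module A M]

/-- Localisation of functionals. -/
def dualLoc : (M →ₗ[A] A) →ₗ[A]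
    (LocalizedModule P.primeCompl M →ₗ[Localization.AtPrime P] Localization.AtPrime P) where
  toFun φ := (IsLocalizedModule.map P.primeCompl (LocalizedModule.mkLinearMap P.primeCompl M)
    (Algebra.linearMap A (Localization.AtPrime P)) φ).extendScalarsOfIsLocalization P.primeCompl _
  map_add' φ ψ := LinearMap.ext fun x => by rw [map_add]; rfl
  map_smul' r φ := LinearMap.ext fun x => by rw [map_smul]; rfl

lemma dualLoc_apply (φ : M →ₗ[A] A) (m : M) :
    dualLoc P M φ (LocalizedModule.mkLinearMap P.primeCompl M m) = algebraMap A _ (φ m) :=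
  IsLocalizedModule.map_apply P.primeCompl _ (Algebra.linearMap A (Localization.AtPrime P)) φ m

instance [IsNoetherianRing A] [Module.Finite A M] : IsLocalizedModule P.primeCompl (dualLoc P M) := by
  have : Module.FinitePresentation A M := Module.finitePresentation_of_finite A M
  have hext : ∀ g g' : LocalizedModule P.primeCompl M →ₗ[Localization.AtPrime P] Localization.AtPrime P,
      (∀ m, g (LocalizedModule.mkLinearMap P.primeCompl M m) = g' (LocalizedModule.mkLinearMap P.primeCompl M m)) → g = g' :=
    fun g g' h => LinearMap.restrictScalars_injective A (IsLocalizedModule.ext P.primeCompl (LocalizedModule.mkLinearMap P.primeCompl M)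
      (IsLocalizedModule.map_units (Algebra.linearMap A (Localization.AtPrime P))) (LinearMap.ext h))
  refine ⟨fun s => (Module.End.isUnit_iff _).mpr ?_, fun g => ?_, fun {φ ψ} h => ?_⟩
  · let u := (IsLocalization.map_units (M := P.primeCompl) (Localization.AtPrime P) s).unit
    refine ⟨fun g g' h => LinearMap.ext fun x => ?_, fun g => ⟨(↑u⁻¹ : Localization.AtPrime P) • g, LinearMap.ext fun x => ?_⟩⟩
    · have h1 : (s : A) • g x = (s : A) • g' x := LinearMap.congr_fun h x
      rw [Algebra.smul_def, Algebra.smul_def] at h1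
      exact (IsLocalization.map_units (Localization.AtPrime P) s).mul_left_cancel h1
    · change (s : A) • ((↑u⁻¹ : Localization.AtPrime P) • g x) = g x
      rw [← algebraMap_smul (Localization.AtPrime P) (s : A), smul_smul]
      erw [u.mul_inv, one_smul]
  · obtain ⟨φ, s, hφ⟩ := Module.FinitePresentation.exists_lift_of_isLocalizedModule P.primeCompl
      (Algebra.linearMap A (Localization.AtPrime P)) (g.restrictScalars A ∘ₗ LocalizedModule.mkLinearMap P.primeCompl M)
    exact ⟨(φ, s), hext _ _ fun m => ((dualLoc_apply P M φ m).trans (LinearMap.congr_fun hφ m)).symm⟩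
  · refine Module.Finite.exists_smul_of_comp_eq_of_isLocalizedModule P.primeCompl
      (Algebra.linearMap A (Localization.AtPrime P)) φ ψ (LinearMap.ext fun m => ?_)
    have := LinearMap.congr_fun h (LocalizedModule.mkLinearMap P.primeCompl M m)
    rwa [dualLoc_apply, dualLoc_apply] at this

variable [IsGorensteinLocalRing A] [Module.Finite A M]

/-- At a prime of height at most one every functional on the dual is an evaluation. -/
theorem exists_eval_of_height_le_one (hP : P.height ≤ 1) (Φ : (M →ₗ[A] A) →ₗ[A] A) :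
    ∃ s ∉ P, ∃ x : M, ∀ φ : M →ₗ[A] A, s * Φ φ = φ x := by
  let L := Localization.AtPrime P
  let MP := LocalizedModule P.primeCompl M
  have := isGorensteinLocalRing_atPrime A P
  obtain ⟨h, hh, hh1⟩ : ∃ h : ℕ, ringKrullDim L = h ∧ h ≤ 1 := by
    obtain ⟨m, hm⟩ : ∃ m : ℕ, P.height = m := ⟨_, (ENat.natCast_toNat (ne_top_of_le_ne_top ENat.one_ne_top hP)).symm⟩
    refine ⟨m, ?_, by rw [hm] at hP; exact_mod_cast hP⟩
    rw [IsLocalization.AtPrime.ringKrullDim_eq_height P, hm]; rfl
  have : Module.Finite L MP := Module.Finite.of_isLocalizedModule P.primeCompl (LocalizedModule.mkLinearMap P.primeCompl M)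
  let ΦP : (MP →ₗ[L] L) →ₗ[L] L :=
    (IsLocalizedModule.lift P.primeCompl (dualLoc P M) (Algebra.linearMap A L ∘ₗ Φ)
      (IsLocalizedModule.map_units (Algebra.linearMap A L))).extendScalarsOfIsLocalization P.primeCompl L
  have hΦP : ∀ φ, ΦP (dualLoc P M φ) = algebraMap A L (Φ φ) := fun φ =>
    IsLocalizedModule.lift_apply P.primeCompl (dualLoc P M) _ (IsLocalizedModule.map_units (Algebra.linearMap A L)) φ
  obtain ⟨z, hz⟩ : ∃ z : MP, ∀ g : MP →ₗ[L] L, ΦP g = g z := by
    rcases Nat.eq_zero_or_pos h with rfl | hpos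
    · obtain ⟨a, π, hπ⟩ := Module.Finite.exists_fin' L MP
      exact exists_eval hh π hπ (by simp) ΦP
    obtain rfl : h = 1 := by omega
    let T := DRing.torsionSub (maximalIdeal L) MP
    have hT : ∀ (g : MP →ₗ[L] L), T ≤ LinearMap.ker g := fun g x ⟨k, hk⟩ => by
      have hs := subsingleton_low hh 0 one_pos
      have h0 : Subsingleton (DRing.torsionSub (maximalIdeal L) (ModuleCat.of L L)) :=
        (h0Equiv (maximalIdeal L) (ModuleCat.of L L)).symm.toEquiv.subsingleton
      exact congrArg Subtype.val (@Subsingleton.elim _ h0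
        ⟨g x, k, fun a ha => (map_smul g a x).symm.trans ((congrArg g (hk a ha)).trans (map_zero g))⟩ 0)
    have hQ : ((1 : ℕ) : ℕ∞) ≤ depth L (MP ⧸ T) :=
      (le_idealDepth_iff_subsingleton (maximalIdeal L) (ModuleCat.of L (MP ⧸ T))).mpr fun i hi => by
        obtain rfl : i = 0 := by omega
        exact subsingleton_zero_modTorsion (maximalIdeal L) (ModuleCat.of L MP)
    obtain ⟨a, π, hπ⟩ := Module.Finite.exists_fin' L (MP ⧸ T)
    obtain ⟨zb, hzb⟩ := exists_eval hh π hπ hQ (ΦP ∘ₗ T.mkQ.lcomp L L)
    obtain ⟨z, rfl⟩ := Submodule.Quotient.mk_surjective _ zb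
    refine ⟨z, fun g => ?_⟩
    have := hzb (T.liftQ g (hT g))
    rwa [LinearMap.comp_apply, LinearMap.lcomp_apply', Submodule.liftQ_mkQ, Submodule.liftQ_apply] at this
  obtain ⟨⟨x, s⟩, hx⟩ := IsLocalizedModule.surj P.primeCompl (LocalizedModule.mkLinearMap P.primeCompl M) z
  have heq : Algebra.linearMap A L ∘ₗ ((s : A) • Φ) = Algebra.linearMap A L ∘ₗ LinearMap.applyₗ x := LinearMap.ext fun φ => by
    have h1 : dualLoc P M φ ((s : A) • z) = algebraMap A L (φ x) := by rw [← dualLoc_apply P M φ x, ← hx]; rfl
    change algebraMap A L ((s : A) * Φ φ) = algebraMap A L (φ x)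
    rw [← h1, LinearMap.map_smul_of_tower, ← hz, hΦP, map_mul, Algebra.smul_def]
  obtain ⟨t, ht⟩ := Module.Finite.exists_smul_of_comp_eq_of_isLocalizedModule P.primeCompl (Algebra.linearMap A L) _ _ heq
  refine ⟨t * s, (inferInstance : P.IsPrime).mem_or_mem.mt (not_or.mpr ⟨t.2, s.2⟩), (t : A) • x, fun φ => ?_⟩
  have := LinearMap.congr_fun ht φ
  rw [mul_assoc, map_smul]
  exact this

omit [Module.Finite A M] in
/-- An element killed by all functionals vanishes at the minimal primes of the ring. -/
theorem exists_smul_eq_zero_of_forall_dual [Module.Finite A M] (hP : P.height = 0) {x : M}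
    (hx : ∀ φ : M →ₗ[A] A, φ x = 0) : ∃ t ∉ P, t • x = 0 := by
  let L := Localization.AtPrime P
  have := isGorensteinLocalRing_atPrime A P
  have hh : ringKrullDim L = ((0 : ℕ) : WithBot ℕ∞) := by
    rw [IsLocalization.AtPrime.ringKrullDim_eq_height P, hP]; rfl
  have : Module.Finite L (LocalizedModule P.primeCompl M) :=
    Module.Finite.of_isLocalizedModule P.primeCompl (LocalizedModule.mkLinearMap P.primeCompl M)
  have h0 : LocalizedModule.mkLinearMap P.primeCompl M x = 0 := eq_zero_of_forall_dual hh (by simp) fun g => by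
    obtain ⟨⟨φ, s⟩, hφ⟩ := IsLocalizedModule.surj P.primeCompl (dualLoc P M) g
    have h1 : (s : A) • g (LocalizedModule.mkLinearMap P.primeCompl M x) = 0 := by
      refine (LinearMap.congr_fun hφ (LocalizedModule.mkLinearMap P.primeCompl M x)).trans ?_
      rw [dualLoc_apply, hx, map_zero]
    rw [Algebra.smul_def] at h1
    exact (IsLocalization.map_units L s).mul_right_eq_zero.mp h1
  obtain ⟨t, ht⟩ := (IsLocalizedModule.eq_zero_iff P.primeCompl (LocalizedModule.mkLinearMap P.primeCompl M)).mp h0
  exact ⟨t, t.2, ht⟩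

end

end Groth.Agent.LocDuality
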