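import Groth.Agent.LocDuality.Duality
import Groth.Agent.LocCohBasic.Depth
import Groth.Agent.LocCohBasic.Artinian
import Groth.Agent.GorenBasic.Basic
import Groth.Agent.MatlisDual.Local

/-!
# Local duality over Gorenstein local rings
-/

universe u

open CategoryTheory Abelian LocCoh IsLocalRing Function InjHull

namespace Groth.Agent.LocDuality

open Groth.Agent.LocCohBasic

noncomputable section

variable {R : Type u} [CommRing R] [LocCoh.IsGorensteinLocalRing R] {n : ℕ}

lemma subsingleton_low (hn : ringKrullDim R = n) : ∀ i < n, Subsingleton (LocCoh.H (maximalIdeal R) i R) := by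
  obtain ⟨d, hd, hdepth, -⟩ := GorenBasic.gorenstein_dim (R := R)
  obtain rfl : n = d := by rw [hn] at hd; exact_mod_cast hd
  intro i hi
  exact subsingleton_of_lt_idealDepth (maximalIdeal R) (M := ModuleCat.of R R)
    (by
      change (i : ℕ∞) < LocCoh.depth R R
      rw [hdepth]; exact_mod_cast hi)

lemma hasInjectiveDimensionLT_self (hn : ringKrullDim R = n) :
    HasInjectiveDimensionLT (ModuleCat.of R R) (n + 1) := by
  obtain ⟨d, hd, -, hvan, -⟩ := GorenBasic.gorenstein_dim (R := R)
  obtain rfl : n = d := by rw [hn] at hd; exact_mod_cast hd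
  refine HasInjectiveDimensionLT.mk fun i hi N e => ?_
  obtain ⟨j, rfl⟩ : ∃ j, i = j + 1 := ⟨i - 1, by omega⟩
  exact @Subsingleton.elim _ (CAlgReg.subsingleton_ext_of_forall_quotient j (ModuleCat.of R R)
    (fun J => GorenBasic.subsingleton_ext_of_residueField (ModuleCat.of R R)
      (fun k hk => hvan k (by omega)) (R ⧸ J) hi) N) e 0

theorem injective_top (hn : ringKrullDim R = n) :
    Module.Injective R (LocCoh.H (maximalIdeal R) n R) := by
  have := hasInjectiveDimensionLT_self hn
  refine injective_localCohomology (maximalIdeal R) n (ModuleCat.of R R) ?_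
    fun i _ hi => subsingleton_low hn i hi
  rcases Nat.eq_zero_or_pos n with rfl | hpos
  · have : Injective (ModuleCat.of R R) :=
      injective_iff_hasInjectiveDimensionLT_one.mpr this
    have : Module.Injective R R := Module.injective_module_of_injective_object (inj := this) R R
    exact injective_torsionSub _ _
  · have h0 : Subsingleton ((localCohomology (maximalIdeal R) 0).obj (ModuleCat.of R R)) :=
      subsingleton_low hn 0 hpos
    have : Subsingleton (DRing.torsionSub (maximalIdeal R) (ModuleCat.of R R)) :=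
      (h0Equiv (maximalIdeal R) (ModuleCat.of R R)).symm.toEquiv.subsingleton
    exact ⟨fun X Y _ _ _ _ _ _ g => ⟨0, fun x => Subsingleton.elim _ _⟩⟩

omit [LocCoh.IsGorensteinLocalRing R] in
lemma residue_smul_eq_zero [IsLocalRing R] (a : R) (ha : a ∈ maximalIdeal R) (x : ResidueField R) : a • x = 0 :=
  MatlisDual.maximalIdeal_smul_residue ha x

omit [LocCoh.IsGorensteinLocalRing R] in
lemma isPowerTorsion_H [IsLocalRing R] (I : Ideal R) (i : ℕ) (M : Type u) [AddCommGroup M] [Module R M] :
    IsPowerTorsion I (LocCoh.H I i M) :=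
  fun y => exists_pow_smul_eq_zero I (ModuleCat.of R M) y

/-- The top local cohomology of a Gorenstein local ring is the injective hull of the residue field. -/
theorem exists_isInjectiveHull_top (hn : ringKrullDim R = n) :
    ∃ g : ResidueField R →ₗ[R] LocCoh.H (maximalIdeal R) n R, IsInjectiveHull g := by
  have hinj := injective_top hn
  obtain ⟨d, hd, -, -, hne⟩ := GorenBasic.gorenstein_dim (R := R)
  obtain rfl : n = d := by rw [hn] at hd; exact_mod_cast hd
  let V := Ext (ModuleCat.of R (ResidueField R)) (ModuleCat.of R R) n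
  obtain ⟨s⟩ := nonempty_ext_equiv_hom (maximalIdeal R) (ResidueField R) residue_smul_eq_zero n
    (ModuleCat.of R R) (subsingleton_low hn)
  -- duality with `E := H^n(R)`
  obtain ⟨D⟩ := nonempty_duality (maximalIdeal R) hn
    (LinearMap.ringLmapEquivSelf R R (LocCoh.H (maximalIdeal R) n R)) (subsingleton_low hn) n le_rfl
    (ResidueField R)
  rw [Nat.sub_self] at D
  have hk : DRing.torsionSub (maximalIdeal R) (ModuleCat.of R (ResidueField R)) = ⊤ := eq_top_iff.mpr fun x _ =>
    ⟨1, fun a ha => residue_smul_eq_zero a (by rwa [pow_one] at ha) x⟩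
  let D' : ResidueField R ≃ₗ[R] (V →ₗ[R] LocCoh.H (maximalIdeal R) n R) :=
    ((h0Equiv (maximalIdeal R) (ModuleCat.of R (ResidueField R))).trans (LinearEquiv.ofTop _ hk)).symm.trans D
  have hksimple : IsSimpleModule R (ResidueField R) :=
    isSimpleModule_iff_quot_maximal.mpr ⟨maximalIdeal R, inferInstance, ⟨LinearEquiv.refl R (R ⧸ maximalIdeal R)⟩⟩
  have hVsimple : IsSimpleModule R (V →ₗ[R] LocCoh.H (maximalIdeal R) n R) :=
    IsSimpleModule.congr D'.symm
  have hVnt : Nontrivial V := not_subsingleton_iff_nontrivial.mp hne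
  obtain ⟨v, hv⟩ := exists_ne (0 : V)
  have hvk : ∀ a ∈ maximalIdeal R, a • v = 0 := fun a ha => s.injective (by
    rw [map_smul, map_zero]
    exact LinearMap.ext fun x => by rw [LinearMap.smul_apply, ← map_smul, residue_smul_eq_zero a ha, map_zero]; rfl)
  let g : ResidueField R →ₗ[R] V := Submodule.liftQ (maximalIdeal R) (LinearMap.toSpanSingleton R V v) hvk
  have hg1 : g 1 = v := one_smul R v
  have hg : Injective g :=
    (LinearMap.injective_or_eq_zero g).resolve_right fun h0 => hv (by rw [← hg1, h0]; rfl)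
  let res := (LinearMap.lcomp R (LocCoh.H (maximalIdeal R) n R) g)
  have hres : Surjective res := fun φ => Module.Injective.extension_property R _ _ _ g hg φ
  have hres0 : res ≠ 0 := fun h0 => by
    obtain ⟨φ, hφ⟩ := hres (s v)
    rw [h0, LinearMap.zero_apply] at hφ
    exact hv (s.injective (by rw [map_zero]; exact hφ.symm))
  have hresi : Injective res := (LinearMap.injective_or_eq_zero res).resolve_right hres0
  have : IsSimpleModule R (ResidueField R →ₗ[R] LocCoh.H (maximalIdeal R) n R) :=
    IsSimpleModule.congr (LinearEquiv.ofBijective res ⟨hresi, hres⟩).symm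
  obtain ⟨g', hg'⟩ := MatlisDual.exists_isEssentialInj (isPowerTorsion_H _ n R) this
  exact ⟨g', { toIsEssentialInj := hg', isInjective := hinj }⟩

variable {E : Type u} [AddCommGroup E] [Module R E] {f : ResidueField R →ₗ[R] E}

/-- `Hom(R, E) ≅ H^n(R)`. -/
theorem nonempty_selfEquiv (hn : ringKrullDim R = n) (hf : IsInjectiveHull f) :
    Nonempty ((R →ₗ[R] E) ≃ₗ[R] LocCoh.H (maximalIdeal R) n R) := by
  obtain ⟨g, hg⟩ := exists_isInjectiveHull_top hn
  obtain ⟨e, -⟩ := InjHullBasic.exists_equiv hf hg
  exact ⟨(LinearMap.ringLmapEquivSelf R R E).trans e⟩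

/-- **Local duality** over a Gorenstein local ring. -/
theorem nonempty_gorenstein_duality (hn : ringKrullDim R = n) (hf : IsInjectiveHull f) (i : ℕ) (hi : i ≤ n)
    (M : Type u) [AddCommGroup M] [Module R M] [Module.Finite R M] :
    Nonempty (LocCoh.H (maximalIdeal R) (n - i) M ≃ₗ[R] (Ext (ModuleCat.of R M) (ModuleCat.of R R) i →ₗ[R] E)) := by
  obtain ⟨e⟩ := nonempty_selfEquiv hn hf
  have := hf.isInjective
  exact nonempty_duality (maximalIdeal R) hn e (subsingleton_low hn) i hi M

/-- Non-vanishing of local cohomology is non-vanishing of `Ext`. -/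
theorem subsingleton_H_iff (hn : ringKrullDim R = n) (i : ℕ) (hi : i ≤ n)
    (M : Type u) [AddCommGroup M] [Module R M] [Module.Finite R M] :
    Subsingleton (LocCoh.H (maximalIdeal R) (n - i) M) ↔
      Subsingleton (Ext (ModuleCat.of R M) (ModuleCat.of R R) i) := by
  obtain ⟨g, hg⟩ := exists_isInjectiveHull_top hn
  obtain ⟨D⟩ := nonempty_gorenstein_duality hn hg i hi M
  rw [D.toEquiv.subsingleton_congr]
  refine ⟨fun h => subsingleton_of_forall_eq 0 fun x => by_contra fun hx => ?_, fun h => inferInstance⟩
  obtain ⟨φ, hφ⟩ := MatlisDual.exists_apply_ne_zero hg hx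
  exact hφ (by rw [Subsingleton.elim φ 0, LinearMap.zero_apply])

end

end Groth.Agent.LocDuality
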