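import Groth.Agent.LocDuality.Socle
import Groth.Agent.LocCohBasic.TopDegree
import Groth.Agent.LocCohBasic.ProjDim
import Mathlib.Algebra.Category.ModuleCat.Projective
import Mathlib.LinearAlgebra.TensorProduct.RightExactness

/-!
# Local duality

Over a ring whose local cohomology `H^i_I(R)` vanishes for `i < n = dim R`, an isomorphism
`Hom(K, E) ≅ H^n_I(R)` with `E` injective gives `H^{n-i}_I(M) ≅ Hom(Ext^i(M, K), E)`.
-/

universe u

open CategoryTheory Limits Abelian LocCoh Function
open scoped TensorProduct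

namespace Groth.Agent.LocDuality

open Groth.Agent.LocCohBasic

noncomputable section

variable {R : Type u} [CommRing R] [IsNoetherianRing R] (I : Ideal R) {n : ℕ}

/-- `H^n_I` on linear maps. -/
def hMap (n : ℕ) {M N : Type u} [AddCommGroup M] [Module R M] [AddCommGroup N] [Module R N] (g : M →ₗ[R] N) :
    LocCoh.H I n M →ₗ[R] LocCoh.H I n N :=
  ((localCohomology I n).map (ModuleCat.ofHom g)).hom

variable {M N P : Type u} [AddCommGroup M] [Module R M] [AddCommGroup N] [Module R N]
  [AddCommGroup P] [Module R P]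

omit [IsNoetherianRing R] in
lemma hMap_comp (g : N →ₗ[R] P) (f : M →ₗ[R] N) (y : LocCoh.H I n M) :
    hMap I n (g ∘ₗ f) y = hMap I n g (hMap I n f y) := by
  change ((localCohomology I n).map (ModuleCat.ofHom f ≫ ModuleCat.ofHom g)).hom y = _
  rw [Functor.map_comp]
  rfl

omit [IsNoetherianRing R] in
lemma hMap_add (f g : M →ₗ[R] N) (y : LocCoh.H I n M) :
    hMap I n (f + g) y = hMap I n f y + hMap I n g y := by
  change ((localCohomology I n).map (ModuleCat.ofHom f + ModuleCat.ofHom g)).hom y = _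
  rw [Functor.map_add]
  rfl

omit [IsNoetherianRing R] in
lemma hMap_id (y : LocCoh.H I n M) : hMap I n LinearMap.id y = y := by
  change ((localCohomology I n).map (𝟙 (ModuleCat.of R M))).hom y = _
  rw [CategoryTheory.Functor.map_id]
  rfl

omit [IsNoetherianRing R] in
lemma hMap_zero (y : LocCoh.H I n M) : hMap I n (0 : M →ₗ[R] N) y = 0 := by
  change ((localCohomology I n).map (0 : ModuleCat.of R M ⟶ ModuleCat.of R N)).hom y = _
  rw [Functor.map_zero]
  rfl

variable (n) (M) in
/-- `M ⊗ H^n(R) → H^n(M)`. -/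
def tensorToH : M ⊗[R] LocCoh.H I n R →ₗ[R] LocCoh.H I n M :=
  TensorProduct.lift
    { toFun := fun m => hMap I n (LinearMap.toSpanSingleton R M m)
      map_add' := fun m m' => LinearMap.ext fun y => by
        rw [LinearMap.toSpanSingleton_add, hMap_add]; rfl
      map_smul' := fun r m => LinearMap.ext fun y => by
        rw [show LinearMap.toSpanSingleton R M (r • m) = LinearMap.lsmul R M r ∘ₗ LinearMap.toSpanSingleton R M m from
          LinearMap.ext_ring (by simp), hMap_comp]
        exact map_lsmul I (ModuleCat.of R M) r _ }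

omit [IsNoetherianRing R] in
lemma tensorToH_natural (g : M →ₗ[R] N) (z : M ⊗[R] LocCoh.H I n R) :
    hMap I n g (tensorToH I n M z) = tensorToH I n N (g.rTensor _ z) := by
  induction z with
  | zero => simp
  | add a b ha hb => simp only [map_add, ha, hb]
  | tmul m y =>
    change hMap I n g (hMap I n (LinearMap.toSpanSingleton R M m) y) = hMap I n (LinearMap.toSpanSingleton R N (g m)) y
    rw [← hMap_comp, LinearMap.comp_toSpanSingleton]

omit [IsNoetherianRing R] in
/-- `M ⊗ H^n(R) → H^n(M)` is bijective on free modules. -/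
lemma tensorToH_bijective_pi (m : ℕ) : Bijective (tensorToH I n (Fin m → R)) := by
  let ι : Fin m → (R →ₗ[R] (Fin m → R)) := fun j => LinearMap.single R (fun _ : Fin m => R) j
  let p : Fin m → ((Fin m → R) →ₗ[R] R) := fun j => LinearMap.proj j
  have h1 : ∀ (y : LocCoh.H I n R) j, tensorToH I n _ ((ι j 1) ⊗ₜ y) = hMap I n (ι j) y := fun y j => by
    change hMap I n (LinearMap.toSpanSingleton R _ (ι j 1)) y = _
    rw [show LinearMap.toSpanSingleton R _ (ι j 1) = ι j from LinearMap.ext_ring (one_smul _ _)]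
  let inv : LocCoh.H I n (Fin m → R) →ₗ[R] (Fin m → R) ⊗[R] LocCoh.H I n R :=
    ∑ j, (TensorProduct.mk R _ _ (ι j 1)) ∘ₗ hMap I n (p j)
  refine ⟨LeftInverse.injective (g := inv) fun z => ?_, RightInverse.surjective (g := inv) fun y => ?_⟩
  · induction z with
    | zero => simp
    | add a b ha hb => rw [map_add, map_add, ha, hb]
    | tmul v y =>
      have hv : ∀ j, hMap I n (p j) (hMap I n (LinearMap.toSpanSingleton R _ v) y) = v j • y := fun j => by
        rw [← hMap_comp, LinearMap.comp_toSpanSingleton,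
          show LinearMap.toSpanSingleton R R (p j v) = LinearMap.lsmul R R (v j) from
            LinearMap.ext_ring (by simp [p])]
        exact map_lsmul I (ModuleCat.of R R) _ _
      change inv (hMap I n (LinearMap.toSpanSingleton R _ v) y) = _
      simp only [inv, LinearMap.sum_apply, LinearMap.comp_apply, hv, TensorProduct.mk_apply,
        TensorProduct.tmul_smul, TensorProduct.smul_tmul', ← TensorProduct.sum_tmul]
      congr 1
      ext k
      simp [ι, Pi.single_apply]
  · have : ∀ s : Finset (Fin m), hMap I n (∑ j ∈ s, ι j ∘ₗ p j) y =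
        ∑ j ∈ s, hMap I n (ι j) (hMap I n (p j) y) := by
      intro s
      induction s using Finset.cons_induction with
      | empty => exact hMap_zero I y
      | cons a s has ih => rw [Finset.sum_cons, Finset.sum_cons, hMap_add, ih, hMap_comp]
    have hid : (∑ j, ι j ∘ₗ p j) = LinearMap.id := LinearMap.ext fun v => by
      simp [ι, p, LinearMap.sum_apply, Finset.univ_sum_single]
    simp only [inv, LinearMap.sum_apply, LinearMap.comp_apply, TensorProduct.mk_apply, map_sum, h1]
    rw [← this, hid, hMap_id]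

variable (hn : ringKrullDim R = n)

include hn in
lemma hMap_surjective (g : M →ₗ[R] N) (hg : Surjective g) : Surjective (hMap I n g) :=
  map_surjective_top I hn (ModuleCat.ofHom g) hg

include hn in
lemma hMap_exact {f : M →ₗ[R] N} {g : N →ₗ[R] P} (he : Exact f g) (hg : Surjective g) :
    Exact (hMap I n f) (hMap I n g) := by
  intro y
  constructor
  · intro hy
    let S := g.shortComplexKer
    obtain ⟨x, hx⟩ := exists_of_map_g_eq_zero I (LinearMap.shortExact_shortComplexKer hg) y hy
    have hf : ∀ m, f m ∈ LinearMap.ker g := fun m => he.apply_apply_eq_zero m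
    obtain ⟨v, rfl⟩ := hMap_surjective I hn (f.codRestrict _ hf) (fun z => by
      obtain ⟨m, hm⟩ := (he z.1).mp z.2
      exact ⟨m, Subtype.ext hm⟩) x
    refine ⟨v, ?_⟩
    rw [← hx]
    exact (hMap_comp I (LinearMap.ker g).subtype (f.codRestrict _ hf) v)
  · rintro ⟨x, rfl⟩
    rw [← hMap_comp, he.linearMap_comp_eq_zero, hMap_zero]

include hn in
lemma tensorToH_bijective [Module.Finite R M] : Bijective (tensorToH I n M) := by
  obtain ⟨a, π, hπ⟩ := Module.Finite.exists_fin' R M
  obtain ⟨b, σ, hσ⟩ := Module.Finite.exists_fin' R (LinearMap.ker π)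
  let f := (LinearMap.ker π).subtype ∘ₗ σ
  have he : Exact f π := fun x => ⟨fun hx => by
      obtain ⟨v, hv⟩ := hσ ⟨x, hx⟩
      exact ⟨v, congrArg Subtype.val hv⟩, by rintro ⟨v, rfl⟩; exact (σ v).2⟩
  refine ⟨(injective_iff_map_eq_zero _).mpr fun z hz => ?_, fun y => ?_⟩
  · obtain ⟨w, rfl⟩ := LinearMap.rTensor_surjective _ hπ z
    rw [← tensorToH_natural] at hz
    obtain ⟨v, hv⟩ := (hMap_exact I hn he hπ _).mp hz
    obtain ⟨v, rfl⟩ := (tensorToH_bijective_pi I b).2 v
    rw [tensorToH_natural] at hv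
    rw [← (tensorToH_bijective_pi I a).1 hv, ← LinearMap.comp_apply, ← LinearMap.rTensor_comp,
      he.linearMap_comp_eq_zero, LinearMap.rTensor_zero, LinearMap.zero_apply]
  · obtain ⟨w, rfl⟩ := hMap_surjective I hn π hπ y
    obtain ⟨w, rfl⟩ := (tensorToH_bijective_pi I a).2 w
    exact ⟨π.rTensor _ w, (tensorToH_natural I π w).symm⟩

section Eval

variable (K E : Type u) [AddCommGroup K] [Module R K] [AddCommGroup E] [Module R E]

variable (M) in
/-- `M ⊗ Hom(K, E) → Hom(Hom(M, K), E)`. -/
def evalMap : M ⊗[R] (K →ₗ[R] E) →ₗ[R] ((M →ₗ[R] K) →ₗ[R] E) :=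
  TensorProduct.lift
    { toFun := fun m => (LinearMap.lcomp R E (LinearMap.applyₗ m : (M →ₗ[R] K) →ₗ[R] K))
      map_add' := fun m m' => by ext φ ψ; simp
      map_smul' := fun r m => by ext φ ψ; simp }

omit [IsNoetherianRing R] in
lemma evalMap_natural (g : M →ₗ[R] N) (z : M ⊗[R] (K →ₗ[R] E)) :
    evalMap M K E z ∘ₗ g.lcomp R K = evalMap N K E (g.rTensor _ z) := by
  induction z with
  | zero => simp
  | add a b ha hb => rw [map_add, map_add, map_add, LinearMap.add_comp, ha, hb]
  | tmul m φ => ext ψ; rfl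

omit [IsNoetherianRing R] in
lemma evalMap_bijective_pi (m : ℕ) : Bijective (evalMap (R := R) (Fin m → R) K E) := by
  let ι : Fin m → (Fin m → R) := fun j => Pi.single j 1
  let emb : Fin m → (K →ₗ[R] ((Fin m → R) →ₗ[R] K)) := fun j =>
    { toFun := fun k => (LinearMap.toSpanSingleton R K k) ∘ₗ LinearMap.proj j
      map_add' := fun k k' => by ext v; simp
      map_smul' := fun r k => LinearMap.ext fun v => smul_comm (v j) r k }
  let inv : (((Fin m → R) →ₗ[R] K) →ₗ[R] E) →ₗ[R] (Fin m → R) ⊗[R] (K →ₗ[R] E) :=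
    ∑ j, (TensorProduct.mk R _ _ (ι j)) ∘ₗ (emb j).lcomp R E
  refine ⟨LeftInverse.injective (g := inv) fun z => ?_, RightInverse.surjective (g := inv) fun y => ?_⟩
  · induction z with
    | zero => simp
    | add a b ha hb => rw [map_add, map_add, ha, hb]
    | tmul v φ =>
      have hv : ∀ j, (evalMap _ K E (v ⊗ₜ φ)) ∘ₗ emb j = v j • φ := fun j => by
        ext k; simp [evalMap, emb]
      simp only [inv, LinearMap.sum_apply, LinearMap.comp_apply, LinearMap.lcomp_apply', hv,
        TensorProduct.mk_apply, TensorProduct.tmul_smul, TensorProduct.smul_tmul', ← TensorProduct.sum_tmul]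
      congr 1
      ext k
      simp [ι, Pi.single_apply]
  · refine LinearMap.ext fun ψ => ?_
    simp only [inv, LinearMap.sum_apply, LinearMap.comp_apply, TensorProduct.mk_apply, map_sum,
      LinearMap.lcomp_apply']
    change ∑ j, y (emb j (ψ (ι j))) = y ψ
    rw [← map_sum]
    congr 1
    refine LinearMap.pi_ext' fun i => LinearMap.ext_ring ?_
    simp [emb, ι, Pi.single_apply]

lemma evalMap_bijective [Module.Finite R M] [Module.Injective R E] : Bijective (evalMap (R := R) M K E) := by
  obtain ⟨a, π, hπ⟩ := Module.Finite.exists_fin' R M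
  obtain ⟨b, σ, hσ⟩ := Module.Finite.exists_fin' R (LinearMap.ker π)
  let f := (LinearMap.ker π).subtype ∘ₗ σ
  have he : Exact f π := fun x => ⟨fun hx => by
      obtain ⟨v, hv⟩ := hσ ⟨x, hx⟩
      exact ⟨v, congrArg Subtype.val hv⟩, by rintro ⟨v, rfl⟩; exact (σ v).2⟩
  have hinj : Injective (π.lcomp R K) := fun ψ ψ' h => LinearMap.ext fun y => by
    obtain ⟨x, rfl⟩ := hπ y
    exact LinearMap.congr_fun h x
  refine ⟨(injective_iff_map_eq_zero _).mpr fun z hz => ?_, fun y => ?_⟩
  · obtain ⟨w, rfl⟩ := LinearMap.rTensor_surjective _ hπ z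
    rw [← evalMap_natural] at hz
    -- the functional `evalMap w` kills `ker f^*`, hence factors through the image of `f^*`
    have hker : LinearMap.ker (f.lcomp R K) ≤ LinearMap.ker (evalMap _ K E w) := by
      intro ψ hψ
      have hle : LinearMap.ker π ≤ LinearMap.ker ψ := fun x hx => by
        obtain ⟨v, rfl⟩ := (he x).mp hx
        exact LinearMap.congr_fun hψ v
      let χ := (LinearMap.ker π).liftQ ψ hle ∘ₗ (π.quotKerEquivOfSurjective hπ).symm.toLinearMap
      have : ψ = π.lcomp R K χ := LinearMap.ext fun x => by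
        have h : (π.quotKerEquivOfSurjective hπ).symm (π x) = Submodule.Quotient.mk x := by
          rw [LinearEquiv.symm_apply_eq]; rfl
        simp [χ, h]
      rw [this]
      exact LinearMap.congr_fun hz χ
    obtain ⟨ρ, hρ⟩ := Module.Injective.extension_property R E _ _
      ((LinearMap.ker (f.lcomp R K)).liftQ (f.lcomp R K) le_rfl)
      (LinearMap.ker_eq_bot.mp (Submodule.ker_liftQ_eq_bot _ _ _ le_rfl))
      ((LinearMap.ker (f.lcomp R K)).liftQ (evalMap _ K E w) hker)
    obtain ⟨v, rfl⟩ := (evalMap_bijective_pi K E b).2 ρ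
    have hw : evalMap _ K E (f.rTensor _ v) = evalMap _ K E w := by
      rw [← evalMap_natural]
      exact LinearMap.ext fun ψ => LinearMap.congr_fun hρ (Submodule.Quotient.mk ψ)
    rw [← (evalMap_bijective_pi K E a).1 hw, ← LinearMap.comp_apply, ← LinearMap.rTensor_comp,
      he.linearMap_comp_eq_zero, LinearMap.rTensor_zero, LinearMap.zero_apply]
  · obtain ⟨ρ, rfl⟩ := Module.Injective.extension_property R E _ _ (π.lcomp R K) hinj y
    obtain ⟨w, rfl⟩ := (evalMap_bijective_pi K E a).2 ρ
    exact ⟨π.rTensor _ w, (evalMap_natural K E π w).symm⟩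

end Eval

variable {K E : Type u} [AddCommGroup K] [Module R K] [AddCommGroup E] [Module R E] [Module.Injective R E]
  (e : (K →ₗ[R] E) ≃ₗ[R] LocCoh.H I n R)

variable (M) in
/-- Duality in the top degree. -/
def topEquiv [Module.Finite R M] : LocCoh.H I n M ≃ₗ[R] ((M →ₗ[R] K) →ₗ[R] E) :=
  (LinearEquiv.ofBijective _ (tensorToH_bijective (M := M) I hn)).symm ≪≫ₗ
    (LinearEquiv.lTensor M e.symm) ≪≫ₗ LinearEquiv.ofBijective _ (evalMap_bijective (M := M) K E)

lemma topEquiv_tensor [Module.Finite R M] (z : M ⊗[R] LocCoh.H I n R) :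
    topEquiv I M hn e (tensorToH I n M z) = evalMap (R := R) M K E (e.symm.toLinearMap.lTensor M z) := by
  unfold topEquiv
  rw [LinearEquiv.trans_apply, LinearEquiv.trans_apply, LinearEquiv.ofBijective_symm_apply_apply]
  rfl

lemma topEquiv_natural [Module.Finite R M] [Module.Finite R N] (g : M →ₗ[R] N) (y : LocCoh.H I n M) :
    topEquiv I N hn e (hMap I n g y) = topEquiv I M hn e y ∘ₗ g.lcomp R K := by
  obtain ⟨z, rfl⟩ := (tensorToH_bijective (M := M) I hn).2 y
  rw [tensorToH_natural, topEquiv_tensor, topEquiv_tensor, evalMap_natural]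
  congr 1
  induction z with
  | zero => simp
  | add a b ha hb => simp only [map_add, ha, hb]
  | tmul m φ => rfl

variable (K M) in
/-- `Ext^0 = Hom`. -/
def ext0Equiv : Ext (ModuleCat.of R M) (ModuleCat.of R K) 0 ≃ₗ[R] (M →ₗ[R] K) :=
  (Ext.linearEquiv₀ (R := R)).trans (ModuleCat.homLinearEquiv (S := R))

omit [IsNoetherianRing R] in
lemma subsingleton_pi {i : ℕ} (h : Subsingleton (LocCoh.H I i R)) (m : ℕ) :
    Subsingleton (LocCoh.H I i (Fin m → R)) :=
  subsingleton_of_forall_eq 0 fun y => by
    simpa using smul_pi_eq_zero I (a := 1) (fun z => @Subsingleton.elim _ h _ _) y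

include hn e in
/-- **Local duality**: `H^{n-i}_I(M) ≅ Hom(Ext^i(M, K), E)`. -/
theorem nonempty_duality (hR : ∀ j < n, Subsingleton (LocCoh.H I j R)) :
    ∀ (i : ℕ), i ≤ n → ∀ (M : Type u) [AddCommGroup M] [Module R M] [Module.Finite R M],
      Nonempty (LocCoh.H I (n - i) M ≃ₗ[R] (Ext (ModuleCat.of R M) (ModuleCat.of R K) i →ₗ[R] E)) := by
  intro i
  induction i with
  | zero =>
    intro _ M _ _ _
    let φ := (ext0Equiv (R := R) M K).symm.congrLeft E R
    exact ⟨(topEquiv I M hn e).trans φ⟩
  | succ j ih =>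
    intro hj M _ _ _
    obtain ⟨a, π, hπ⟩ := Module.Finite.exists_fin' R M
    have hS := LinearMap.shortExact_shortComplexKer hπ
    have hlow : Subsingleton ((localCohomology I (n - (j + 1))).obj π.shortComplexKer.X₂) :=
      subsingleton_pi I (hR _ (by omega)) a
    have hproj : Projective π.shortComplexKer.X₂ :=
      (IsProjective.iff_projective (R := R) (Fin a → R)).mp inferInstance
    have hext : ∀ k, Subsingleton (Ext π.shortComplexKer.X₂ (ModuleCat.of R K) (k + 1)) := fun k =>
      subsingleton_of_forall_eq 0 fun x => x.eq_zero_of_projective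
    let c : Ext π.shortComplexKer.X₁ (ModuleCat.of R K) j →ₗ[R] Ext π.shortComplexKer.X₃ (ModuleCat.of R K) (j + 1) :=
      { toFun := fun x => hS.extClass.comp x (Nat.add_comm 1 j)
        map_add' := fun x y => Ext.comp_add _ x y _
        map_smul' := fun r x => Ext.comp_smul _ x _ r }
    have hc : Surjective c := fun y => by
      obtain ⟨x, hx⟩ := Ext.contravariant_sequence_exact₃ hS (ModuleCat.of R K) y
        (@Subsingleton.elim _ (hext j) _ _) (Nat.add_comm 1 j)
      exact ⟨x, hx⟩
    let δ : LocCoh.H I (n - (j + 1)) M →ₗ[R] LocCoh.H I (n - (j + 1) + 1) (LinearMap.ker π) :=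
      (delta I (n - (j + 1)) hS).hom
    have hδ : Injective δ := (injective_iff_map_eq_zero _).mpr fun z hz => by
      obtain ⟨w, rfl⟩ := exists_of_delta_eq_zero I hS z hz
      rw [@Subsingleton.elim _ hlow w 0, map_zero]
    rcases Nat.eq_zero_or_pos j with rfl | hjpos
    · obtain ⟨d, rfl⟩ : ∃ d, n = d + 1 := ⟨n - 1, by omega⟩
      let L0 : Ext π.shortComplexKer.X₁ (ModuleCat.of R K) 0 ≃ₗ[R] ((LinearMap.ker π) →ₗ[R] K) :=
        Ext.linearEquiv₀ (R := R) ≪≫ₗ ModuleCat.homLinearEquiv (S := R)
      let α := topEquiv I (LinearMap.ker π) hn e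
      let δ' : LocCoh.H I (d + 1 - 1) M →ₗ[R] ((LinearMap.ker π →ₗ[R] K) →ₗ[R] E) := α.toLinearMap ∘ₗ δ
      let c' : ((LinearMap.ker π →ₗ[R] K)) →ₗ[R] Ext π.shortComplexKer.X₃ (ModuleCat.of R K) 1 :=
        c ∘ₗ L0.symm.toLinearMap
      have hc' : Surjective c' := hc.comp L0.symm.surjective
      have hc'inj : Injective (c'.lcomp R E) := fun x y h => LinearMap.ext fun t => by
        obtain ⟨s, rfl⟩ := hc' t
        exact LinearMap.congr_fun h s
      have hrange : LinearMap.range δ' = LinearMap.range (c'.lcomp R E) := by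
        apply le_antisymm
        · rintro _ ⟨y, rfl⟩
          have h0 : ∀ χ : (Fin a → R) →ₗ[R] K, δ' y (χ ∘ₗ (LinearMap.ker π).subtype) = 0 := fun χ => by
            have h1 := topEquiv_natural I hn e (LinearMap.ker π).subtype (δ y)
            have h2 : hMap I (d + 1) (LinearMap.ker π).subtype (δ y) = 0 :=
              congrArg (fun k => k.hom y) (delta_comp_map I hS (n := d + 1 - 1))
            rw [h2, map_zero] at h1
            exact (LinearMap.congr_fun h1 χ).symm
          have hker : LinearMap.ker c' ≤ LinearMap.ker (δ' y) := by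
            intro ψ hψ
            obtain ⟨χ, hχ⟩ := Ext.contravariant_sequence_exact₁ hS (ModuleCat.of R K) (L0.symm ψ)
              (Nat.add_comm 1 0) hψ
            obtain ⟨χ, rfl⟩ := ((Ext.linearEquiv₀ (R := R)) ≪≫ₗ ModuleCat.homLinearEquiv (S := R) :
              Ext π.shortComplexKer.X₂ (ModuleCat.of R K) 0 ≃ₗ[R] ((Fin a → R) →ₗ[R] K)).symm.surjective χ
            have : ψ = χ ∘ₗ (LinearMap.ker π).subtype := by
              rw [← L0.apply_symm_apply ψ, ← hχ]
              change (Ext.addEquiv₀ ((Ext.mk₀ _).comp (Ext.mk₀ (ModuleCat.ofHom χ)) _)).hom = _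
              rw [Ext.mk₀_comp_mk₀, ← Ext.addEquiv₀_symm_apply, AddEquiv.apply_symm_apply]
              rfl
            rw [LinearMap.mem_ker, this]
            exact h0 χ
          refine ⟨(LinearMap.ker c').liftQ (δ' y) hker ∘ₗ (c'.quotKerEquivOfSurjective hc').symm.toLinearMap,
            LinearMap.ext fun ψ => ?_⟩
          have h : (c'.quotKerEquivOfSurjective hc').symm (c' ψ) = Submodule.Quotient.mk ψ := by
            rw [LinearEquiv.symm_apply_eq]; rfl
          simp [h]
        · rintro _ ⟨φ, rfl⟩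
          obtain ⟨z, hz⟩ := α.surjective (φ ∘ₗ c')
          have hz0 : hMap I (d + 1) (LinearMap.ker π).subtype z = 0 := by
            apply (topEquiv I (Fin a → R) hn e).injective
            rw [topEquiv_natural, map_zero]
            refine LinearMap.ext fun χ => ?_
            change α z (χ ∘ₗ (LinearMap.ker π).subtype) = 0
            rw [hz, LinearMap.comp_apply,
              show c' (χ ∘ₗ (LinearMap.ker π).subtype) = 0 from ?_, map_zero]
            change hS.extClass.comp (Ext.mk₀ (ModuleCat.ofHom (χ ∘ₗ (LinearMap.ker π).subtype))) (Nat.add_comm 1 0) = 0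
            rw [show ModuleCat.ofHom (χ ∘ₗ (LinearMap.ker π).subtype) = π.shortComplexKer.f ≫ ModuleCat.ofHom χ from rfl,
              ← Ext.mk₀_comp_mk₀, ← Ext.comp_assoc _ _ _ (add_zero 1) (zero_add 0) (by omega),
              hS.extClass_comp, Ext.zero_comp]
          obtain ⟨y, hy⟩ := exists_of_map_f_eq_zero I hS z hz0
          exact ⟨y, by rw [LinearMap.lcomp_apply', ← hz, ← hy]; rfl⟩
      exact ⟨LinearEquiv.ofInjective δ' (α.injective.comp hδ) ≪≫ₗ LinearEquiv.ofEq _ _ hrange ≪≫ₗ
        (LinearEquiv.ofInjective _ hc'inj).symm⟩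
    · have hδ' : Surjective δ := fun y =>
        exists_of_map_f_eq_zero I hS y (@Subsingleton.elim _ (subsingleton_pi I (hR _ (by omega)) a) _ _)
      have hci : Injective c := (injective_iff_map_eq_zero _).mpr fun x hx => by
        obtain ⟨w, hw⟩ := Ext.contravariant_sequence_exact₁ hS (ModuleCat.of R K) x (Nat.add_comm 1 j) hx
        obtain ⟨j, rfl⟩ := Nat.exists_eq_add_one.mpr hjpos
        rw [← hw, @Subsingleton.elim _ (hext j) w 0, Ext.comp_zero]
      obtain ⟨e'⟩ := ih (by omega) (LinearMap.ker π)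
      rw [show n - j = n - (j + 1) + 1 by omega] at e'
      exact ⟨LinearEquiv.ofBijective δ ⟨hδ, hδ'⟩ ≪≫ₗ e' ≪≫ₗ (LinearEquiv.ofBijective c ⟨hci, hc⟩).congrLeft E R⟩

end

end Groth.Agent.LocDuality
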