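import Groth.Agent.LocDuality.CanonBasic
import Groth.Agent.LocDuality.Gorenstein
import Groth.Agent.GorenBasic.Basic
import Groth.Agent.LocCohBasic.Finiteness
import Groth.Agent.LocCohBasic.Depth
import Mathlib.RingTheory.KrullDimension.Regular

/-!
# Canonical modules of Cohen–Macaulay local rings
-/

universe u

open CategoryTheory Limits Abelian LocCoh Function IsLocalRing Groth.Agent.LocCohBasic
open scoped Pointwise

namespace Groth.Agent.LocDuality

noncomputable section

variable {R : Type u} [CommRing R] [IsNoetherianRing R] [IsLocalRing R]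
  {E : Type u} [AddCommGroup E] [Module R E] {f : ResidueField R →ₗ[R] E} (hf : InjHull.IsInjectiveHull f)

omit [IsNoetherianRing R] in
/-- Modules of finite length are killed by a power of the maximal ideal. -/
lemma exists_pow_le_annihilator {X : Type u} [AddCommGroup X] [Module R X] (hX : IsFiniteLength R X) :
    ∃ k, maximalIdeal R ^ k ≤ Module.annihilator R X := by
  obtain ⟨_, _⟩ := isFiniteLength_iff_isNoetherian_isArtinian.mp hX
  obtain ⟨k, hk⟩ := IsArtinian.monotone_stabilizes
    (⟨fun k => OrderDual.toDual (maximalIdeal R ^ k • (⊤ : Submodule R X)),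
      fun i j hij => Submodule.smul_mono_left (Ideal.pow_le_pow_right hij)⟩ : ℕ →o (Submodule R X)ᵒᵈ)
  refine ⟨k, fun r hr => Module.mem_annihilator.mpr fun x => ?_⟩
  have h0 : maximalIdeal R ^ k • (⊤ : Submodule R X) = ⊥ :=
    Submodule.eq_bot_of_le_smul_of_le_jacobson_bot (maximalIdeal R) _ (IsNoetherian.noetherian _) (by
      have h1 : maximalIdeal R ^ k • (⊤ : Submodule R X) = maximalIdeal R ^ (k + 1) • ⊤ := hk (k + 1) (Nat.le_succ k)
      rw [← Submodule.mul_smul, ← pow_succ']
      exact h1.le) (maximalIdeal_le_jacobson _)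
  exact (Submodule.mem_bot R).mp (h0 ▸ Submodule.smul_mem_smul hr Submodule.mem_top)

omit [IsNoetherianRing R] in
/-- Modules of finite length have dimension at most zero. -/
lemma supportDim_le_zero {X : Type u} [AddCommGroup X] [Module R X] (hX : IsFiniteLength R X) :
    Module.supportDim R X ≤ 0 := by
  obtain ⟨k, hk⟩ := exists_pow_le_annihilator hX
  obtain ⟨_, _⟩ := isFiniteLength_iff_isNoetherian_isArtinian.mp hX
  have : Subsingleton (Module.support R X) := by
    refine ⟨fun ⟨p, hp⟩ ⟨q, hq⟩ => Subtype.ext ?_⟩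
    have h : ∀ p : PrimeSpectrum R, p ∈ Module.support R X → p.asIdeal = maximalIdeal R := fun p hp =>
      ((maximalIdeal.isMaximal R).eq_of_le p.2.ne_top (p.2.le_of_pow_le (hk.trans
        (Module.annihilator_le_of_mem_support hp)))).symm
    exact PrimeSpectrum.ext ((h p hp).trans (h q hq).symm)
  exact Order.krullDim_nonpos_of_subsingleton

omit [IsNoetherianRing R] [IsLocalRing R] in
lemma subsingleton_ext_congr {X Y : ModuleCat.{u} R} (ι : X ≅ Y) (K : ModuleCat.{u} R) {j : ℕ}
    (h : Subsingleton (Ext Y K j)) : Subsingleton (Ext X K j) := by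
  refine subsingleton_of_forall_eq 0 fun x => ?_
  have h1 : (Ext.mk₀ ι.inv).comp x (zero_add j) = 0 := Subsingleton.elim _ _
  calc x = (Ext.mk₀ (ι.hom ≫ ι.inv)).comp x (zero_add j) := by rw [ι.hom_inv_id, Ext.mk₀_id_comp]
    _ = (Ext.mk₀ ι.hom).comp ((Ext.mk₀ ι.inv).comp x (zero_add j)) (zero_add j) := (Ext.mk₀_comp_mk₀_assoc _ _ _).symm
    _ = 0 := by rw [h1, Ext.comp_zero]

section Step

variable {M N : Type u} [AddCommGroup M] [Module R M] [Module.Finite R M] [AddCommGroup N] [Module R N]
  {d : ℕ} (hlow : ∀ j < d, Subsingleton (LocCoh.H (maximalIdeal R) j M)) (hdim : Module.supportDim R M = d)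
  (e : (N →ₗ[R] E) ≃ₗ[R] LocCoh.H (maximalIdeal R) d M) {a : R} (ha : a ∈ maximalIdeal R)

include hlow hdim ha in
omit [Module.Finite R M] in
/-- Top local cohomology is divisible by elements regular on the module. -/
lemma smul_surjective_H [Module.Finite R M] (hreg : IsSMulRegular M a) :
    Surjective fun y : LocCoh.H (maximalIdeal R) d M => a • y := by
  have hS := IsSMulRegular.smulShortComplex_shortExact (M := ModuleCat.of R M) hreg
  intro y
  have h1 : Module.supportDim R (QuotSMulTop a M) + 1 = (d : WithBot ℕ∞) :=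
    (Module.supportDim_quotSMulTop_succ_eq_supportDim hreg ha).trans hdim
  have hvan : Subsingleton (LocCoh.H (maximalIdeal R) d (QuotSMulTop a M)) := by
    refine subsingleton_of_supportDim_lt _ (ModuleCat.of R (QuotSMulTop a M)) ?_
    generalize Module.supportDim R (QuotSMulTop a M) = x at h1
    induction x with
    | bot => exact WithBot.bot_lt_coe _
    | coe x =>
      induction x using ENat.recTopCoe with
      | top =>
        rw [← WithBot.coe_one, ← WithBot.coe_add, top_add] at h1
        exact absurd (WithBot.coe_injective h1).symm (ENat.natCast_ne_top d)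
      | coe x => norm_cast at h1 ⊢; omega
  obtain ⟨x, hx⟩ := exists_of_map_g_eq_zero (maximalIdeal R) hS y (@Subsingleton.elim _ hvan _ _)
  exact ⟨x, (map_lsmul (maximalIdeal R) (ModuleCat.of R M) a x).symm.trans hx⟩

include hf hlow hdim e ha

/-- An element regular on `M` is regular on its dual module, and reduction is compatible. -/
theorem step (hreg : IsSMulRegular M a) :
    IsSMulRegular N a ∧ ∃ d', d = d' + 1 ∧ Module.supportDim R (QuotSMulTop a M) = d' ∧
      (∀ j < d', Subsingleton (LocCoh.H (maximalIdeal R) j (QuotSMulTop a M))) ∧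
      Nonempty ((QuotSMulTop a N →ₗ[R] E) ≃ₗ[R] LocCoh.H (maximalIdeal R) d' (QuotSMulTop a M)) := by
  have hsurj := smul_surjective_H hlow hdim ha hreg
  refine ⟨fun x y hxy => sub_eq_zero.mp (MatlisDual.applyₗ_injective hf N ?_), ?_⟩
  · refine (LinearMap.ext fun φ => ?_).trans (map_zero _).symm
    obtain ⟨z, hz⟩ := hsurj (e φ)
    have hφ : φ = a • e.symm z := e.injective (by rw [map_smul, e.apply_symm_apply]; exact hz.symm)
    change φ (x - y) = 0
    rw [hφ, LinearMap.smul_apply, ← map_smul, smul_sub, show a • x = a • y from hxy, sub_self, map_zero]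
  have h1 : Module.supportDim R (QuotSMulTop a M) + 1 = (d : WithBot ℕ∞) :=
    (Module.supportDim_quotSMulTop_succ_eq_supportDim hreg ha).trans hdim
  have hne : Nontrivial (QuotSMulTop a M) := by
    have : Nontrivial M := (Module.supportDim_ne_bot_iff_nontrivial R M).mp (by rw [hdim]; simp)
    exact Submodule.Quotient.nontrivial_iff.mpr (Submodule.top_ne_pointwise_smul_of_mem_jacobson_annihilator
      (maximalIdeal_le_jacobson _ ha : a ∈ (Module.annihilator R M).jacobson)).symm
  obtain ⟨d', hd'⟩ := Depth.exists_natCast_eq_supportDim (R := R) (M := QuotSMulTop a M)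
  have hdd : d = d' + 1 := by rw [hd'] at h1; norm_cast at h1; exact h1.symm
  subst hdd
  have hS := IsSMulRegular.smulShortComplex_shortExact (M := ModuleCat.of R M) hreg
  refine ⟨d', rfl, hd', fun j hj => ?_, ?_⟩
  · refine subsingleton_of_forall_eq 0 fun y => ?_
    obtain ⟨x, rfl⟩ := exists_of_delta_eq_zero (maximalIdeal R) hS y
      (@Subsingleton.elim _ (hlow (j + 1) (by omega)) _ _)
    rw [@Subsingleton.elim _ (hlow j (by omega)) x 0]
    exact map_zero _
  let δ : LocCoh.H (maximalIdeal R) d' (QuotSMulTop a M) →ₗ[R] LocCoh.H (maximalIdeal R) (d' + 1) M :=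
    (delta (maximalIdeal R) d' hS).hom
  have hδ : Injective δ := (injective_iff_map_eq_zero _).mpr fun y hy => by
    obtain ⟨x, rfl⟩ := exists_of_delta_eq_zero (maximalIdeal R) hS y hy
    rw [@Subsingleton.elim _ (hlow d' (Nat.lt_succ_self d')) x 0]
    exact map_zero _
  let q := (a • ⊤ : Submodule R N).mkQ
  let L : (QuotSMulTop a N →ₗ[R] E) →ₗ[R] LocCoh.H (maximalIdeal R) (d' + 1) M := e.toLinearMap ∘ₗ q.lcomp R E
  have hL : Injective L := e.injective.comp fun φ ψ h => Submodule.linearMap_qext _ h
  have hrange : LinearMap.range L = LinearMap.range δ := by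
    apply le_antisymm
    · rintro _ ⟨φ, rfl⟩
      have h0 : a • L φ = 0 := by
        rw [← map_smul, show a • φ = 0 from Submodule.linearMap_qext _ (LinearMap.ext fun x => ?_), map_zero]
        simp only [LinearMap.comp_apply, LinearMap.smul_apply, Submodule.mkQ_apply, LinearMap.zero_apply]
        rw [← map_smul, ← Submodule.Quotient.mk_smul,
          (Submodule.Quotient.mk_eq_zero _).mpr (Submodule.smul_mem_pointwise_smul x a ⊤ Submodule.mem_top), map_zero]
      exact exists_of_map_f_eq_zero (maximalIdeal R) hS (L φ)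
        ((map_lsmul (maximalIdeal R) (ModuleCat.of R M) a (L φ)).trans h0)
    · rintro _ ⟨y, rfl⟩
      have h0 : a • δ y = 0 := (map_lsmul (maximalIdeal R) (ModuleCat.of R M) a (δ y)).symm.trans
        (congrArg (fun t => t.hom y) (delta_comp_map (maximalIdeal R) (n := d') hS))
      have hle : (a • ⊤ : Submodule R N) ≤ LinearMap.ker (e.symm (δ y)) := fun x hx => ?_
      refine ⟨(a • ⊤ : Submodule R N).liftQ (e.symm (δ y)) hle, ?_⟩
      swap
      · obtain ⟨x, -, rfl⟩ := hx
        change e.symm (δ y) (a • x) = 0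
        rw [map_smul, ← LinearMap.smul_apply, ← map_smul, h0, map_zero, LinearMap.zero_apply]
      · exact (congrArg e ((a • ⊤ : Submodule R N).liftQ_mkQ (e.symm (δ y)) hle)).trans (e.apply_symm_apply _)
  exact ⟨(LinearEquiv.ofInjective L hL).trans ((LinearEquiv.ofEq _ _ hrange).trans (LinearEquiv.ofInjective δ hδ).symm)⟩

/-- An element regular on the dual module is regular on `M`. -/
theorem isSMulRegular_of_dual (hN : IsSMulRegular N a) : IsSMulRegular M a := by
  by_contra hne
  have : a ∈ {r : R | IsSMulRegular M r}ᶜ := hne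
  rw [← biUnion_associatedPrimes_eq_compl_regular] at this
  obtain ⟨q, hq, haq⟩ := Set.mem_iUnion₂.mp this
  have := hq.isPrime
  have : Nontrivial M := (Module.supportDim_ne_bot_iff_nontrivial R M).mp (by rw [hdim]; simp)
  have hdep : depth R M = (d : ℕ∞) := le_antisymm
    (WithBot.coe_le_coe.mp (Depth.depth_le_supportDim.trans hdim.le))
    ((le_idealDepth_iff_subsingleton (maximalIdeal R) (ModuleCat.of R M)).mpr hlow)
  have hCM : IsCohenMacaulayModule R M := by
    change Module.supportDim R M = _
    rw [hdim, hdep]; rfl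
  have hqd : ringKrullDim (R ⧸ q) = d :=
    (Depth.ringKrullDim_quotient_eq_of_mem_associatedPrimes hCM hq).trans hdim
  have hdimQ : Module.supportDim R (QuotSMulTop a M) = (d : WithBot ℕ∞) := by
    refine le_antisymm ((Module.supportDim_le_of_surjective _ (Submodule.mkQ_surjective _)).trans hdim.le) ?_
    rw [← hqd]
    refine Depth.ringKrullDim_quotient_le_supportDim (p := ⟨q, inferInstance⟩) ?_
    rw [Module.support_quotSMulTop]
    exact ⟨Depth.mem_support_of_mem_associatedPrimes hq, by simpa using haq⟩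
  have hsurj : Surjective fun y : LocCoh.H (maximalIdeal R) d M => a • y := by
    intro y
    have := hf.isInjective
    obtain ⟨ψ, hψ⟩ := Module.Injective.extension_property R E _ _ (LinearMap.lsmul R N a) hN (e.symm y)
    refine ⟨e ψ, ?_⟩
    change a • e ψ = y
    rw [← map_smul, ← e.apply_symm_apply y]
    exact congrArg e (LinearMap.ext fun x => by
      rw [← hψ, LinearMap.comp_apply, LinearMap.lsmul_apply, LinearMap.smul_apply, map_smul])
  have hnt := nontrivial_localCohomology (ModuleCat.of R (QuotSMulTop a M)) d hdimQ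
  obtain ⟨y, hy⟩ := exists_ne (0 : LocCoh.H (maximalIdeal R) d (QuotSMulTop a M))
  apply hy
  obtain ⟨x, rfl⟩ := hMap_surjective_of_supportDim (maximalIdeal R) d (a • ⊤ : Submodule R M).mkQ
    (Submodule.mkQ_surjective _) hdim.le y
  obtain ⟨x', rfl⟩ := hsurj x
  change hMap (maximalIdeal R) d _ (a • x') = 0
  rw [← map_lsmul (maximalIdeal R) (ModuleCat.of R M) a x']
  change hMap (maximalIdeal R) d _ (hMap (maximalIdeal R) d (LinearMap.lsmul R M a) x') = 0
  rw [← hMap_comp, show (a • ⊤ : Submodule R M).mkQ ∘ₗ LinearMap.lsmul R M a = 0 from LinearMap.ext fun m =>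
    (Submodule.Quotient.mk_eq_zero _).mpr (Submodule.smul_mem_pointwise_smul m a ⊤ Submodule.mem_top), hMap_zero]

end Step

include hf in
/-- Regular sequences and their reductions. -/
theorem seq : ∀ (rs : List R) (M N : Type u) [AddCommGroup M] [Module R M] [Module.Finite R M] [AddCommGroup N]
    [Module R N] [Module.Finite R N] (d : ℕ), (∀ j < d, Subsingleton (LocCoh.H (maximalIdeal R) j M)) →
    Module.supportDim R M = d → ((N →ₗ[R] E) ≃ₗ[R] LocCoh.H (maximalIdeal R) d M) → (∀ r ∈ rs, r ∈ maximalIdeal R) →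
    (RingTheory.Sequence.IsWeaklyRegular M rs ↔ RingTheory.Sequence.IsWeaklyRegular N rs) ∧
      (RingTheory.Sequence.IsWeaklyRegular M rs → rs.length ≤ d ∧
        Nonempty (((N ⧸ (Ideal.ofList rs • (⊤ : Submodule R N))) →ₗ[R] E) ≃ₗ[R]
          LocCoh.H (maximalIdeal R) (d - rs.length) (M ⧸ (Ideal.ofList rs • (⊤ : Submodule R M))))) := by
  intro rs
  induction rs with
  | nil =>
    intro M N _ _ _ _ _ _ d _ _ e _
    refine ⟨⟨fun _ => .nil R N, fun _ => .nil R M⟩, fun _ => ⟨Nat.zero_le d, ?_⟩⟩
    have hN : (Ideal.ofList ([] : List R) • (⊤ : Submodule R N)) = ⊥ := by simp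
    have hM : (Ideal.ofList ([] : List R) • (⊤ : Submodule R M)) = ⊥ := by simp
    let qN : (N ⧸ (Ideal.ofList ([] : List R) • (⊤ : Submodule R N))) ≃ₗ[R] N := Submodule.quotEquivOfEqBot _ hN
    let qM : (M ⧸ (Ideal.ofList ([] : List R) • (⊤ : Submodule R M))) ≃ₗ[R] M := Submodule.quotEquivOfEqBot _ hM
    exact ⟨(qN.congrLeft E R).trans (e.trans
      ((localCohomology (maximalIdeal R) d).mapIso qM.symm.toModuleIso).toLinearEquiv)⟩
  | cons a rs ih =>
    intro M N _ _ _ _ _ _ d hlow hdim e hmem
    have ha := hmem a List.mem_cons_self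
    simp only [RingTheory.Sequence.isWeaklyRegular_cons_iff]
    refine ⟨⟨fun ⟨h1, h2⟩ => ?_, fun ⟨h1, h2⟩ => ?_⟩, fun ⟨h1, h2⟩ => ?_⟩
    · obtain ⟨hN, d', -, hd', hlow', ⟨e'⟩⟩ := step hf hlow hdim e ha h1
      exact ⟨hN, ((ih _ _ d' hlow' hd' e' fun r hr => hmem r (List.mem_cons_of_mem a hr)).1).mp h2⟩
    · have hM := isSMulRegular_of_dual hf hlow hdim e ha h1
      obtain ⟨-, d', -, hd', hlow', ⟨e'⟩⟩ := step hf hlow hdim e ha hM
      exact ⟨hM, ((ih _ _ d' hlow' hd' e' fun r hr => hmem r (List.mem_cons_of_mem a hr)).1).mpr h2⟩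
    · obtain ⟨-, d', rfl, hd', hlow', ⟨e'⟩⟩ := step hf hlow hdim e ha h1
      obtain ⟨hlen, ⟨e''⟩⟩ := (ih _ _ d' hlow' hd' e' fun r hr => hmem r (List.mem_cons_of_mem a hr)).2 h2
      refine ⟨by simp; omega, ?_⟩
      rw [List.length_cons, Nat.add_sub_add_right]
      exact ⟨((Submodule.quotOfListConsSMulTopEquivQuotSMulTopInner N a rs).congrLeft E R).trans (e''.trans
        ((localCohomology (maximalIdeal R) (d' - rs.length)).mapIso
          (Submodule.quotOfListConsSMulTopEquivQuotSMulTopInner M a rs).symm.toModuleIso).toLinearEquiv)⟩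

section CM

variable {n : ℕ} (hn : ringKrullDim R = n) (hd : ∀ j < n, Subsingleton (LocCoh.H (maximalIdeal R) j R))
  {K : Type u} [AddCommGroup K] [Module R K] [Module.Finite R K]
  (eK : (K →ₗ[R] E) ≃ₗ[R] LocCoh.H (maximalIdeal R) n R)

include hn hd in
lemma exists_regular_seq : ∃ rs : List R, rs.length = n ∧ (∀ r ∈ rs, r ∈ maximalIdeal R) ∧
    RingTheory.Sequence.IsWeaklyRegular R rs :=
  (Depth.le_idealDepth_iff_exists (Depth.smul_top_ne_top_self (maximalIdeal.isMaximal R).ne_top)).mp
    ((le_idealDepth_iff_subsingleton (maximalIdeal R) (ModuleCat.of R R)).mpr hd)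

include hf hn hd eK

theorem depth_canon : (n : ℕ∞) ≤ depth R K := by
  obtain ⟨rs, hlen, hmem, hreg⟩ := exists_regular_seq hn hd
  rw [← hlen]
  exact Depth.le_idealDepth_of_isWeaklyRegular
    ((seq hf rs R K n hd (by rw [Module.supportDim_self_eq_ringKrullDim, hn]) eK hmem).1.mp hreg) hmem

omit [Module.Finite R K] in
lemma subsingleton_ext_iff {i : ℕ} (hi : i ≤ n) (M : Type u) [AddCommGroup M] [Module R M] [Module.Finite R M] :
    Subsingleton (Ext (ModuleCat.of R M) (ModuleCat.of R K) i) ↔
      Subsingleton (LocCoh.H (maximalIdeal R) (n - i) M) := by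
  have := hf.isInjective
  obtain ⟨D⟩ := nonempty_duality (maximalIdeal R) hn eK hd i hi M
  rw [D.toEquiv.subsingleton_congr]
  refine ⟨fun h => ⟨fun φ ψ => LinearMap.ext fun x => by rw [Subsingleton.elim x 0, map_zero, map_zero]⟩, fun h => ?_⟩
  exact subsingleton_of_forall_eq 0 fun x => MatlisDual.applyₗ_injective hf _ (Subsingleton.elim _ _)

omit [Module.Finite R K] in
/-- `Ext^n(-, K)` keeps finite lengths. -/
lemma length_ext_top {X : Type u} [AddCommGroup X] [Module R X] [Module.Finite R X] (hX : IsFiniteLength R X) :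
    Module.length R (Ext (ModuleCat.of R X) (ModuleCat.of R K) n) = Module.length R X := by
  have := hf.isInjective
  obtain ⟨D⟩ := nonempty_duality (maximalIdeal R) hn eK hd n le_rfl X
  rw [Nat.sub_self] at D
  have htop : DRing.torsionSub (maximalIdeal R) (ModuleCat.of R X) = ⊤ := eq_top_iff.mpr fun x _ => by
    obtain ⟨k, hk⟩ := exists_pow_le_annihilator hX
    exact ⟨k, fun a ha => Module.mem_annihilator.mp (hk ha) x⟩
  let D' : X ≃ₗ[R] (Ext (ModuleCat.of R X) (ModuleCat.of R K) n →ₗ[R] E) :=
    ((h0Equiv (maximalIdeal R) (ModuleCat.of R X)).trans (LinearEquiv.ofTop _ htop)).symm.trans D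
  have hfin : IsFiniteLength R (Ext (ModuleCat.of R X) (ModuleCat.of R K) n) := by
    let a : Ext (ModuleCat.of R X) (ModuleCat.of R K) n →ₗ[R] (_ →ₗ[R] E) →ₗ[R] E := LinearMap.applyₗ
    rw [← Module.length_ne_top_iff]
    refine ne_top_of_le_ne_top ?_ (Module.length_le_of_injective a (MatlisDual.applyₗ_injective hf _))
    rw [← (D'.congrLeft E R).length_eq, MatlisDual.length_dual hf hX]
    exact Module.length_ne_top_iff.mpr hX
  rw [← MatlisDual.length_dual hf hfin, D'.length_eq]

omit [Module.Finite R K] in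
/-- `Ext` into `K` from a regular quotient stops at the length of the sequence. -/
lemma subsingleton_ext_seq : ∀ (rs : List R) (M : Type u) [AddCommGroup M] [Module R M] (r : ℕ),
    RingTheory.Sequence.IsWeaklyRegular M rs → (∀ j, r < j → Subsingleton (Ext (ModuleCat.of R M) (ModuleCat.of R K) j)) →
    ∀ j, r + rs.length < j →
      Subsingleton (Ext (ModuleCat.of R (M ⧸ (Ideal.ofList rs • (⊤ : Submodule R M)))) (ModuleCat.of R K) j) := by
  intro rs
  induction rs with
  | nil =>
    intro M _ _ r _ h j hj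
    have hbot : (Ideal.ofList ([] : List R) • (⊤ : Submodule R M)) = ⊥ := by simp
    let q : (M ⧸ (Ideal.ofList ([] : List R) • (⊤ : Submodule R M))) ≃ₗ[R] M := Submodule.quotEquivOfEqBot _ hbot
    exact subsingleton_ext_congr q.toModuleIso _ (h j (by simpa using hj))
  | cons a rs ih =>
    intro M _ _ r hreg h j hj
    rw [RingTheory.Sequence.isWeaklyRegular_cons_iff] at hreg
    have hS := IsSMulRegular.smulShortComplex_shortExact (M := ModuleCat.of R M) hreg.1
    have h' : ∀ j, r + 1 < j → Subsingleton (Ext (ModuleCat.of R (QuotSMulTop a M)) (ModuleCat.of R K) j) := by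
      intro j hj
      obtain ⟨i, rfl⟩ : ∃ i, j = i + 1 := ⟨j - 1, by omega⟩
      refine subsingleton_of_forall_eq 0 fun x => ?_
      obtain ⟨y, rfl⟩ := Ext.contravariant_sequence_exact₃ hS (ModuleCat.of R K) x
        (@Subsingleton.elim _ (h (i + 1) (by omega)) _ _) (Nat.add_comm 1 i)
      exact (congrArg (fun t => hS.extClass.comp t (Nat.add_comm 1 i)) (@Subsingleton.elim _ (h i (by omega)) y 0)).trans (Ext.comp_zero _ _ _ _ _)
    have := ih (QuotSMulTop a M) (r + 1) hreg.2 h' j (by simp at hj; omega)
    exact subsingleton_ext_congr (Submodule.quotOfListConsSMulTopEquivQuotSMulTopInner M a rs).toModuleIso _ this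

omit [Module.Finite R K] in
/-- `Ext` of the residue field into `K` vanishes above the dimension. -/
theorem subsingleton_ext_residueField : ∀ i, n < i →
    Subsingleton (Ext (ModuleCat.of R (ResidueField R)) (ModuleCat.of R K) i) := by
  obtain ⟨rs, hlen, hmem, hreg⟩ := exists_regular_seq hn hd
  let J := Ideal.ofList rs • (⊤ : Submodule R R)
  let Q := R ⧸ J
  have hJm : J ≤ maximalIdeal R := by
    simp only [J, Ideal.smul_top_eq_map, Algebra.algebraMap_self, Ideal.map_id]
    exact Ideal.span_le.mpr hmem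
  have hJne : J ≠ ⊤ := fun h => (maximalIdeal.isMaximal R).ne_top (top_le_iff.mp (h.ge.trans hJm))
  have hQ : IsFiniteLength R Q := by
    have hreg' := Depth.isRegular_of_isWeaklyRegular (Depth.smul_top_ne_top_self (maximalIdeal.isMaximal R).ne_top) hreg hmem
    have h0 := ringKrullDim_add_length_eq_ringKrullDim_of_isRegular rs hreg'
    rw [hn, hlen] at h0
    have hle : ringKrullDim (R ⧸ Ideal.ofList rs) ≤ 0 := by
      generalize ringKrullDim (R ⧸ Ideal.ofList rs) = x at h0
      induction x with
      | bot => exact bot_le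
      | coe x =>
        induction x using ENat.recTopCoe with
        | top =>
          rw [show ((n : ℕ) : WithBot ℕ∞) = ((n : ℕ∞) : WithBot ℕ∞) from rfl, ← WithBot.coe_add, top_add] at h0
          exact absurd (WithBot.coe_injective h0).symm (ENat.natCast_ne_top n)
        | coe x => norm_cast at h0 ⊢; omega
    have : Ring.KrullDimLE 0 (R ⧸ Ideal.ofList rs) := Ring.krullDimLE_iff.mpr hle
    have : IsArtinianRing (R ⧸ Ideal.ofList rs) := IsNoetherianRing.isArtinianRing_of_krullDimLE_zero
    have hA : IsArtinian R (R ⧸ Ideal.ofList rs) :=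
      isArtinian_of_surjective_algebraMap (R := R ⧸ Ideal.ofList rs) Ideal.Quotient.mk_surjective
    refine (Submodule.quotEquivOfEq _ _ ?_ : (R ⧸ Ideal.ofList rs) ≃ₗ[R] Q).isFiniteLength
      (isFiniteLength_iff_isNoetherian_isArtinian.mpr ⟨inferInstance, hA⟩)
    simp [J]
  let p : Q →ₗ[R] ResidueField R := J.liftQ (Algebra.linearMap R (ResidueField R)) fun r hr =>
    LinearMap.mem_ker.mpr ((residue_eq_zero_iff r).mpr (hJm hr))
  have hp : Surjective p := fun y => by
    obtain ⟨r, rfl⟩ := residue_surjective y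
    exact ⟨Submodule.Quotient.mk r, rfl⟩
  have hS := LinearMap.shortExact_shortComplexKer hp
  have hC : IsFiniteLength R (LinearMap.ker p) := by
    rw [isFiniteLength_iff_isNoetherian_isArtinian] at hQ ⊢
    obtain ⟨_, _⟩ := hQ
    exact ⟨inferInstance, inferInstance⟩
  have hk : IsFiniteLength R (ResidueField R) := by
    rw [isFiniteLength_iff_isNoetherian_isArtinian] at hQ ⊢
    obtain ⟨_, _⟩ := hQ
    exact ⟨inferInstance, isArtinian_of_surjective _ p hp⟩
  have hQvan : ∀ j, n < j → Subsingleton (Ext (ModuleCat.of R Q) (ModuleCat.of R K) j) := fun j hj =>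
    subsingleton_ext_seq hf hn hd eK rs R 0 hreg (fun i hi => by
      obtain ⟨i, rfl⟩ : ∃ k, i = k + 1 := ⟨i - 1, by omega⟩
      have : Projective (ModuleCat.of R R) := (IsProjective.iff_projective (R := R) R).1 inferInstance
      exact Ext.subsingleton_of_projective _ _ i) j (by omega)
  -- surjectivity in degree `n`
  let φ : Ext p.shortComplexKer.X₂ (ModuleCat.of R K) n →ₗ[R] Ext p.shortComplexKer.X₁ (ModuleCat.of R K) n :=
    { toFun := fun x => (Ext.mk₀ p.shortComplexKer.f).comp x (zero_add n)
      map_add' := fun x y => Ext.comp_add _ x y _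
      map_smul' := fun r x => Ext.comp_smul _ x _ r }
  let ψ : Ext p.shortComplexKer.X₃ (ModuleCat.of R K) n →ₗ[R] Ext p.shortComplexKer.X₂ (ModuleCat.of R K) n :=
    { toFun := fun x => (Ext.mk₀ p.shortComplexKer.g).comp x (zero_add n)
      map_add' := fun x y => Ext.comp_add _ x y _
      map_smul' := fun r x => Ext.comp_smul _ x _ r }
  have hφ : Surjective φ := by
    have hψ : Injective ψ := by
      rcases Nat.eq_zero_or_pos n with h0 | hpos
      · refine (injective_iff_map_eq_zero _).mpr fun x hx => ?_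
        subst h0
        obtain ⟨g, rfl⟩ := (Ext.mk₀_bijective _ _).2 x
        have hx' : (Ext.mk₀ p.shortComplexKer.g).comp (Ext.mk₀ g) (zero_add 0) = 0 := hx
        rw [Ext.mk₀_comp_mk₀] at hx'
        have h1 : p.shortComplexKer.g ≫ g = 0 := (Ext.mk₀_bijective _ _).1 (hx'.trans (Ext.mk₀_zero _ _).symm)
        have : g = 0 := ModuleCat.hom_ext (LinearMap.ext fun y => by
          obtain ⟨z, rfl⟩ := hp y
          exact congrArg (fun t => t.hom z) h1)
        rw [this, Ext.mk₀_zero]
      · obtain ⟨m, rfl⟩ : ∃ m, n = m + 1 := ⟨n - 1, by omega⟩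
        refine (injective_iff_map_eq_zero _).mpr fun x hx => ?_
        have hm : Subsingleton (Ext p.shortComplexKer.X₁ (ModuleCat.of R K) m) := by
          refine (subsingleton_ext_iff hf hn hd eK (Nat.le_succ m) (LinearMap.ker p)).mpr ?_
          refine subsingleton_of_supportDim_lt _ (ModuleCat.of R (LinearMap.ker p)) ?_
          rw [Nat.add_sub_cancel_left]
          rw [Nat.cast_one]
          exact lt_of_le_of_lt (supportDim_le_zero hC) zero_lt_one
        obtain ⟨y, hy⟩ := Ext.contravariant_sequence_exact₃ hS (ModuleCat.of R K) x hx (Nat.add_comm 1 m)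
        rw [← hy, @Subsingleton.elim _ hm y 0, Ext.comp_zero]
    have hex : Exact ψ φ := fun x => by
      refine ⟨fun hx => Ext.contravariant_sequence_exact₂ hS (ModuleCat.of R K) x hx, ?_⟩
      rintro ⟨y, rfl⟩
      change (Ext.mk₀ p.shortComplexKer.f).comp ((Ext.mk₀ p.shortComplexKer.g).comp y (zero_add n)) (zero_add n) = 0
      rw [Ext.mk₀_comp_mk₀_assoc, ShortComplex.zero, Ext.mk₀_zero, Ext.zero_comp]
    have h1 := Module.length_eq_add_of_exact ψ φ.rangeRestrict hψ φ.surjective_rangeRestrict (fun x => by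
      rw [← hex x]
      exact ⟨fun h => congrArg Subtype.val h, fun h => Subtype.ext h⟩)
    rw [length_ext_top hf hn hd eK hQ, length_ext_top hf hn hd eK hk] at h1
    have h2 := Module.length_eq_add_of_exact (LinearMap.ker p).subtype p (Submodule.injective_subtype _) hp (LinearMap.exact_subtype_ker_map p)
    rw [h2, add_comm] at h1
    have hkne : Module.length R (ResidueField R) ≠ ⊤ := Module.length_ne_top_iff.mpr hk
    have h3 : Module.length R (LinearMap.range φ) = Module.length R (LinearMap.ker p) :=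
      (ENat.add_right_injective_of_ne_top hkne h1).symm
    have h4 := Module.length_eq_add_of_exact (LinearMap.range φ).subtype (LinearMap.range φ).mkQ
      (Submodule.injective_subtype _) (Submodule.mkQ_surjective _) (LinearMap.exact_subtype_mkQ _)
    rw [length_ext_top hf hn hd eK hC, h3] at h4
    have h5 := ENat.add_right_injective_of_ne_top (Module.length_ne_top_iff.mpr hC) (h4.symm.trans (add_zero _).symm)
    exact LinearMap.range_eq_top.mp (Submodule.Quotient.subsingleton_iff.mp (Module.length_eq_zero_iff.mp h5))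
  -- induction over the degree, for all modules of finite length
  intro i
  induction i using Nat.strong_induction_on with
  | _ i IH =>
    intro hi
    refine subsingleton_of_forall_eq 0 fun x => ?_
    obtain ⟨j, rfl⟩ : ∃ j, i = j + 1 := ⟨i - 1, by omega⟩
    obtain ⟨y, rfl⟩ := Ext.contravariant_sequence_exact₃ hS (ModuleCat.of R K) x
      (@Subsingleton.elim _ (hQvan (j + 1) hi) _ _) (Nat.add_comm 1 j)
    rcases (Nat.le_of_lt_succ hi).lt_or_eq with hlt | rfl
    · have hCvan : ∀ (C : Type u) [AddCommGroup C] [Module R C], IsFiniteLength R C →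
          ∀ z : Ext (ModuleCat.of R C) (ModuleCat.of R K) j, z = 0 := by
        intro C _ _ hC
        induction hC with
        | @of_subsingleton C _ _ _ =>
          intro z
          rw [← Ext.mk₀_id_comp z, show 𝟙 (ModuleCat.of R C) = 0 from
            (ModuleCat.isZero_of_subsingleton _).eq_zero_of_src _, Ext.mk₀_zero, Ext.zero_comp]
        | @of_simple_quotient C _ _ N _ _ ihN =>
          intro z
          have hT : (ModuleCat.shortComplexOfCompEqZero N.subtype N.mkQ
            (LinearMap.ext fun x => (Submodule.Quotient.mk_eq_zero N).mpr x.2)).ShortExact :=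
            ModuleCat.shortComplex_shortExact _
              (LinearMap.exact_subtype_mkQ N) (Submodule.injective_subtype _) (Submodule.mkQ_surjective _)
          obtain ⟨w, hw⟩ := Ext.contravariant_sequence_exact₂ hT (ModuleCat.of R K) z (ihN _)
          obtain ⟨e⟩ := MatlisDual.nonempty_equiv_residueField (R := R) (C ⧸ N)
          have hw0 : w = 0 :=
            @Subsingleton.elim _ (subsingleton_ext_congr e.toModuleIso _ (IH j (Nat.lt_succ_self j) hlt)) w 0
          rw [← hw, hw0, Ext.comp_zero]
      rw [show y = 0 from hCvan _ hC y, Ext.comp_zero]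
    · obtain ⟨z, hz⟩ := hφ y
      rw [← hz]
      change hS.extClass.comp ((Ext.mk₀ p.shortComplexKer.f).comp z (zero_add n)) (Nat.add_comm 1 n) = 0
      rw [hS.extClass_comp_assoc]

theorem injectiveDimension_canon : HasInjectiveDimensionLT (ModuleCat.of R K) (n + 1) ∧
    ¬ HasInjectiveDimensionLT (ModuleCat.of R K) n := by
  have hk : ∀ a ∈ maximalIdeal R, ∀ x : ResidueField R, a • x = 0 := fun a ha x =>
    MatlisDual.maximalIdeal_smul_residue ha x
  constructor
  · refine HasInjectiveDimensionLT.mk fun i hi N e => ?_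
    obtain ⟨j, rfl⟩ : ∃ j, i = j + 1 := ⟨i - 1, by omega⟩
    exact @Subsingleton.elim _ (CAlgReg.subsingleton_ext_of_forall_quotient j (ModuleCat.of R K)
      (fun J => GorenBasic.subsingleton_ext_of_residueField (ModuleCat.of R K)
        (fun k hk => subsingleton_ext_residueField hf hn hd eK k (Nat.lt_of_succ_le hk)) (R ⧸ J) hi) N) e 0
  · intro h
    have h1 : Subsingleton (Ext (ModuleCat.of R (ResidueField R)) (ModuleCat.of R K) n) :=
      HasInjectiveDimensionLT.subsingleton (ModuleCat.of R K) n n le_rfl _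
    have h2 := (subsingleton_ext_iff hf hn hd eK le_rfl (ResidueField R)).mp h1
    rw [Nat.sub_self] at h2
    have h3 := (h0Equiv (maximalIdeal R) (ModuleCat.of R (ResidueField R))).symm.toEquiv.subsingleton (β := LocCoh.H (maximalIdeal R) 0 (ResidueField R))
    exact one_ne_zero (α := ResidueField R) (congrArg Subtype.val (Subsingleton.elim
      (⟨1, 1, fun a ha => hk a (by rwa [pow_one] at ha) 1⟩ : DRing.torsionSub (maximalIdeal R) (ModuleCat.of R (ResidueField R))) 0))

end CM

end

end Groth.Agent.LocDuality
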