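import Groth.Agent.LocDuality.Gorenstein
import Groth.Agent.LocCohBasic.FaltingsRegular
import Groth.Agent.LocCohBasic.BaseChange

/-!
# Propagation of non-vanishing of local cohomology along specialisations
-/

universe u

open CategoryTheory Abelian LocCoh IsLocalRing Function

namespace Groth.Agent.LocDuality

open Groth.Agent.LocCohBasic

noncomputable section

section ExtLocalization

variable {R : Type u} [CommRing R] [IsNoetherianRing R] {T S : Submonoid R} (hTS : T ≤ S)

/-- `Ext^0` vanishes iff there are no maps. -/
lemma subsingleton_ext_zero_iff {A : Type u} [CommRing A] (M N : Type u) [AddCommGroup M] [Module A M]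
    [AddCommGroup N] [Module A N] :
    Subsingleton (Ext (ModuleCat.of A M) (ModuleCat.of A N) 0) ↔ Subsingleton (M →ₗ[A] N) :=
  (Ext.addEquiv₀.toEquiv.trans ModuleCat.homEquiv).subsingleton_congr

/-- A lift of a map out of a localised module. -/
lemma exists_lift (U : Submonoid R) {M : Type u} [AddCommGroup M] [Module R M] [Module.Finite R M]
    (ψ : LocalizedModule U M →ₗ[Localization U] Localization U) :
    ∃ (φ : M →ₗ[R] R) (s : U), ∀ m,
      algebraMap R (Localization U) (φ m) = (s : R) • ψ (LocalizedModule.mkLinearMap U M m) := by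
  have : Module.FinitePresentation R M := Module.finitePresentation_of_finite R M
  obtain ⟨φ, s, h⟩ := Module.FinitePresentation.exists_lift_of_isLocalizedModule U
    (Algebra.linearMap R (Localization U)) (M := M) (ψ.restrictScalars R ∘ₗ LocalizedModule.mkLinearMap U M)
  exact ⟨φ, s, fun m => LinearMap.congr_fun h m⟩

omit [IsNoetherianRing R] in
lemma localized_linearMap_ext (U : Submonoid R) {M : Type u} [AddCommGroup M] [Module R M]
    {φ ψ : LocalizedModule U M →ₗ[Localization U] Localization U}
    (h : ∀ m, φ (LocalizedModule.mkLinearMap U M m) = ψ (LocalizedModule.mkLinearMap U M m)) : φ = ψ := by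
  apply LinearMap.restrictScalars_injective R
  refine IsLocalizedModule.ext U (LocalizedModule.mkLinearMap U M) (fun s => ?_) (LinearMap.ext h)
  exact IsLocalizedModule.map_units (Algebra.linearMap R (Localization U)) s

include hTS in
/-- Vanishing of `Ext` into the ring passes to further localisations. -/
theorem subsingleton_ext_localized : ∀ (e : ℕ) (M : Type u) [AddCommGroup M] [Module R M] [Module.Finite R M],
    Subsingleton (Ext (ModuleCat.of (Localization T) (LocalizedModule T M))
      (ModuleCat.of (Localization T) (Localization T)) e) →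
    Subsingleton (Ext (ModuleCat.of (Localization S) (LocalizedModule S M))
      (ModuleCat.of (Localization S) (Localization S)) e) := by
  intro e
  induction e with
  | zero =>
    intro M _ _ _ h
    rw [subsingleton_ext_zero_iff] at h ⊢
    refine subsingleton_of_forall_eq 0 fun ψ => localized_linearMap_ext S fun m => ?_
    obtain ⟨φ, s, hφ⟩ := exists_lift S ψ
    let φT : LocalizedModule T M →ₗ[Localization T] Localization T :=
      (IsLocalizedModule.lift T (LocalizedModule.mkLinearMap T M) ((Algebra.linearMap R (Localization T)) ∘ₗ φ)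
        (IsLocalizedModule.map_units (Algebra.linearMap R (Localization T)))).extendScalarsOfIsLocalization T _
    have h0 : algebraMap R (Localization T) (φ m) = 0 := by
      have h1 : φT (LocalizedModule.mkLinearMap T M m) = algebraMap R (Localization T) (φ m) :=
        IsLocalizedModule.lift_apply T (LocalizedModule.mkLinearMap T M) _ (IsLocalizedModule.map_units (Algebra.linearMap R (Localization T))) m
      rw [← h1, Subsingleton.elim φT 0, LinearMap.zero_apply]
    obtain ⟨⟨t, ht⟩, htm⟩ := (IsLocalization.map_eq_zero_iff T (Localization T) _).mp h0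
    have h2 : algebraMap R (Localization S) (φ m) = 0 :=
      (IsLocalization.map_eq_zero_iff S (Localization S) _).mpr ⟨⟨t, hTS ht⟩, htm⟩
    rw [hφ] at h2
    refine ((Module.End.isUnit_iff _).mp (IsLocalizedModule.map_units (Algebra.linearMap R (Localization S)) s)).1
      (h2.trans ?_)
    simp
  | succ e ih =>
    intro M _ _ _ h
    obtain ⟨a, π, hπ⟩ := Module.Finite.exists_fin' R M
    let Ω := LinearMap.ker π
    -- the localised presentations
    have hex := fun (U : Submonoid R) => LocalizedModule.map_exact U Ω.subtype π (LinearMap.exact_subtype_ker_map π)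
    let Sq' (U : Submonoid R) : ShortComplex (ModuleCat.{u} (Localization U)) :=
      ModuleCat.shortComplexOfCompEqZero (LocalizedModule.map U Ω.subtype) (LocalizedModule.map U π)
        (LinearMap.ext fun z => (hex U).apply_apply_eq_zero z)
    have hSq : ∀ U, (Sq' U).ShortExact := fun U => ModuleCat.shortComplex_shortExact _ (hex U)
      (LocalizedModule.map_injective U _ (Submodule.injective_subtype _))
      (LocalizedModule.map_surjective U _ hπ)
    have hproj : ∀ U, Projective (Sq' U).X₂ := fun U =>
      have : Module.Projective (Localization U) (LocalizedModule U (Fin a → R)) :=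
        Module.projective_of_isLocalizedModule U (LocalizedModule.mkLinearMap U (Fin a → R))
      (IsProjective.iff_projective (R := Localization U) _).mp this
    have hF : ∀ U k, Subsingleton (Ext (Sq' U).X₂ (ModuleCat.of (Localization U) (Localization U)) (k + 1)) :=
      fun U k => subsingleton_of_forall_eq 0 fun x => x.eq_zero_of_projective
    refine subsingleton_of_forall_eq 0 fun y => ?_
    obtain ⟨x, hx⟩ := Ext.contravariant_sequence_exact₃ (hSq S) _ y
      (@Subsingleton.elim _ (hF S e) _ _) (Nat.add_comm 1 e)
    cases e with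
    | zero =>
      obtain ⟨ψ, rfl⟩ : ∃ ψ : LocalizedModule S Ω →ₗ[Localization S] Localization S,
          Ext.mk₀ (ModuleCat.ofHom ψ) = x :=
        ⟨(Ext.addEquiv₀ x).hom, Ext.mk₀_addEquiv₀_apply x⟩
      obtain ⟨φ, s, hφ⟩ := exists_lift S ψ
      let φT : LocalizedModule T Ω →ₗ[Localization T] Localization T :=
        (IsLocalizedModule.lift T (LocalizedModule.mkLinearMap T Ω) ((Algebra.linearMap R (Localization T)) ∘ₗ φ)
          (IsLocalizedModule.map_units (Algebra.linearMap R (Localization T)))).extendScalarsOfIsLocalization T _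
      obtain ⟨z, hz⟩ := Ext.contravariant_sequence_exact₁ (hSq T) _ (Ext.mk₀ (ModuleCat.ofHom φT))
        (Nat.add_comm 1 0) (@Subsingleton.elim _ h _ _)
      let χT : LocalizedModule T (Fin a → R) →ₗ[Localization T] Localization T := (Ext.addEquiv₀ z).hom
      have hχT : χT ∘ₗ LocalizedModule.map T Ω.subtype = φT := by
        rw [← Ext.mk₀_addEquiv₀_apply z, Ext.mk₀_comp_mk₀] at hz
        exact congrArg ModuleCat.Hom.hom ((Ext.mk₀_bijective _ _).1 hz)
      obtain ⟨χ, t, hχ⟩ := exists_lift T χT
      -- the extension over `S`
      let χS : LocalizedModule S (Fin a → R) →ₗ[Localization S] Localization S :=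
        (IsLocalizedModule.lift S (LocalizedModule.mkLinearMap S (Fin a → R))
          ((Algebra.linearMap R (Localization S)) ∘ₗ χ)
          (IsLocalizedModule.map_units (Algebra.linearMap R (Localization S)))).extendScalarsOfIsLocalization S _
      obtain ⟨u, hu⟩ : IsUnit (algebraMap R (Localization S) ((t : R) * s)) :=
        IsLocalization.map_units (Localization S) (⟨(t : R) * s, mul_mem (hTS t.2) s.2⟩ : S)
      have key : ((↑u⁻¹ : Localization S) • χS) ∘ₗ LocalizedModule.map S Ω.subtype = ψ := by
        refine localized_linearMap_ext S fun m => ?_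
        have h1 : χS (LocalizedModule.map S Ω.subtype (LocalizedModule.mkLinearMap S Ω m)) =
            algebraMap R (Localization S) (χ (m : Fin a → R)) := by
          rw [LocalizedModule.mkLinearMap_apply, LocalizedModule.map_mk]
          exact IsLocalizedModule.lift_apply S (LocalizedModule.mkLinearMap S (Fin a → R)) _ (IsLocalizedModule.map_units (Algebra.linearMap R (Localization S))) (m : Fin a → R)
        have h2 : algebraMap R (Localization T) ((t : R) * φ m) = algebraMap R (Localization T) (χ (m : Fin a → R)) := by
          rw [hχ, map_mul, ← show φT (LocalizedModule.mkLinearMap T Ω m) = algebraMap R (Localization T) (φ m) from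
            IsLocalizedModule.lift_apply T (LocalizedModule.mkLinearMap T Ω) _ (IsLocalizedModule.map_units (Algebra.linearMap R (Localization T))) m, ← hχT, LinearMap.comp_apply,
            LocalizedModule.mkLinearMap_apply, LocalizedModule.map_mk, ← Algebra.smul_def]
          rfl
        obtain ⟨⟨w, hw⟩, hwm⟩ := IsLocalization.exists_of_eq (M := T) h2
        have h3 : algebraMap R (Localization S) ((t : R) * φ m) = algebraMap R (Localization S) (χ (m : Fin a → R)) :=
          IsLocalization.eq_iff_exists S (Localization S) |>.mpr ⟨⟨w, hTS hw⟩, hwm⟩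
        rw [LinearMap.comp_apply, LinearMap.smul_apply, h1, ← h3, map_mul, hφ]
        simp only [Algebra.smul_def, Algebra.algebraMap_self, RingHom.id_apply]
        rw [← mul_assoc (algebraMap R (Localization S) (t : R)), ← map_mul, ← hu, ← mul_assoc, Units.inv_mul, one_mul]
      rw [← hx, ← key,
        show ModuleCat.ofHom (((↑u⁻¹ : Localization S) • χS) ∘ₗ LocalizedModule.map S Ω.subtype) =
          (Sq' S).f ≫ ModuleCat.ofHom ((↑u⁻¹ : Localization S) • χS) from rfl,
        ← Ext.mk₀_comp_mk₀, ← Ext.comp_assoc _ _ _ (add_zero 1) (zero_add 0) (by omega),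
        (hSq S).extClass_comp, Ext.zero_comp]
    | succ e =>
      have hT : Subsingleton (Ext (Sq' T).X₁ (ModuleCat.of (Localization T) (Localization T)) (e + 1)) := by
        refine subsingleton_of_forall_eq 0 fun z => ?_
        obtain ⟨w, hw⟩ := Ext.contravariant_sequence_exact₁ (hSq T) _ z (Nat.add_comm 1 (e + 1))
          (@Subsingleton.elim _ h _ _)
        rw [← hw, @Subsingleton.elim _ (hF T e) w 0, Ext.comp_zero]
      rw [← hx, @Subsingleton.elim _ (ih Ω hT) x 0, Ext.comp_zero]

end ExtLocalization

section Height

variable {R : Type u} [CommRing R]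

lemma height_map_mk_eq_orderHeight {p q : PrimeSpectrum R} (h : p ≤ q) :
    (q.asIdeal.map (Ideal.Quotient.mk p.asIdeal)).height = Order.height (⟨q, h⟩ : Set.Ici p) := by
  have := isPrime_map_mk (p := p.asIdeal) (t := q.asIdeal) h
  rw [PrimeSpectrum.height_eq_orderHeight ⟨_, this⟩]
  let e : PrimeSpectrum (R ⧸ p.asIdeal) ≃o Set.Ici p :=
    p.asIdeal.primeSpectrumQuotientOrderIsoZeroLocus.trans
      (OrderIso.setCongr _ _ (Set.ext fun x => by rw [PrimeSpectrum.mem_zeroLocus, Set.mem_Ici]; rfl))
  rw [← Order.height_orderIso e]
  congr 1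
  exact Subtype.ext (PrimeSpectrum.ext (comap_map_mk (h : p.asIdeal ≤ q.asIdeal)))

/-- Heights add in a Cohen–Macaulay ring. -/
lemma height_eq_add (hR : IsCohenMacaulayRing R) (p q : Ideal R) [p.IsPrime] [q.IsPrime] (h : p ≤ q) :
    q.height = p.height + (q.map (Ideal.Quotient.mk p)).height := by
  refine le_antisymm ?_ (height_add_height_map_mk_le p q h)
  let L := Localization.AtPrime q
  have := hR.isCohenMacaulayLocalRing_localization q
  have := Depth.isCohenMacaulayRing_of_local (R := L)
  let P := p.map (algebraMap R L)
  have hdisj : Disjoint (q.primeCompl : Set R) (p : Set R) :=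
    Set.disjoint_left.mpr fun x hx hxp => hx (h hxp)
  have hP : P.IsPrime := IsLocalization.isPrime_of_isPrime_disjoint q.primeCompl L p ‹_› hdisj
  have hcomap : P.comap (algebraMap R L) = p := IsLocalization.under_map_of_isPrime_disjoint q.primeCompl L ‹_› hdisj
  have h1 := Depth.supportDim_eq_quotient_add_idealDepth L (Depth.isCohenMacaulayModule_self (R := L))
    (IsLocalRing.le_maximalIdeal hP.ne_top)
  rw [Module.supportDim_self_eq_ringKrullDim, Depth.idealDepth_eq_height,
    IsLocalization.AtPrime.ringKrullDim_eq_height q L, ← IsLocalization.height_under q.primeCompl P, show Ideal.under R P = p from hcomap,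
    Module.supportDim_eq_of_equiv (Submodule.quotEquivOfEq _ P (by simp)),
    Module.supportDim_quotient_eq_ringKrullDim] at h1
  have hQp := isPrime_map_mk (p := p) (t := q) h
  let g : R ⧸ p →+* L ⧸ P := Ideal.quotientMap P (algebraMap R L) hcomap.ge
  let φ : PrimeSpectrum (L ⧸ P) → PrimeSpectrum (R ⧸ p) := PrimeSpectrum.comap g
  have hcomp : g.comp (Ideal.Quotient.mk p) = (Ideal.Quotient.mk P).comp (algebraMap R L) :=
    RingHom.ext fun _ => rfl
  have key : ∀ x : PrimeSpectrum (L ⧸ P), (φ x).asIdeal.comap (Ideal.Quotient.mk p) =
      (x.asIdeal.comap (Ideal.Quotient.mk P)).comap (algebraMap R L) := fun x => by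
    change (x.asIdeal.comap g).comap _ = _
    rw [Ideal.comap_comap, hcomp, ← Ideal.comap_comap]
  have hinj : Function.Injective φ := fun x y hxy => by
    have h2 : (x.asIdeal.comap (Ideal.Quotient.mk P)).comap (algebraMap R L) =
        (y.asIdeal.comap (Ideal.Quotient.mk P)).comap (algebraMap R L) := by rw [← key, ← key, hxy]
    exact PrimeSpectrum.ext (Ideal.comap_injective_of_surjective _ Ideal.Quotient.mk_surjective
      (IsLocalization.orderEmbedding q.primeCompl L |>.injective h2))
  have hmono : StrictMono φ := Monotone.strictMono_of_injective (fun x y hxy => Ideal.comap_mono hxy) hinj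
  have h2 : ringKrullDim (L ⧸ P) ≤ ((q.map (Ideal.Quotient.mk p)).height : WithBot ℕ∞) := by
    rw [PrimeSpectrum.height_eq_orderHeight ⟨_, hQp⟩]
    rw [ringKrullDim, Order.krullDim_eq_iSup_height]
    refine iSup_le fun x => WithBot.coe_le_coe.mpr
      ((Order.height_le_height_apply_of_strictMono φ hmono x).trans (Order.height_mono ?_))
    change (φ x).asIdeal ≤ q.map (Ideal.Quotient.mk p)
    rw [← Ideal.map_comap_of_surjective _ Ideal.Quotient.mk_surjective (φ x).asIdeal, key]
    refine Ideal.map_mono ((Ideal.comap_mono (IsLocalRing.le_maximalIdeal_of_isPrime _)).trans ?_)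
    exact (IsLocalization.AtPrime.under_maximalIdeal L q).le
  have h3 : ((q.height : ℕ∞) : WithBot ℕ∞) ≤ ((q.map (Ideal.Quotient.mk p)).height : WithBot ℕ∞) + (p.height : WithBot ℕ∞) :=
    h1.le.trans (add_le_add h2 le_rfl)
  rw [← WithBot.coe_add, WithBot.coe_le_coe] at h3
  rwa [add_comm] at h3

end Height

section Regular

variable {R : Type u} [CommRing R] [IsRegularRing R]

/-- Non-vanishing propagates along specialisations. -/
theorem subsingleton_H_of_specializes {p q : Ideal R} [p.IsPrime] [q.IsPrime] (hpq : p ≤ q)
    {hp hq : ℕ} (hhp : p.height = hp) (hhq : q.height = hq) (M : Type u) [AddCommGroup M] [Module R M]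
    [Module.Finite R M] {j : ℕ}
    (h : Subsingleton (LocCoh.H (maximalIdeal (Localization.AtPrime q)) (j + (hq - hp))
      (LocalizedModule q.primeCompl M))) :
    Subsingleton (LocCoh.H (maximalIdeal (Localization.AtPrime p)) j (LocalizedModule p.primeCompl M)) := by
  have hpr := IsRegularRing.isRegularLocalRing_localization (R := R) p
  have hqr := IsRegularRing.isRegularLocalRing_localization (R := R) q
  have := GorenBasic.isGorensteinLocalRing_of_isRegularLocalRing (Localization.AtPrime p)
  have := GorenBasic.isGorensteinLocalRing_of_isRegularLocalRing (Localization.AtPrime q)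
  have hdp : ringKrullDim (Localization.AtPrime p) = hp := by
    rw [IsLocalization.AtPrime.ringKrullDim_eq_height p, hhp]; rfl
  have hdq : ringKrullDim (Localization.AtPrime q) = hq := by
    rw [IsLocalization.AtPrime.ringKrullDim_eq_height q, hhq]; rfl
  by_cases hj : hp < j
  · refine subsingleton_of_supportDim_lt _ (ModuleCat.of _ (LocalizedModule p.primeCompl M)) ?_
    refine lt_of_le_of_lt ((Module.supportDim_le_ringKrullDim _ _).trans hdp.le) ?_
    exact_mod_cast hj
  have hle : hp ≤ hq := by
    have := Ideal.height_mono hpq
    rw [hhp, hhq] at this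
    exact_mod_cast this
  rw [show j = hp - (hp - j) by omega, subsingleton_H_iff hdp (hp - j) (Nat.sub_le _ _)]
  refine subsingleton_ext_localized (T := q.primeCompl) (S := p.primeCompl) (fun x hx hxp => hx (hpq hxp)) _ M ?_
  rw [← subsingleton_H_iff hdq (hp - j) (by omega), show hq - (hp - j) = j + (hq - hp) by omega]
  exact h

end Regular

section Surjective

variable {A B : Type u} [CommRing A] [CommRing B] [Algebra A B]

/-- Evaluating a base-change isomorphism of functors at a module. -/
theorem exists_equiv_of_iso' (F : ModuleCat.{u} B ⥤ ModuleCat.{u} B) (G : ModuleCat.{u} A ⥤ ModuleCat.{u} A)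
    (ι : F ⋙ ModuleCat.restrictScalars (algebraMap A B) ≅ ModuleCat.restrictScalars (algebraMap A B) ⋙ G)
    (N : Type u) [AddCommGroup N] [Module A N] [Module B N] [IsScalarTower A B N] :
    Nonempty (F.obj (ModuleCat.of B N) ≃+ G.obj (ModuleCat.of A N)) := by
  let u : (ModuleCat.restrictScalars (algebraMap A B)).obj (ModuleCat.of B N) ≅ ModuleCat.of A N :=
    LinearEquiv.toModuleIso
      ({ toFun := fun x => (x : N)
         invFun := fun x => x
         left_inv := fun _ => rfl
         right_inv := fun _ => rfl
         map_add' := fun _ _ => rfl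
         map_smul' := fun (a : A) (x : N) => by
           change algebraMap A B a • x = a • x
           rw [algebraMap_smul] } :
        ((ModuleCat.restrictScalars (algebraMap A B)).obj (ModuleCat.of B N)) ≃ₗ[A] N)
  exact ⟨((ι.app (ModuleCat.of B N) ≪≫ G.mapIso u).toLinearEquiv).toAddEquiv⟩

theorem nonempty_H_equiv [IsNoetherianRing A] [IsNoetherianRing B] [IsLocalRing A] [IsLocalRing B]
    (hs : Surjective (algebraMap A B)) (i : ℕ) (N : Type u) [AddCommGroup N] [Module A N] [Module B N]
    [IsScalarTower A B N] :
    Nonempty (LocCoh.H (maximalIdeal B) i N ≃+ LocCoh.H (maximalIdeal A) i N) := by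
  have h := nonempty_independence (R' := B) (maximalIdeal A) i
  rw [IsLocalRing.map_maximalIdeal_of_surjective _ hs] at h
  exact h.elim fun ι => exists_equiv_of_iso' (localCohomology (maximalIdeal B) i) (localCohomology (maximalIdeal A) i) ι N

end Surjective

end

end Groth.Agent.LocDuality
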