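import Groth.Agent.LocDuality.Duality
import Groth.Agent.LocCohBasic.Artinian
import Groth.Agent.MatlisDual.Local
import Groth.Agent.MatlisDual.Completion
import Groth.Agent.Depth.CM
import Mathlib.RingTheory.Filtration
import Mathlib.RingTheory.Ideal.AssociatedPrime.Localization

/-!
# Modules whose Matlis dual is the top local cohomology

`K` finite with `Hom(K, E) ≅ H^n_m(R)`: associated primes, regular elements, `(S₂)`, uniqueness.
-/

universe u

open CategoryTheory Limits LocCoh Function IsLocalRing Groth.Agent.LocCohBasic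
open scoped Pointwise

namespace Groth.Agent.LocDuality

noncomputable section

variable {R : Type u} [CommRing R] [IsNoetherianRing R] [IsLocalRing R]

/-- Finite modules with isomorphisms modulo all powers admit a surjection. -/
theorem exists_surjective_of_forall_mod_pow (M N : Type u) [AddCommGroup M] [Module R M] [Module.Finite R M]
    [AddCommGroup N] [Module R N] [Module.Finite R N]
    (h : ∀ k : ℕ, ∃ φ : (M ⧸ (maximalIdeal R ^ k • ⊤ : Submodule R M)) →ₗ[R]
      (N ⧸ (maximalIdeal R ^ k • ⊤ : Submodule R N)), Surjective φ) :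
    ∃ g : M →ₗ[R] N, Surjective g := by
  classical
  obtain ⟨a, π, hπ⟩ := Module.Finite.exists_fin' R M
  obtain ⟨b, σ, hσ⟩ := Module.Finite.exists_fin' R (LinearMap.ker π)
  let F : Fin b → (Fin a → R) := fun j => (σ (Pi.single j 1)).1
  let T : (Fin a → N) →ₗ[R] (Fin b → N) :=
    LinearMap.pi fun j => ∑ i, F j i • LinearMap.proj i
  obtain ⟨k, hk⟩ := Ideal.exists_pow_inf_eq_pow_smul (maximalIdeal R) (LinearMap.range T)
  obtain ⟨φ, hφ⟩ := h (k + 1)
  let J : Ideal R := maximalIdeal R ^ (k + 1)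
  choose c hc using fun i => Submodule.Quotient.mk_surjective _ (φ (Submodule.Quotient.mk (π (Pi.single i 1))))
  have hexp : ∀ x : Fin a → R, φ (Submodule.Quotient.mk (π x)) =
      Submodule.Quotient.mk (p := J • (⊤ : Submodule R N)) (∑ i, x i • c i) := fun x => by
    conv_lhs => rw [pi_eq_sum_univ' x]
    simp only [map_sum, map_smul, ← Submodule.mkQ_apply]
    exact Finset.sum_congr rfl fun i _ => congrArg (x i • ·) (hc i).symm
  have hv : T c ∈ J • (⊤ : Submodule R (Fin b → N)) ⊓ LinearMap.range T := by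
    refine ⟨?_, LinearMap.mem_range_self T c⟩
    have hj : ∀ j, T c j ∈ J • (⊤ : Submodule R N) := fun j => by
      rw [← Submodule.Quotient.mk_eq_zero]
      have := hexp (F j)
      rw [(σ (Pi.single j 1)).2, Submodule.Quotient.mk_zero, map_zero] at this
      simpa [T] using this.symm
    rw [← Finset.univ_sum_single (T c)]
    exact Submodule.sum_mem _ fun j _ =>
      Submodule.smul_top_le_comap_smul_top J (LinearMap.single R (fun _ : Fin b => N) j) (hj j)
  rw [hk (k + 1) (Nat.le_succ k), Nat.add_sub_cancel_left, pow_one] at hv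
  have hv' : T c ∈ (maximalIdeal R • (⊤ : Submodule R (Fin a → N))).map T := by
    rw [Submodule.map_smul'', Submodule.map_top]
    exact Submodule.smul_mono le_rfl inf_le_right hv
  obtain ⟨w, hw, hwc⟩ := hv'
  have hker : LinearMap.ker π ≤ LinearMap.ker ((Pi.basisFun R (Fin a)).constr R (c - w)) := by
    intro x hx
    obtain ⟨y, hy⟩ := hσ ⟨x, hx⟩
    have hx' : x = ∑ j, y j • F j := by
      have h1 := congrArg Subtype.val hy
      rw [pi_eq_sum_univ' y] at h1
      simpa [map_sum, F] using h1.symm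
    rw [LinearMap.mem_ker, hx', map_sum]
    refine Finset.sum_eq_zero fun j _ => ?_
    rw [map_smul, Module.Basis.constr_apply_fintype]
    have h2 : T (c - w) j = 0 := by rw [map_sub, hwc, sub_self]; rfl
    simp only [T, LinearMap.pi_apply, LinearMap.sum_apply, LinearMap.smul_apply, LinearMap.proj_apply] at h2
    simp only [Pi.basisFun_equivFun, LinearEquiv.refl_apply, h2, smul_zero]
  let g : M →ₗ[R] N := (LinearMap.ker π).liftQ _ hker ∘ₗ (π.quotKerEquivOfSurjective hπ).symm.toLinearMap
  refine ⟨g, LinearMap.range_eq_top.mp (top_le_iff.mp ?_)⟩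
  refine Submodule.le_of_le_smul_of_le_jacobson_bot (Module.Finite.fg_top) (IsLocalRing.jacobson_eq_maximalIdeal ⊥ bot_ne_top).ge ?_
  intro y _
  obtain ⟨q, hq⟩ := hφ (Submodule.Quotient.mk y)
  obtain ⟨m, rfl⟩ := Submodule.Quotient.mk_surjective _ q
  obtain ⟨x, rfl⟩ := hπ m
  rw [hexp, Submodule.Quotient.eq] at hq
  have hg : g (π x) = ∑ i, x i • c i - ∑ i, x i • w i := by
    have : (π.quotKerEquivOfSurjective hπ).symm (π x) = Submodule.Quotient.mk x := by
      rw [LinearEquiv.symm_apply_eq]; rfl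
    simp [g, this, Module.Basis.constr_apply_fintype, smul_sub, Finset.sum_sub_distrib]
  have hy : y = g (π x) + (∑ i, x i • w i - (∑ i, x i • c i - y)) := by rw [hg]; abel
  rw [hy]
  refine Submodule.add_mem_sup (LinearMap.mem_range_self g _) (Submodule.sub_mem _
    (Submodule.sum_mem _ fun i _ => Submodule.smul_mem _ _ ?_) ?_)
  · exact Submodule.smul_top_le_comap_smul_top (maximalIdeal R) (LinearMap.proj i : (Fin a → N) →ₗ[R] N) hw
  · exact Submodule.smul_mono_left (Ideal.pow_le_self (Nat.succ_ne_zero k)) hq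

/-- Finite modules with isomorphisms modulo all powers are isomorphic. -/
theorem nonempty_equiv_of_forall_mod_pow (M N : Type u) [AddCommGroup M] [Module R M] [Module.Finite R M]
    [AddCommGroup N] [Module R N] [Module.Finite R N]
    (h : ∀ k : ℕ, Nonempty ((M ⧸ (maximalIdeal R ^ k • ⊤ : Submodule R M)) ≃ₗ[R]
      (N ⧸ (maximalIdeal R ^ k • ⊤ : Submodule R N)))) :
    Nonempty (M ≃ₗ[R] N) := by
  obtain ⟨g, hg⟩ := exists_surjective_of_forall_mod_pow M N fun k => ⟨_, (h k).some.surjective⟩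
  obtain ⟨g', hg'⟩ := exists_surjective_of_forall_mod_pow N M fun k => ⟨_, (h k).some.symm.surjective⟩
  have hinj := OrzechProperty.injective_of_surjective_endomorphism (g' ∘ₗ g) (hg'.comp hg)
  exact ⟨LinearEquiv.ofBijective g ⟨Injective.of_comp hinj, hg⟩⟩

variable {E : Type u} [AddCommGroup E] [Module R E] {f : ResidueField R →ₗ[R] E}

/-- The dual of `M/JM` inside the dual of `M`. -/
lemma exists_dual_quot_map {M N : Type u} [AddCommGroup M] [Module R M] [AddCommGroup N] [Module R N]
    (J : Ideal R) (e : (M →ₗ[R] E) →ₗ[R] (N →ₗ[R] E)) :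
    ∃ L : ((M ⧸ (J • ⊤ : Submodule R M)) →ₗ[R] E) →ₗ[R] ((N ⧸ (J • ⊤ : Submodule R N)) →ₗ[R] E),
      ∀ φ, L φ ∘ₗ (J • ⊤ : Submodule R N).mkQ = e (φ ∘ₗ (J • ⊤ : Submodule R M).mkQ) := by
  have h : ∀ φ, (J • ⊤ : Submodule R N) ≤ LinearMap.ker (e (φ ∘ₗ (J • ⊤ : Submodule R M).mkQ)) := fun φ => by
    refine Submodule.smul_le.mpr fun r hr x _ => ?_
    have h0 : r • (φ ∘ₗ (J • ⊤ : Submodule R M).mkQ) = 0 := LinearMap.ext fun m => by
      rw [LinearMap.smul_apply, ← map_smul, LinearMap.comp_apply, Submodule.mkQ_apply,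
        (Submodule.Quotient.mk_eq_zero _).mpr (Submodule.smul_mem_smul hr Submodule.mem_top), map_zero,
        LinearMap.zero_apply]
    rw [LinearMap.mem_ker, map_smul, ← LinearMap.smul_apply, ← map_smul, h0, map_zero, LinearMap.zero_apply]
  refine ⟨{ toFun := fun φ => (J • ⊤ : Submodule R N).liftQ _ (h φ), map_add' := fun φ ψ => ?_, map_smul' := fun r φ => ?_ },
    fun φ => Submodule.liftQ_mkQ _ _ _⟩
  · refine Submodule.linearMap_qext _ (LinearMap.ext fun x => ?_)
    simp [Submodule.liftQ_apply, LinearMap.add_comp]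
  · refine Submodule.linearMap_qext _ (LinearMap.ext fun x => ?_)
    simp [Submodule.liftQ_apply, LinearMap.smul_comp]

/-- Finite modules with isomorphic Matlis duals are isomorphic. -/
theorem nonempty_equiv_of_dual (hf : InjHull.IsInjectiveHull f) (M N : Type u) [AddCommGroup M] [Module R M] [Module.Finite R M]
    [AddCommGroup N] [Module R N] [Module.Finite R N] (e : (M →ₗ[R] E) ≃ₗ[R] (N →ₗ[R] E)) :
    Nonempty (M ≃ₗ[R] N) := by
  refine nonempty_equiv_of_forall_mod_pow M N fun k => ?_
  let J : Ideal R := maximalIdeal R ^ k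
  obtain ⟨L, hL⟩ := exists_dual_quot_map J e.toLinearMap
  obtain ⟨L', hL'⟩ := exists_dual_quot_map J e.symm.toLinearMap
  have h1 : L ∘ₗ L' = LinearMap.id := LinearMap.ext fun φ => Submodule.linearMap_qext _ (by
    change L (L' φ) ∘ₗ _ = φ ∘ₗ _
    rw [hL, hL']; exact e.apply_symm_apply _)
  have h2 : L' ∘ₗ L = LinearMap.id := LinearMap.ext fun φ => Submodule.linearMap_qext _ (by
    change L' (L φ) ∘ₗ _ = φ ∘ₗ _
    rw [hL', hL]; exact e.symm_apply_apply _)
  have hfl : ∀ (P : Type u) [AddCommGroup P] [Module R P] [Module.Finite R P],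
      IsFiniteLength R (P ⧸ (J • ⊤ : Submodule R P)) := fun P _ _ _ => by
    have : IsFiniteLength R (R ⧸ J) := MatlisDual.isFiniteLength_quotient_pow k
    rw [isFiniteLength_iff_isNoetherian_isArtinian] at this ⊢
    obtain ⟨_, _⟩ := this
    obtain ⟨m, π, hπ⟩ := Module.Finite.exists_fin' R P
    let q : (Fin m → R ⧸ J) →ₗ[R] P ⧸ (J • ⊤ : Submodule R P) :=
      ∑ i, (Submodule.liftQ J (LinearMap.toSpanSingleton R _ (Submodule.Quotient.mk (π (Pi.single i 1))))
        (fun r hr => by
          rw [LinearMap.mem_ker, LinearMap.toSpanSingleton_apply, ← Submodule.Quotient.mk_smul,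
            Submodule.Quotient.mk_eq_zero]
          exact Submodule.smul_mem_smul hr Submodule.mem_top)) ∘ₗ LinearMap.proj i
    have hq : Surjective q := fun y => by
      obtain ⟨p, rfl⟩ := Submodule.Quotient.mk_surjective _ y
      obtain ⟨x, rfl⟩ := hπ p
      refine ⟨fun i => Submodule.Quotient.mk (x i), ?_⟩
      simp only [q, LinearMap.sum_apply, LinearMap.comp_apply, LinearMap.proj_apply]
      conv_rhs => rw [pi_eq_sum_univ' x]
      simp only [map_sum, map_smul, ← Submodule.mkQ_apply]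
      exact Finset.sum_congr rfl fun i _ => rfl
    exact ⟨inferInstance, isArtinian_of_surjective _ q hq⟩
  exact ⟨(LinearEquiv.ofBijective _ (MatlisDual.applyₗ_bijective_of_isFiniteLength hf (hfl M))).trans
    ((((LinearEquiv.ofLinearMap L L' h1 h2).congrLeft E R)).trans
      (LinearEquiv.ofBijective _ (MatlisDual.applyₗ_bijective_of_isFiniteLength hf (hfl N))).symm)⟩

/-- `H^d` is surjective on surjections of modules of dimension `≤ d`. -/
lemma hMap_surjective_of_supportDim (I : Ideal R) (d : ℕ) {M N : Type u} [AddCommGroup M] [Module R M]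
    [AddCommGroup N] [Module R N] (g : M →ₗ[R] N) (hg : Surjective g)
    (hM : Module.supportDim R M ≤ (d : WithBot ℕ∞)) : Surjective (hMap I d g) := by
  let S := g.shortComplexKer
  have hvan := subsingleton_of_supportDim_lt I (i := d + 1) S.X₁
    (((Module.supportDim_le_of_injective _ (LinearMap.ker g).subtype_injective).trans hM).trans_lt
      (by exact_mod_cast Nat.lt_succ_self d))
  exact fun z => exists_of_delta_eq_zero I (LinearMap.shortExact_shortComplexKer hg) z
    (@Subsingleton.elim _ hvan _ _)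

/-- `J·H^d(M) = H^d(M)` if `M/JM` has dimension `< d`. -/
theorem smul_top_H_eq_top (I J : Ideal R) (d : ℕ) (M : Type u) [AddCommGroup M] [Module R M]
    [Module.Finite R M] (hM : Module.supportDim R M ≤ (d : WithBot ℕ∞))
    (hJ : Module.supportDim R (M ⧸ (J • ⊤ : Submodule R M)) < (d : WithBot ℕ∞)) :
    J • (⊤ : Submodule R (LocCoh.H I d M)) = ⊤ := by
  classical
  obtain ⟨s, rfl⟩ := IsNoetherian.noetherian J
  let N : Submodule R M := Ideal.span (s : Set R) • ⊤
  have hN : Surjective (hMap I d N.subtype) := by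
    have hvan := subsingleton_of_supportDim_lt I (i := d) (ModuleCat.of R (M ⧸ N)) hJ
    have hS : (ModuleCat.shortComplexOfCompEqZero N.subtype N.mkQ
      (LinearMap.ext fun x => (Submodule.Quotient.mk_eq_zero N).mpr x.2)).ShortExact :=
      ModuleCat.shortComplex_shortExact _
        (LinearMap.exact_subtype_mkQ N) (Submodule.injective_subtype _) (Submodule.mkQ_surjective _)
    exact fun z => exists_of_map_g_eq_zero I hS z (@Subsingleton.elim _ hvan _ _)
  let q : (s → M) →ₗ[R] N :=
    LinearMap.codRestrict N (∑ r : s, (r : R) • LinearMap.proj r) fun v => by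
      simp only [LinearMap.sum_apply, LinearMap.smul_apply, LinearMap.proj_apply]
      exact Submodule.sum_mem _ fun r _ => Submodule.smul_mem_smul (Ideal.subset_span r.2) Submodule.mem_top
  have hq : Surjective q := by
    rintro ⟨y, hy⟩
    have : y ∈ LinearMap.range (∑ r : s, (r : R) • LinearMap.proj r : (s → M) →ₗ[R] M) := by
      change y ∈ Submodule.span R (s : Set R) • (⊤ : Submodule R M) at hy
      rw [← Submodule.span_univ, Submodule.span_smul_span] at hy
      refine Submodule.span_le.mpr ?_ hy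
      rintro _ ⟨r, hr, m, -, rfl⟩
      refine ⟨Pi.single ⟨r, hr⟩ m, ?_⟩
      simp [LinearMap.sum_apply, Pi.single_apply]
    obtain ⟨v, hv⟩ := this
    exact ⟨v, Subtype.ext hv⟩
  have hpi : Module.supportDim R (s → M) ≤ (d : WithBot ℕ∞) := by
    refine le_trans ?_ hM
    rw [Module.supportDim_eq_ringKrullDim_quotient_annihilator, Module.supportDim_eq_ringKrullDim_quotient_annihilator]
    exact ringKrullDim_le_of_surjective (Ideal.Quotient.factor (fun a ha => Module.mem_annihilator.mpr fun v =>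
      funext fun r => Module.mem_annihilator.mp ha _)) (Ideal.Quotient.factor_surjective _)
  refine top_le_iff.mp fun y _ => ?_
  obtain ⟨z, rfl⟩ := hN y
  obtain ⟨v, rfl⟩ := hMap_surjective_of_supportDim I d q hq hpi z
  rw [← hMap_comp, show N.subtype ∘ₗ q = ∑ r : s, (r : R) • LinearMap.proj r from rfl]
  change ((localCohomology I d).map (ModuleCat.ofHom (∑ r : s, (r : R) • LinearMap.proj r))).hom v ∈ _
  have hsum : ∀ t : Finset s, hMap I d (∑ r ∈ t, (r : R) • (LinearMap.proj r : (s → M) →ₗ[R] M)) v ∈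
      Ideal.span (s : Set R) • (⊤ : Submodule R (LocCoh.H I d M)) := fun t => by
    induction t using Finset.cons_induction with
    | empty => rw [Finset.sum_empty, hMap_zero]; exact zero_mem _
    | cons r t hr ih =>
      rw [Finset.sum_cons, hMap_add]
      refine add_mem ?_ ih
      rw [show (r : R) • (LinearMap.proj r : (s → M) →ₗ[R] M) = LinearMap.lsmul R M (r : R) ∘ₗ LinearMap.proj r from rfl, hMap_comp]
      rw [show hMap I d (LinearMap.lsmul R M (r : R)) (hMap I d (LinearMap.proj r) v) =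
        (r : R) • hMap I d (LinearMap.proj r) v from map_lsmul I (ModuleCat.of R M) _ _]
      exact Submodule.smul_mem_smul (Ideal.subset_span r.2) Submodule.mem_top
  exact hsum Finset.univ

lemma eq_of_dim_quotient_eq {n : ℕ} (hn : ringKrullDim R = n) {p q : Ideal R} [p.IsPrime] [q.IsPrime]
    (hpq : p ≤ q) (hq : (n : WithBot ℕ∞) ≤ ringKrullDim (R ⧸ q)) : p = q := by
  by_contra hne
  obtain ⟨x, hxq, hxp⟩ := SetLike.exists_of_lt (lt_of_le_of_ne hpq hne)
  have h1 : ringKrullDim ((R ⧸ p) ⧸ Ideal.span {Ideal.Quotient.mk p x}) + 1 ≤ ringKrullDim (R ⧸ p) :=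
    ringKrullDim_quotient_succ_le_of_nonZeroDivisor
      (mem_nonZeroDivisors_of_ne_zero (by rwa [ne_eq, Ideal.Quotient.eq_zero_iff_mem]))
  have h2 : ringKrullDim (R ⧸ q) ≤ ringKrullDim ((R ⧸ p) ⧸ Ideal.span {Ideal.Quotient.mk p x}) :=
    ringKrullDim_le_of_surjective (Ideal.Quotient.lift _ (Ideal.Quotient.factor hpq) (fun y hy => by
      obtain ⟨c, rfl⟩ := Ideal.mem_span_singleton'.mp hy
      rw [map_mul, Ideal.Quotient.factor_mk, Ideal.Quotient.eq_zero_iff_mem.mpr hxq, mul_zero]))
      (Ideal.Quotient.lift_surjective_of_surjective _ _ (Ideal.Quotient.factor_surjective hpq))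
  have h3 := (add_le_add (hq.trans h2) (le_refl (1 : WithBot ℕ∞))).trans (h1.trans ((ringKrullDim_quotient_le p).trans hn.le))
  norm_cast at h3
  omega

lemma le_of_lt_natCast_succ {x : WithBot ℕ∞} {d : ℕ} (h : x < ((d + 1 : ℕ) : WithBot ℕ∞)) : x ≤ (d : WithBot ℕ∞) := by
  induction x with
  | bot => exact bot_le
  | coe x =>
    induction x using ENat.recTopCoe with
    | top => exact absurd h not_top_lt
    | coe m => norm_cast at h ⊢; omega

lemma succ_natCast_le_of_lt {x : WithBot ℕ∞} {m : ℕ} (h : (m : WithBot ℕ∞) < x) : ((m + 1 : ℕ) : WithBot ℕ∞) ≤ x :=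
  not_lt.mp fun h' => absurd (le_of_lt_natCast_succ h') (not_le.mpr h)

lemma supportDim_ker_lt {n : ℕ} (hn : ringKrullDim R = n) {a : R}
    (ha : ∀ q : Ideal R, q.IsPrime → ringKrullDim (R ⧸ q) = n → a ∉ q) :
    Module.supportDim R (LinearMap.ker (LinearMap.mulLeft R a)) < (n : WithBot ℕ∞) := by
  refine supportDim_lt hn _ fun q hq _ hdim => ?_
  obtain ⟨m, hm⟩ := Module.mem_support_iff'.mp hq
  exact hm a (ha _ q.isPrime hdim) (Subtype.ext m.2)

/-- `H^{n-1}(R/a)` maps onto the `a`-torsion of `H^n(R)`. -/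
theorem exists_torsion_surjection (I : Ideal R) {n : ℕ} (hn : ringKrullDim R = (n + 1 : ℕ)) {a : R}
    (ha : ∀ q : Ideal R, q.IsPrime → ringKrullDim (R ⧸ q) = (n + 1 : ℕ) → a ∉ q) :
    ∃ D : LocCoh.H I n (R ⧸ LinearMap.range (LinearMap.mulLeft R a)) →ₗ[R] LocCoh.H I (n + 1) R,
      ∀ y, y ∈ LinearMap.range D ↔ a • y = 0 := by
  let m : R →ₗ[R] R := LinearMap.mulLeft R a
  let π : R →ₗ[R] LinearMap.range m := m.rangeRestrict
  have hπ : Surjective π := LinearMap.surjective_rangeRestrict m
  have he : Exact (LinearMap.ker m).subtype π := fun x => by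
    rw [Submodule.coe_subtype, Subtype.range_coe_subtype]
    exact ⟨fun h => congrArg Subtype.val h, fun h => Subtype.ext h⟩
  have hπinj : Injective (hMap I (n + 1) π) := (injective_iff_map_eq_zero _).mpr fun y hy => by
    obtain ⟨z, rfl⟩ := (hMap_exact I hn he hπ y).mp hy
    have := subsingleton_of_supportDim_lt I (i := n + 1) (ModuleCat.of R (LinearMap.ker m))
      (supportDim_ker_lt hn ha)
    rw [@Subsingleton.elim _ this z 0]; exact map_zero _
  let e := LinearEquiv.ofBijective (hMap I (n + 1) π) ⟨hπinj, hMap_surjective I hn π hπ⟩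
  have hS : (ModuleCat.shortComplexOfCompEqZero (LinearMap.range m).subtype (LinearMap.range m).mkQ
      (LinearMap.ext fun x => (Submodule.Quotient.mk_eq_zero _).mpr x.2)).ShortExact :=
    ModuleCat.shortComplex_shortExact _
      (LinearMap.exact_subtype_mkQ _) (Submodule.injective_subtype _) (Submodule.mkQ_surjective _)
  let δ : LocCoh.H I n (R ⧸ LinearMap.range m) →ₗ[R] LocCoh.H I (n + 1) (LinearMap.range m) :=
    (delta I n hS).hom
  have hsmul : ∀ y, hMap I (n + 1) (LinearMap.range m).subtype (e y) = a • y := fun y => by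
    rw [LinearEquiv.ofBijective_apply, ← hMap_comp,
      show (LinearMap.range m).subtype ∘ₗ π = LinearMap.lsmul R R a from LinearMap.ext fun x => rfl]
    exact map_lsmul I (ModuleCat.of R R) a y
  refine ⟨e.symm.toLinearMap ∘ₗ δ, fun y => ⟨?_, fun hy => ?_⟩⟩
  · rintro ⟨w, rfl⟩
    rw [← hsmul, LinearMap.comp_apply, LinearEquiv.coe_coe, e.apply_symm_apply]
    exact congrArg (fun t => t.hom w) (delta_comp_map I (n := n) hS)
  · obtain ⟨w, hw⟩ := exists_of_map_f_eq_zero I hS (e y) ((hsmul y).trans hy)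
    exact ⟨w, by rw [LinearMap.comp_apply, LinearEquiv.coe_coe, show δ w = e y from hw, e.symm_apply_apply]⟩

lemma height_add_ringKrullDim_quotient_le (p : Ideal R) [p.IsPrime] :
    (p.height : WithBot ℕ∞) + ringKrullDim (R ⧸ p) ≤ ringKrullDim R := by
  let x : PrimeSpectrum R := ⟨p, inferInstance⟩
  have h : PrimeSpectrum.zeroLocus (R := R) (p : Set R) = Set.Ici x := rfl
  rw [ringKrullDim_quotient, h, ← Order.coheight_eq_krullDim_Ici, ringKrullDim,
    Order.krullDim_eq_iSup_height_add_coheight_of_nonempty, show p.height = Order.height x from PrimeSpectrum.height_eq_orderHeight x,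
    ← WithBot.coe_add, WithBot.coe_le_coe]
  exact le_iSup (fun a : PrimeSpectrum R => Order.height a + Order.coheight a) x

/-! ### Canonical modules -/

variable {n : ℕ} {K : Type u} [AddCommGroup K] [Module R K] [Module.Finite R K]
  (hn : ringKrullDim R = n) (hf : InjHull.IsInjectiveHull f)
  (eK : (K →ₗ[R] E) ≃ₗ[R] LocCoh.H (maximalIdeal R) n R)

include hn hf eK

lemma subsingleton_hom_iff (M : Type u) [AddCommGroup M] [Module R M] [Module.Finite R M] :
    Subsingleton (M →ₗ[R] K) ↔ Subsingleton (LocCoh.H (maximalIdeal R) n M) := by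
  have := hf.isInjective
  rw [(topEquiv (maximalIdeal R) M hn eK).toEquiv.subsingleton_congr]
  refine ⟨fun h => ⟨fun φ ψ => LinearMap.ext fun x => by rw [Subsingleton.elim x 0, map_zero, map_zero]⟩, fun h => ?_⟩
  exact subsingleton_of_forall_eq 0 fun x =>
    MatlisDual.applyₗ_injective hf _ (Subsingleton.elim _ _)

theorem associatedPrimes_eq :
    associatedPrimes R K = {p : Ideal R | p.IsPrime ∧ ringKrullDim (R ⧸ p) = n} := by
  have hmem : ∀ q ∈ associatedPrimes R K, ringKrullDim (R ⧸ q) = n := fun q hq => by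
    obtain ⟨hq', x, hx⟩ := (isAssociatedPrime_iff_exists_injective_linearMap q K).mp hq
    refine le_antisymm ((ringKrullDim_quotient_le q).trans hn.le) (not_lt.mp fun h => ?_)
    have := (subsingleton_hom_iff hn hf eK (R ⧸ q)).mpr (subsingleton_of_supportDim_lt _ (ModuleCat.of R (R ⧸ q))
      (by rwa [Module.supportDim_quotient_eq_ringKrullDim]))
    exact hq'.ne_top (Ideal.Quotient.subsingleton_iff.mp ⟨fun a b => hx (by
      rw [Subsingleton.elim x 0]; rfl)⟩)
  ext p
  refine ⟨fun hp => ⟨hp.isPrime, hmem p hp⟩, fun ⟨hp, hdim⟩ => ?_⟩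
  have hnt := nontrivial_localCohomology (ModuleCat.of R (R ⧸ p)) n
    (by rw [Module.supportDim_quotient_eq_ringKrullDim]; exact hdim)
  have hne : ¬ Subsingleton ((R ⧸ p) →ₗ[R] K) := fun h => by
    have := (subsingleton_hom_iff hn hf eK (R ⧸ p)).mp h
    exact not_subsingleton _ this
  rw [not_subsingleton_iff_nontrivial] at hne
  obtain ⟨φ, hφ⟩ := exists_ne (0 : (R ⧸ p) →ₗ[R] K)
  have hx : φ 1 ≠ 0 := fun h => hφ (Submodule.linearMap_qext _ (LinearMap.ext_ring (by simpa using h)))
  obtain ⟨q, hq, hle⟩ := exists_le_isAssociatedPrime_of_isNoetherianRing R (φ 1) hx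
  have hpq : p ≤ q := le_trans (fun r hr => Submodule.mem_colon_singleton.mpr (by
    rw [Submodule.mem_bot, ← map_smul, Algebra.smul_def, mul_one, Ideal.Quotient.algebraMap_eq,
      Ideal.Quotient.eq_zero_iff_mem.mpr hr, map_zero])) hle
  have := hq.isPrime
  rwa [eq_of_dim_quotient_eq hn hpq (hmem q hq).ge]

theorem nontrivial_canon : Nontrivial K := by
  by_contra h
  rw [not_nontrivial_iff_subsingleton] at h
  have hR : Subsingleton (R →ₗ[R] K) := ⟨fun φ ψ => LinearMap.ext fun x => Subsingleton.elim _ _⟩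
  have := nontrivial_localCohomology (ModuleCat.of R R) n (by rw [Module.supportDim_self_eq_ringKrullDim, hn])
  exact not_subsingleton _ ((subsingleton_hom_iff hn hf eK R).mp hR)

theorem isSMulRegular_iff (a : R) :
    IsSMulRegular K a ↔ ∀ q : Ideal R, q.IsPrime → ringKrullDim (R ⧸ q) = n → a ∉ q := by
  have h := biUnion_associatedPrimes_eq_compl_regular R K
  rw [associatedPrimes_eq hn hf eK] at h
  constructor
  · intro ha q hq hd haq
    have : a ∈ {r : R | IsSMulRegular K r}ᶜ := h ▸ Set.mem_biUnion ⟨hq, hd⟩ haq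
    exact this ha
  · intro ha
    by_contra hne
    have : a ∈ {r : R | IsSMulRegular K r}ᶜ := hne
    rw [← h] at this
    obtain ⟨q, hq, haq⟩ := Set.mem_iUnion₂.mp this
    exact ha q hq.1 hq.2 haq

/-- `q·(K/aK)^∨ = (K/aK)^∨` when `dim R/(q + (a)) < n - 1`. -/
theorem le_dim_of_mem_associatedPrimes_quot {a : R}
    (ha : ∀ q : Ideal R, q.IsPrime → ringKrullDim (R ⧸ q) = n → a ∉ q)
    (hn0 : 0 < n) {q : Ideal R} (hq : q ∈ associatedPrimes R (QuotSMulTop a K)) :
    a ∈ q ∧ ((n - 1 : ℕ) : WithBot ℕ∞) ≤ ringKrullDim (R ⧸ q) := by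
  have := hf.isInjective
  have := hq.isPrime
  have haq : a ∈ q := by
    apply hq.annihilator_le
    refine Submodule.mem_annihilator.mpr fun x _ => ?_
    obtain ⟨x, rfl⟩ := Submodule.Quotient.mk_surjective _ x
    rw [← Submodule.Quotient.mk_smul, Submodule.Quotient.mk_eq_zero]
    exact Submodule.smul_mem_pointwise_smul x a ⊤ Submodule.mem_top
  refine ⟨haq, not_lt.mp fun hlt => ?_⟩
  obtain ⟨d, rfl⟩ : ∃ d, n = d + 1 := ⟨n - 1, by omega⟩
  rw [Nat.add_sub_cancel] at hlt
  obtain ⟨D, hD⟩ := exists_torsion_surjection (maximalIdeal R) hn ha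
  let Ra := R ⧸ LinearMap.range (LinearMap.mulLeft R a)
  have hdimRa : Module.supportDim R Ra ≤ (d : WithBot ℕ∞) := by
    have : Module.supportDim R Ra < ((d + 1 : ℕ) : WithBot ℕ∞) := supportDim_lt hn _ fun t ht _ hdim => by
      rw [Module.support_eq_zeroLocus] at ht
      refine ha _ t.isPrime hdim (ht (Module.mem_annihilator.mpr fun x => ?_))
      obtain ⟨x, rfl⟩ := Submodule.Quotient.mk_surjective _ x
      rw [← Submodule.Quotient.mk_smul, Submodule.Quotient.mk_eq_zero]
      exact ⟨x, rfl⟩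
    exact le_of_lt_natCast_succ this
  have hJ : Module.supportDim R (Ra ⧸ (q • ⊤ : Submodule R Ra)) < (d : WithBot ℕ∞) := by
    refine lt_of_le_of_lt ?_ hlt
    rw [Module.supportDim_eq_ringKrullDim_quotient_annihilator]
    refine ringKrullDim_le_of_surjective (Ideal.Quotient.factor (fun r hr => Module.mem_annihilator.mpr fun x => ?_))
      (Ideal.Quotient.factor_surjective _)
    obtain ⟨x, rfl⟩ := Submodule.Quotient.mk_surjective _ x
    rw [← Submodule.Quotient.mk_smul, Submodule.Quotient.mk_eq_zero]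
    exact Submodule.smul_mem_smul hr Submodule.mem_top
  have htop := smul_top_H_eq_top (maximalIdeal R) q d Ra hdimRa hJ
  obtain ⟨-, ι, hι⟩ := (isAssociatedPrime_iff_exists_injective_linearMap q _).mp hq
  have hx : ι 1 ≠ 0 := fun h => by
    have : (1 : R ⧸ q) = 0 := hι (by rw [h, map_zero])
    exact hq.isPrime.ne_top (Ideal.Quotient.subsingleton_iff.mp (subsingleton_of_zero_eq_one this.symm))
  obtain ⟨ψ, hψ⟩ := MatlisDual.exists_apply_ne_zero hf hx
  obtain ⟨w, hw⟩ := (hD (eK (ψ ∘ₗ (a • ⊤ : Submodule R K).mkQ))).mpr (by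
    rw [← map_smul, show a • (ψ ∘ₗ (a • ⊤ : Submodule R K).mkQ) = 0 from LinearMap.ext fun k => by
      rw [LinearMap.smul_apply, ← map_smul, LinearMap.comp_apply, Submodule.mkQ_apply,
        (Submodule.Quotient.mk_eq_zero _).mpr (Submodule.smul_mem_pointwise_smul k a ⊤ Submodule.mem_top), map_zero]
      rfl, map_zero])
  obtain ⟨x, hxm⟩ := Submodule.Quotient.mk_surjective _ (ι 1)
  have key : ∀ w : LocCoh.H (maximalIdeal R) d Ra, eK.symm (D w) x = 0 := fun w => by
    have hwm : w ∈ q • (⊤ : Submodule R (LocCoh.H (maximalIdeal R) d Ra)) := by rw [htop]; exact Submodule.mem_top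
    refine Submodule.smul_induction_on hwm (fun r hr v _ => ?_) (fun u v hu hv => ?_)
    · rw [map_smul, map_smul, LinearMap.smul_apply, ← map_smul]
      have hmem : r • x ∈ (a • ⊤ : Submodule R K) := by
        rw [← Submodule.Quotient.mk_eq_zero, Submodule.Quotient.mk_smul, hxm, ← map_smul, Algebra.smul_def,
          mul_one, Ideal.Quotient.algebraMap_eq, Ideal.Quotient.eq_zero_iff_mem.mpr hr, map_zero]
      rw [Submodule.mem_smul_pointwise_iff_exists] at hmem
      obtain ⟨z, -, hz⟩ := hmem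
      rw [← hz, map_smul, ← LinearMap.smul_apply, ← map_smul, (hD _).mp ⟨v, rfl⟩, map_zero]
      rfl
    · rw [map_add, map_add, LinearMap.add_apply, hu, hv, add_zero]
  apply hψ
  have := key w
  rw [hw, eK.symm_apply_apply, LinearMap.comp_apply, Submodule.mkQ_apply, hxm] at this
  exact this

/-- The second element of a system of parameters is regular. -/
theorem isSMulRegular_quot {a b : R}
    (ha : ∀ q : Ideal R, q.IsPrime → ringKrullDim (R ⧸ q) = n → a ∉ q) (hn0 : 0 < n)
    (hb : ∀ q : Ideal R, q.IsPrime → a ∈ q → ringKrullDim (R ⧸ q) = (n - 1 : ℕ) → b ∉ q) :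
    IsSMulRegular (QuotSMulTop a K) b := by
  by_contra hne
  have : b ∈ {r : R | IsSMulRegular (QuotSMulTop a K) r}ᶜ := hne
  rw [← biUnion_associatedPrimes_eq_compl_regular] at this
  obtain ⟨q, hq, hbq⟩ := Set.mem_iUnion₂.mp this
  obtain ⟨haq, hle⟩ := le_dim_of_mem_associatedPrimes_quot hn hf eK ha hn0 hq
  refine hb q hq.isPrime haq (le_antisymm (not_lt.mp fun hlt => ?_) hle) hbq
  refine ha q hq.isPrime ?_ haq
  refine le_antisymm ((ringKrullDim_quotient_le q).trans hn.le) ?_
  obtain ⟨m, rfl⟩ : ∃ m, n = m + 1 := ⟨n - 1, by omega⟩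
  exact succ_natCast_le_of_lt (by simpa using hlt)

theorem hasSk_two : LocCoh.HasSk 2 R K := by
  intro p hp
  by_cases hK : Subsingleton (LocalizedModule p.primeCompl K)
  · exact (min_le_right _ _).trans (by rw [Module.supportDim_eq_bot_iff_subsingleton _ _ |>.mpr hK]; exact bot_le)
  rw [not_subsingleton_iff_nontrivial] at hK
  obtain ⟨t, ht⟩ := Depth.exists_natCast_eq_supportDim (R := Localization.AtPrime p) (M := LocalizedModule p.primeCompl K)
  rw [ht]
  suffices h : ∀ k : ℕ, k ≤ 2 → k ≤ t → (k : ℕ∞) ≤ depth (Localization.AtPrime p) (LocalizedModule p.primeCompl K) by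
    rw [show min ((2 : ℕ) : WithBot ℕ∞) ((t : ℕ∞) : WithBot ℕ∞) = (((min 2 t : ℕ) : ℕ∞) : WithBot ℕ∞) by
      rcases le_total 2 t with h | h
      · rw [min_eq_left h, min_eq_left (show ((2 : ℕ) : WithBot ℕ∞) ≤ _ from WithBot.coe_le_coe.mpr (Nat.cast_le.mpr h))]; rfl
      · rw [min_eq_right h, min_eq_right (show _ ≤ ((2 : ℕ) : WithBot ℕ∞) from WithBot.coe_le_coe.mpr (Nat.cast_le.mpr h))]]
    exact WithBot.coe_le_coe.mpr (h _ (min_le_left 2 t) (min_le_right 2 t))
  have hht : (t : WithBot ℕ∞) ≤ p.height := by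
    rw [← IsLocalization.AtPrime.ringKrullDim_eq_height p (Localization.AtPrime p)]
    exact (le_of_eq (by rw [ht]; rfl)).trans (Module.supportDim_le_ringKrullDim (Localization.AtPrime p) (LocalizedModule p.primeCompl K))
  have hsum : (t : WithBot ℕ∞) + ringKrullDim (R ⧸ p) ≤ n :=
    (add_le_add hht le_rfl).trans ((height_add_ringKrullDim_quotient_le p).trans hn.le)
  have hnot : 1 ≤ t → ∀ q : Ideal R, q.IsPrime → p ≤ q → ringKrullDim (R ⧸ q) ≠ n := by
    intro ht1 q hq hpq hdim
    have : (n : WithBot ℕ∞) + 1 ≤ n := calc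
      (n : WithBot ℕ∞) + 1 ≤ (t : WithBot ℕ∞) + ringKrullDim (R ⧸ p) := by
        rw [add_comm]
        refine add_le_add (by exact_mod_cast ht1) (hdim.ge.trans ?_)
        exact ringKrullDim_le_of_surjective (Ideal.Quotient.factor hpq) (Ideal.Quotient.factor_surjective hpq)
      _ ≤ n := hsum
    norm_cast at this; omega
  intro k hk2 hkt
  rcases Nat.eq_zero_or_pos k with rfl | hk1
  · simp
  obtain ⟨a, hap, ha⟩ : ∃ a ∈ p, IsSMulRegular K a := by
    by_contra! h
    obtain ⟨q, hq, hle⟩ := (Ideal.subset_union_prime_finite (associatedPrimes.finite R K) ⊥ ⊥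
      (fun p hp _ _ => hp.isPrime)).mp (by
        rw [biUnion_associatedPrimes_eq_compl_regular]; exact fun r hr => h r hr : (p : Set R) ⊆ ⋃ q ∈ associatedPrimes R K, (q : Set R))
    rw [associatedPrimes_eq hn hf eK] at hq
    exact hnot (by omega) q hq.1 hle hq.2
  rw [← Depth.depth_localized_quotSMulTop_add_one p hap ha]
  obtain rfl | rfl : k = 1 ∨ k = 2 := by omega
  · exact le_add_self
  rw [show ((2 : ℕ) : ℕ∞) = 1 + 1 from rfl]
  refine add_le_add (Order.one_le_iff_ne_zero.mpr fun h0 => ?_) le_rfl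
  by_cases hsub : Subsingleton (LocalizedModule p.primeCompl (QuotSMulTop a K))
  · rw [LocCoh.depth, Depth.idealDepth_of_subsingleton] at h0; exact ENat.top_ne_zero h0
  rw [not_subsingleton_iff_nontrivial] at hsub
  rw [Depth.depth_eq_zero_iff] at h0
  have hmem := Module.associatedPrimes.comap_mem_associatedPrimes_of_mem_associatedPrimes_of_isLocalizedModule_of_fg
    p.primeCompl (LocalizedModule.mkLinearMap p.primeCompl (QuotSMulTop a K)) (maximalIdeal _) h0
    ((isNoetherianRing_iff_ideal_fg R).mp inferInstance _)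
  rw [show Ideal.comap (algebraMap R (Localization.AtPrime p)) (maximalIdeal (Localization.AtPrime p)) = p from
    IsLocalization.AtPrime.comap_maximalIdeal (Localization.AtPrime p) p] at hmem
  obtain ⟨m, rfl⟩ : ∃ m, n = m + 1 := ⟨n - 1, by
    have : ((2 : ℕ) : WithBot ℕ∞) + 0 ≤ n := le_trans (add_le_add (by exact_mod_cast hkt) (ringKrullDim_nonneg_of_nontrivial)) hsum
    norm_cast at this; omega⟩
  have h1 := (le_dim_of_mem_associatedPrimes_quot hn hf eK ((isSMulRegular_iff hn hf eK a).mp ha) (by omega) hmem).2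
  rw [Nat.add_sub_cancel] at h1
  have h2 := (add_le_add (Nat.cast_le.mpr hkt : ((2 : ℕ) : WithBot ℕ∞) ≤ t) h1).trans hsum
  norm_cast at h2
  omega

end

end Groth.Agent.LocDuality

namespace Groth.Agent.LocDuality

/-- A prime containing some members of a system of parameters has small coheight. -/
theorem ringKrullDim_quotient_le_card_of_sop {R : Type u} [CommRing R] [IsNoetherianRing R] [IsLocalRing R]
    {ι : Type} [Fintype ι] (a : ι → R) (ha : maximalIdeal R ≤ (Ideal.span (Set.range a)).radical)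
    (hmem : ∀ i, a i ∈ maximalIdeal R) (q : Ideal R) [q.IsPrime] (T : Finset ι) (hT : ∀ i ∉ T, a i ∈ q) :
    ringKrullDim (R ⧸ q) ≤ (T.card : WithBot ℕ∞) := by
  classical
  have hqm : q ≤ maximalIdeal R := IsLocalRing.le_maximalIdeal (Ideal.IsPrime.ne_top ‹_›)
  let mk := Ideal.Quotient.mk q
  have : IsLocalRing (R ⧸ q) := IsLocalRing.of_surjective' mk Ideal.Quotient.mk_surjective
  have h : ∀ i, mk (a i) ∈ maximalIdeal (R ⧸ q) := fun i => by
    rw [← IsLocalRing.map_maximalIdeal_of_surjective mk Ideal.Quotient.mk_surjective]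
    exact Ideal.mem_map_of_mem _ (hmem i)
  have hmin : maximalIdeal (R ⧸ q) ∈ (Ideal.span ((T.image (mk ∘ a) : Finset (R ⧸ q)) : Set (R ⧸ q))).minimalPrimes := by
    refine ⟨⟨(maximalIdeal.isMaximal _).isPrime, Ideal.span_le.mpr ?_⟩, fun P ⟨hP, hle⟩ _ => ?_⟩
    · intro x hx
      obtain ⟨i, hi, rfl⟩ := Finset.mem_image.mp (Finset.mem_coe.mp hx)
      exact h i
    rw [← IsLocalRing.map_maximalIdeal_of_surjective mk Ideal.Quotient.mk_surjective, Ideal.map_le_iff_le_comap]
    refine ha.trans ((Ideal.IsPrime.radical_le_iff (hP.comap mk)).mpr (Ideal.span_le.mpr ?_))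
    rintro _ ⟨i, rfl⟩
    by_cases hi : i ∈ T
    · exact hle (Ideal.subset_span (Finset.mem_coe.mpr (Finset.mem_image.mpr ⟨i, hi, rfl⟩)))
    · show mk (a i) ∈ P
      rw [show mk (a i) = 0 from Ideal.Quotient.eq_zero_iff_mem.mpr (hT i hi)]
      exact P.zero_mem
  rw [← IsLocalRing.maximalIdeal_height_eq_ringKrullDim]
  exact WithBot.coe_le_coe.mpr ((Ideal.height_le_card_of_mem_minimalPrimes_span_finset hmin).trans
    (Nat.cast_le.mpr Finset.card_image_le))

end Groth.Agent.LocDuality
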