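import Groth.Agent.LocDuality.FiniteBelow
import Groth.Agent.Depth.CM

/-!
# Supports of localised modules and relative codimension
-/

universe u

open LocCoh IsLocalRing

namespace Groth.Agent.LocDuality

open Groth.Agent.LocCohBasic

noncomputable section

variable {A : Type u} [CommRing A] (M : Type u) [AddCommGroup M] [Module A M] [Module.Finite A M]

/-- At a minimal prime of the support the localised module has dimension `≤ 0`. -/
lemma supportDim_localized_le_zero (p : PrimeSpectrum A) (hmin : p.asIdeal ∈ (Module.annihilator A M).minimalPrimes) :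
    Module.supportDim (Localization.AtPrime p.asIdeal) (LocalizedModule p.asIdeal.primeCompl M) ≤ 0 := by
  have h : ∀ Q ∈ Module.support (Localization.AtPrime p.asIdeal) (LocalizedModule p.asIdeal.primeCompl M),
      Q.asIdeal = maximalIdeal (Localization.AtPrime p.asIdeal) := fun Q hQ => by
    have hle := Module.mem_support_iff_of_finite.mp hQ
    have hann : Module.annihilator A M ≤ Q.asIdeal.comap (algebraMap A _) := fun a ha =>
      hle (Module.mem_annihilator.mpr fun x => by
        induction x using LocalizedModule.induction_on with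
        | h m s => rw [algebraMap_smul, LocalizedModule.smul'_mk, Module.mem_annihilator.mp ha m, LocalizedModule.zero_mk])
    have hQp : Q.asIdeal.comap (algebraMap A _) ≤ p.asIdeal :=
      (Ideal.comap_mono (IsLocalRing.le_maximalIdeal_of_isPrime _)).trans
        (IsLocalization.AtPrime.under_maximalIdeal _ p.asIdeal).le
    have heq : Q.asIdeal.comap (algebraMap A _) = p.asIdeal :=
      le_antisymm hQp (hmin.2 ⟨inferInstance, hann⟩ hQp)
    refine (IsLocalization.orderEmbedding p.asIdeal.primeCompl (Localization.AtPrime p.asIdeal)).injective ?_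
    exact heq.trans (IsLocalization.AtPrime.under_maximalIdeal (Localization.AtPrime p.asIdeal) p.asIdeal).symm
  have : Subsingleton (Module.support (Localization.AtPrime p.asIdeal) (LocalizedModule p.asIdeal.primeCompl M)) :=
    ⟨fun x y => Subtype.ext (PrimeSpectrum.ext ((h x x.2).trans (h y y.2).symm))⟩
  exact Order.krullDim_nonpos_of_subsingleton

/-- The height of `p/p₀` bounds the dimension of `M_p` from below when `p₀` is in the support. -/
lemma height_le_supportDim_localized (p₀ p : PrimeSpectrum A) (hle : p₀ ≤ p)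
    (h₀ : Module.annihilator A M ≤ p₀.asIdeal) :
    ((Order.height (⟨p, hle⟩ : Set.Ici p₀) : ℕ∞) : WithBot ℕ∞) ≤
      Module.supportDim (Localization.AtPrime p.asIdeal) (LocalizedModule p.asIdeal.primeCompl M) := by
  let L := Localization.AtPrime p.asIdeal
  have hprime : ∀ q : PrimeSpectrum A, q ≤ p → (q.asIdeal.map (algebraMap A L)).IsPrime ∧
      (q.asIdeal.map (algebraMap A L)).comap (algebraMap A L) = q.asIdeal := fun q hq => by
    have hdisj : Disjoint (p.asIdeal.primeCompl : Set A) (q.asIdeal : Set A) :=
      Set.disjoint_left.mpr fun x hx hxq => hx (hq hxq)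
    exact ⟨IsLocalization.isPrime_of_isPrime_disjoint p.asIdeal.primeCompl L _ q.2 hdisj,
      IsLocalization.under_map_of_isPrime_disjoint p.asIdeal.primeCompl L q.2 hdisj⟩
  let P : PrimeSpectrum L := ⟨p₀.asIdeal.map (algebraMap A L), (hprime p₀ hle).1⟩
  have hP : P ∈ Module.support L (LocalizedModule p.asIdeal.primeCompl M) := by
    obtain ⟨m, hm⟩ := Module.mem_support_iff'.mp (Module.mem_support_iff_of_finite.mpr h₀ : p₀ ∈ Module.support A M)
    refine Module.mem_support_iff'.mpr ⟨LocalizedModule.mk m 1, fun r hr h => ?_⟩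
    obtain ⟨a, s, rfl⟩ := IsLocalization.exists_mk'_eq p.asIdeal.primeCompl r
    have ha : a ∉ p₀.asIdeal := fun ha => hr (by
      rw [IsLocalization.mk'_mem_iff]
      exact Ideal.mem_map_of_mem _ ha)
    rw [← Localization.mk_eq_mk', LocalizedModule.mk_smul_mk] at h
    rw [← LocalizedModule.zero_mk 1, LocalizedModule.mk_eq] at h
    obtain ⟨⟨u, hu⟩, h⟩ := h
    simp only [one_smul, smul_zero, Submonoid.smul_def] at h
    exact hm (u * a) (fun hua => (p₀.2.mem_or_mem hua).elim (fun hu' => hu (hle hu')) ha)
      (by rw [mul_smul]; exact h)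
  refine le_trans ?_ (Depth.ringKrullDim_quotient_le_supportDim hP)
  have hPmax : P ≤ IsLocalRing.closedPoint L := IsLocalRing.le_maximalIdeal P.2.ne_top
  have hmax := isPrime_map_mk (p := P.asIdeal) (t := maximalIdeal L) hPmax
  refine le_trans ?_ (Ideal.height_le_ringKrullDim_of_isPrime (I := (maximalIdeal L).map (Ideal.Quotient.mk P.asIdeal)))
  rw [WithBot.coe_le_coe]
  refine le_trans ?_ (height_map_mk_eq_orderHeight hPmax).ge
  refine Order.height_le fun l hl => ?_
  have hlp : ∀ i, (l i).1 ≤ p := fun i =>
    (show (l i).1 ≤ l.last.1 from l.monotone (Fin.le_last i)).trans (le_of_eq (congrArg Subtype.val hl))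
  let F : Fin (l.length + 1) → Set.Ici P := fun i =>
    ⟨⟨(l i).1.asIdeal.map (algebraMap A L), (hprime _ (hlp i)).1⟩, Ideal.map_mono (l i).2⟩
  have hF : ∀ i : Fin l.length, F i.castSucc < F i.succ := fun i => by
    have hstep : l i.castSucc < l i.succ := l.step i
    refine lt_of_le_of_ne (Ideal.map_mono hstep.le) fun e => hstep.ne ?_
    refine Subtype.ext (PrimeSpectrum.ext ?_)
    rw [← (hprime _ (hlp i.castSucc)).2, ← (hprime _ (hlp i.succ)).2]
    exact congrArg (fun x : Set.Ici P => Ideal.comap (algebraMap A L) x.1.asIdeal) e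
  let l' : LTSeries (Set.Ici P) := { length := l.length, toFun := F, step := hF }
  exact Order.length_le_height (p := l') (IsLocalRing.le_maximalIdeal (l'.last).1.2.ne_top)

omit [Module.Finite A M] in
/-- Relative codimension and specialisation, over an image of a regular ring. -/
lemma relCodim_le_height_add {R : Type u} [CommRing R] [IsRegularRing R] [Algebra R A]
    (hs : Function.Surjective (algebraMap R A)) (I : Ideal A) (p₀ p : PrimeSpectrum A) (h : p₀ ≤ p) :
    SGA2.relCodim I p₀ ≤ Order.height (⟨p, h⟩ : Set.Ici p₀) + SGA2.relCodim I p := by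
  rw [show SGA2.relCodim I p = ⨅ q : {q : PrimeSpectrum A // p ≤ q ∧ I ≤ q.asIdeal}, Order.height (⟨q.1, q.2.1⟩ : Set.Ici p) from rfl,
    ENat.add_iInf]
  refine le_iInf fun q => (iInf_le _ ⟨q.1, h.trans q.2.1, q.2.2⟩).trans ?_
  rw [← height_map_mk_eq_orderHeight h, ← height_map_mk_eq_orderHeight q.2.1,
    ← height_map_mk_eq_orderHeight (h.trans q.2.1)]
  simp only [← height_map_mk_comap hs]
  have hCM := isCohenMacaulayRing_of_isRegularRing (S := R)
  have h1 : pre R p₀.asIdeal ≤ pre R p.asIdeal := Ideal.comap_mono h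
  have h2 : pre R p.asIdeal ≤ pre R q.1.asIdeal := Ideal.comap_mono q.2.1
  have e1 := height_eq_add hCM _ _ h1
  have e2 := height_eq_add hCM _ _ h2
  have e3 := height_eq_add hCM _ _ (h1.trans h2)
  rw [e2, e1, add_assoc] at e3
  exact ((ENat.add_right_injective_of_ne_top (Ideal.height_ne_top_of_isPrime (I := pre R p₀.asIdeal))) e3).ge

end

end Groth.Agent.LocDuality
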