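import Groth.Agent.LocDuality.DualH
import Groth.Agent.LocDuality.SupportMin
import Groth.Agent.LocCohBasic.Depth

/-!
# Finite length below the dimension: equidimensional and Cohen–Macaulay on the punctured spectrum
-/

universe u

open CategoryTheory Abelian LocCoh IsLocalRing Function

namespace Groth.Agent.LocDuality

open Groth.Agent.LocCohBasic

noncomputable section

variable {S R : Type u} [CommRing S] [CommRing R] [Algebra S R] [IsGorensteinLocalRing S] [IsNoetherianRing R]
  [IsLocalRing R]

omit [IsNoetherianRing R] [IsLocalRing R] in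
/-- Additivity of dimensions in an image of a Gorenstein local ring. -/
lemma exists_height_quot_add (hs : Surjective (algebraMap S R)) (q p : PrimeSpectrum R) (h : q ≤ p) :
    ∃ k eq ep : ℕ, Order.height (⟨p, h⟩ : Set.Ici q) = k ∧ ringKrullDim (R ⧸ q.asIdeal) = eq ∧
      ringKrullDim (R ⧸ p.asIdeal) = ep ∧ k + ep = eq := by
  have := isCohenMacaulayLocalRing_of_gorenstein (R := S)
  have hCM := Depth.isCohenMacaulayRing_of_local (R := S)
  obtain ⟨g, hg, -⟩ := GorenBasic.gorenstein_dim (R := S)
  have hquot : ∀ (P : Ideal R) [P.IsPrime], ringKrullDim (R ⧸ P) = ringKrullDim (S ⧸ pre S P) := fun P _ => by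
    let φ : S →+* R ⧸ P := (Ideal.Quotient.mk P).comp (algebraMap S R)
    have hk : RingHom.ker φ = pre S P := by rw [← RingHom.comap_ker, Ideal.mk_ker]
    rw [← hk]
    exact (ringKrullDim_eq_of_ringEquiv
      (RingHom.quotientKerEquivOfSurjective (f := φ) (Ideal.Quotient.mk_surjective.comp hs))).symm
  obtain ⟨hq, eq, hq1, hq2, hq3⟩ := exists_height_add S (pre S q.asIdeal) hg
  obtain ⟨hp, ep, hp1, hp2, hp3⟩ := exists_height_add S (pre S p.asIdeal) hg
  have e1 := height_eq_add hCM (pre S q.asIdeal) (pre S p.asIdeal) (Ideal.comap_mono h)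
  rw [height_map_mk_comap hs, height_map_mk_eq_orderHeight h, hq1, hp1] at e1
  obtain ⟨k, hk⟩ := ENat.ne_top_iff_exists.mp (show Order.height (⟨p, h⟩ : Set.Ici q) ≠ ⊤ from fun ht => by
    rw [ht] at e1; simp at e1)
  rw [← hk] at e1
  refine ⟨k, eq, ep, hk.symm, (hquot _).trans hq2, (hquot _).trans hp2, ?_⟩
  have e2 : hp = hq + k := by exact_mod_cast e1
  omega

variable (M : Type u) [AddCommGroup M] [Module R M] [Module.Finite R M] {n : ℕ}

/-- `dim M_p + dim R/p ≤ dim M`. -/
lemma supportDim_localized_le (hs : Surjective (algebraMap S R)) (hn : Module.supportDim R M = n)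
    (p : PrimeSpectrum R) {e : ℕ} (he : ringKrullDim (R ⧸ p.asIdeal) = e) :
    Module.supportDim (Localization.AtPrime p.asIdeal) (LocalizedModule p.asIdeal.primeCompl M) ≤
      ((n - e : ℕ) : WithBot ℕ∞) := by
  let L := Localization.AtPrime p.asIdeal
  refine iSup_le fun l => ?_
  let f : Fin (l.length + 1) → PrimeSpectrum R := fun i =>
    ⟨(l i).1.asIdeal.comap (algebraMap R L), inferInstance⟩
  have hmono : ∀ i : Fin l.length, f i.castSucc < f i.succ := fun i =>
    (IsLocalization.orderEmbedding p.asIdeal.primeCompl L).strictMono (show (l i.castSucc).1.asIdeal < (l i.succ).1.asIdeal from l.step i)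
  have hle : ∀ i, f i ≤ p := fun i =>
    (Ideal.comap_mono (IsLocalRing.le_maximalIdeal_of_isPrime _)).trans
      (IsLocalization.AtPrime.under_maximalIdeal L p.asIdeal).le
  let q := f 0
  have hq : Module.annihilator R M ≤ q.asIdeal := fun a ha =>
    (Module.mem_support_iff_of_finite.mp (l 0).2) (Module.mem_annihilator.mpr fun x => by
      induction x using LocalizedModule.induction_on with
      | h m s => rw [algebraMap_smul, LocalizedModule.smul'_mk, Module.mem_annihilator.mp ha m, LocalizedModule.zero_mk])
  obtain ⟨k, eq, ep, hk, heq, hep, hsum⟩ := exists_height_quot_add hs q p (hle 0)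
  have hep' : ep = e := by rw [he] at hep; exact_mod_cast hep.symm
  have hqn : eq ≤ n := by
    have := Depth.ringKrullDim_quotient_le_supportDim (R := R) (M := M) (p := q) (Module.mem_support_iff_of_finite.mpr hq)
    rw [heq, hn] at this
    exact_mod_cast this
  let lf : LTSeries (PrimeSpectrum R) := { length := l.length, toFun := f, step := hmono }
  let l' : LTSeries (Set.Ici q) :=
    { length := l.length
      toFun := fun i => ⟨f i, lf.monotone (Fin.zero_le i)⟩
      step := fun i => hmono i }
  have h1 : (l.length : ℕ∞) ≤ Order.height (⟨p, hle 0⟩ : Set.Ici q) := Order.length_le_height (p := l') (hle _)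
  rw [hk] at h1
  have h2 : l.length ≤ k := by exact_mod_cast h1
  exact_mod_cast (show l.length ≤ n - e by omega)

/-- Finite length below the dimension. -/
theorem forall_isFiniteLength_H_iff (hs : Surjective (algebraMap S R)) (hn : Module.supportDim R M = n) :
    (∀ i : ℕ, i < n → IsFiniteLength R (LocCoh.H (maximalIdeal R) i M)) ↔
      ((∀ p ∈ (Module.annihilator R M).minimalPrimes, ringKrullDim (R ⧸ p) = n) ∧
        ∀ (p : Ideal R) [p.IsPrime], p ≠ maximalIdeal R → Module.annihilator R M ≤ p →
          IsCohenMacaulayModule (Localization.AtPrime p) (LocalizedModule p.primeCompl M)) := by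
  have hdimex : ∀ (p : Ideal R) [p.IsPrime], ∃ e : ℕ, ringKrullDim (R ⧸ p) = e := fun p _ => by
    have : IsLocalRing (R ⧸ p) := IsLocalRing.of_surjective' (Ideal.Quotient.mk p) Ideal.Quotient.mk_surjective
    obtain ⟨e, he⟩ := Depth.exists_natCast_eq_supportDim (R := R ⧸ p) (M := R ⧸ p)
    rw [Module.supportDim_self_eq_ringKrullDim] at he
    exact ⟨e, he⟩
  have hcrit : (∀ i : ℕ, i < n → IsFiniteLength R (LocCoh.H (maximalIdeal R) i M)) ↔
      ∀ (p : Ideal R) [p.IsPrime], p ≠ maximalIdeal R → ∀ e : ℕ, ringKrullDim (R ⧸ p) = e →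
        ((n - e : ℕ) : ℕ∞) ≤ depth (Localization.AtPrime p) (LocalizedModule p.primeCompl M) := by
    constructor
    · intro h p _ hp e he
      refine (le_idealDepth_iff_subsingleton (maximalIdeal (Localization.AtPrime p))
        (ModuleCat.of _ (LocalizedModule p.primeCompl M))).mpr fun j hj => ?_
      exact (le_radical_annihilator_iff hs M (maximalIdeal R) (j + e)).mp ((isFiniteLength_H_iff hs M (j + e)).mp (h (j + e) (by omega))) p
        (fun hle => hp ((IsLocalRing.maximalIdeal.isMaximal R).eq_of_le (Ideal.IsPrime.ne_top ‹p.IsPrime›) hle).symm) j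
        (by rw [he, Nat.cast_add])
    · intro h i hi
      refine (isFiniteLength_H_iff hs M i).mpr ((le_radical_annihilator_iff hs M (maximalIdeal R) i).mpr fun p _ hp j hj => ?_)
      obtain ⟨e, he⟩ := hdimex p
      rw [he] at hj
      have hje : j + e = i := by exact_mod_cast hj
      exact (le_idealDepth_iff_subsingleton (maximalIdeal (Localization.AtPrime p))
        (ModuleCat.of _ (LocalizedModule p.primeCompl M))).mp (h p (fun e => hp e.ge) e he) j (by omega)
  rw [hcrit]
  have hnt : ∀ (p : Ideal R) [p.IsPrime], Module.annihilator R M ≤ p → Nontrivial (LocalizedModule p.primeCompl M) :=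
    fun p _ hp => Module.mem_support_iff.mp (Module.mem_support_iff_of_finite.mpr hp :
      (⟨p, inferInstance⟩ : PrimeSpectrum R) ∈ Module.support R M)
  constructor
  · intro h
    refine ⟨fun p hp => ?_, fun p _ hpm hp => ?_⟩
    · have := hp.1.1
      have := hnt p hp.1.2
      obtain ⟨e, he⟩ := hdimex p
      have hen : e ≤ n := by
        have := Depth.ringKrullDim_quotient_le_supportDim (R := R) (M := M) (p := ⟨p, ‹p.IsPrime›⟩)
          (Module.mem_support_iff_of_finite.mpr hp.1.2)
        rw [hn, he] at this
        exact_mod_cast this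
      by_cases hpm : p = maximalIdeal R
      · subst hpm
        rw [← hn]
        refine le_antisymm (by rw [he, hn]; exact_mod_cast hen) ?_
        have hsupp : ∀ Q ∈ Module.support R M, maximalIdeal R ≤ Q.asIdeal := fun Q hQ =>
          hp.2 ⟨Q.2, Module.mem_support_iff_of_finite.mp hQ⟩ (IsLocalRing.le_maximalIdeal Q.2.ne_top)
        have : Subsingleton (Module.support R M) := ⟨fun a b => Subtype.ext (PrimeSpectrum.ext
          ((le_antisymm (IsLocalRing.le_maximalIdeal a.1.2.ne_top) (hsupp a a.2)).trans
            (le_antisymm (IsLocalRing.le_maximalIdeal b.1.2.ne_top) (hsupp b b.2)).symm))⟩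
        refine le_trans Order.krullDim_nonpos_of_subsingleton ?_
        rw [he]; exact_mod_cast Nat.zero_le e
      · have h1 := h p hpm e he
        have h2 := Depth.depth_le_supportDim (R := Localization.AtPrime p) (M := LocalizedModule p.primeCompl M)
        have h3 := supportDim_localized_le_zero M (⟨p, ‹_›⟩ : PrimeSpectrum R) hp
        have h4 : ((n - e : ℕ) : WithBot ℕ∞) ≤ 0 := ((WithBot.coe_le_coe.mpr h1).trans h2).trans h3
        have : n - e ≤ 0 := by exact_mod_cast h4
        rw [he]; exact_mod_cast (show e = n by omega)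
    · have := hnt p hp
      obtain ⟨e, he⟩ := hdimex p
      have h1 := h p hpm e he
      exact le_antisymm ((supportDim_localized_le M hs hn ⟨p, ‹_›⟩ he).trans (WithBot.coe_le_coe.mpr h1))
        (Depth.depth_le_supportDim (R := Localization.AtPrime p) (M := LocalizedModule p.primeCompl M))
  · rintro ⟨heq, hCM⟩ p _ hpm e he
    by_cases hp : Module.annihilator R M ≤ p
    · obtain ⟨q, hq, hqp⟩ := Ideal.exists_minimalPrimes_le hp
      have := hq.1.1
      obtain ⟨k, eq, ep, hk, hq', hep, hsum⟩ := exists_height_quot_add hs (⟨q, this⟩ : PrimeSpectrum R) ⟨p, ‹_›⟩ hqp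
      rw [heq q hq] at hq'
      rw [he] at hep
      have e1 : n = eq := by exact_mod_cast hq'
      have e2 : e = ep := by exact_mod_cast hep
      have h1 := height_le_supportDim_localized M (⟨q, this⟩ : PrimeSpectrum R) ⟨p, ‹_›⟩ hqp hq.1.2
      rw [hk, hCM p hpm hp] at h1
      refine le_trans ?_ (WithBot.coe_le_coe.mp h1)
      exact_mod_cast (show n - e ≤ k by omega)
    · have : Subsingleton (LocalizedModule p.primeCompl M) := by
        refine LocalizedModule.subsingleton_iff.mpr fun m => ?_
        obtain ⟨a, ha, hap⟩ := SetLike.not_le_iff_exists.mp hp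
        exact ⟨a, hap, Module.mem_annihilator.mp ha m⟩
      rw [show depth (Localization.AtPrime p) (LocalizedModule p.primeCompl M) = ⊤ from Depth.idealDepth_of_subsingleton]
      exact le_top

end

end Groth.Agent.LocDuality
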