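import Groth.Agent.LocDuality.Propagate
import Groth.Prelude.Def_SGA2

/-!
# Reduction of stalk conditions to relative codimension one
-/

universe u

open CategoryTheory Abelian LocCoh IsLocalRing Function

namespace Groth.Agent.LocDuality

open Groth.Agent.LocCohBasic

noncomputable section

variable {R A : Type u} [CommRing R] [CommRing A] [Algebra R A]

/-- The preimage in `R` of a prime of `A`. -/
abbrev pre (R : Type u) {A : Type u} [CommRing R] [CommRing A] [Algebra R A] (P : Ideal A) : Ideal R :=
  P.comap (algebraMap R A)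

/-- Localised modules do not see a surjection. -/
theorem nonempty_localized_equiv (hs : Surjective (algebraMap R A)) [IsNoetherianRing R] [IsNoetherianRing A]
    (P : Ideal A) [P.IsPrime] (M : Type u) [AddCommGroup M] [Module A M] [Module R M] [IsScalarTower R A M] (i : ℕ) :
    Subsingleton (LocCoh.H (maximalIdeal (Localization.AtPrime P)) i (LocalizedModule P.primeCompl M)) ↔
      Subsingleton (LocCoh.H (maximalIdeal (Localization.AtPrime (pre R P))) i
        (LocalizedModule (pre R P).primeCompl M)) := by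
  set Q := pre R P with hQ
  let ρ : Localization.AtPrime Q →+* Localization.AtPrime P :=
    Localization.localRingHom Q P (algebraMap R A) rfl
  have hρ : Surjective ρ := by
    intro z
    obtain ⟨r, t, rfl⟩ := IsLocalization.exists_mk'_eq P.primeCompl z
    obtain ⟨r', rfl⟩ := hs r
    obtain ⟨t', ht'⟩ := hs t
    have htQ : t' ∈ Q.primeCompl := fun h => t.2 (ht' ▸ Ideal.mem_comap.mp h)
    refine ⟨IsLocalization.mk' _ r' (⟨t', htQ⟩ : Q.primeCompl), ?_⟩
    rw [Localization.localRingHom_mk']
    congr
  let : Algebra (Localization.AtPrime Q) (Localization.AtPrime P) := ρ.toAlgebra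
  let MP := LocalizedModule P.primeCompl M
  let : Module (Localization.AtPrime Q) MP := Module.compHom _ ρ
  have : IsScalarTower (Localization.AtPrime Q) (Localization.AtPrime P) MP :=
    IsScalarTower.of_algebraMap_smul fun _ _ => rfl
  have : IsScalarTower R (Localization.AtPrime Q) MP := IsScalarTower.of_algebraMap_smul fun c x => by
    change ρ (algebraMap R _ c) • x = c • x
    rw [Localization.localRingHom_to_map, algebraMap_smul, algebraMap_smul]
  let g : M →ₗ[R] MP := (LocalizedModule.mkLinearMap P.primeCompl M).restrictScalars R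
  have hact : ∀ (c : R) (x : MP), c • x = algebraMap R A c • x := fun c x => (algebraMap_smul A c x).symm
  have : IsLocalizedModule Q.primeCompl g := by
    refine ⟨fun s => (Module.End.isUnit_iff _).mpr ?_, fun z => ?_, fun {x y} h => ?_⟩
    · have hs' : algebraMap R A s ∈ P.primeCompl := fun h => s.2 (Ideal.mem_comap.mpr h)
      have h1 := (Module.End.isUnit_iff _).mp
        (IsLocalizedModule.map_units (LocalizedModule.mkLinearMap P.primeCompl M) ⟨_, hs'⟩)
      change Function.Bijective fun x : MP => (s : R) • x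
      rw [show (fun x : MP => (s : R) • x) = fun x => algebraMap R A s • x from funext fun x => hact s x]
      exact h1
    · obtain ⟨⟨m, t⟩, hm⟩ := IsLocalizedModule.surj P.primeCompl
        (LocalizedModule.mkLinearMap P.primeCompl M) z
      obtain ⟨t', ht'⟩ := hs t
      refine ⟨(m, ⟨t', fun h => t.2 (ht' ▸ Ideal.mem_comap.mp h)⟩), ?_⟩
      change t' • z = _
      rw [hact]
      exact (congrArg (fun c : A => c • z) ht').trans hm
    · obtain ⟨t, ht⟩ := IsLocalizedModule.exists_of_eq (S := P.primeCompl)
        (f := LocalizedModule.mkLinearMap P.primeCompl M) h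
      obtain ⟨t', ht'⟩ := hs t
      refine ⟨⟨t', fun h => t.2 (ht' ▸ Ideal.mem_comap.mp h)⟩, ?_⟩
      change t' • x = t' • y
      rw [← algebraMap_smul A t' x, ← algebraMap_smul A t' y, ht']
      exact ht
  have e : LocalizedModule Q.primeCompl M ≃ₗ[Localization.AtPrime Q] MP :=
    (IsLocalizedModule.iso Q.primeCompl g).extendScalarsOfIsLocalization Q.primeCompl _
  have : IsNoetherianRing (Localization.AtPrime Q) := IsLocalization.isNoetherianRing Q.primeCompl _ inferInstance
  have : IsNoetherianRing (Localization.AtPrime P) := IsLocalization.isNoetherianRing P.primeCompl _ inferInstance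
  obtain ⟨ε⟩ := nonempty_H_equiv (A := Localization.AtPrime Q) (B := Localization.AtPrime P) hρ i MP
  exact ε.toEquiv.subsingleton_congr.trans
    ((localCohomology (maximalIdeal (Localization.AtPrime Q)) i).mapIso e.toModuleIso).toLinearEquiv.toEquiv.subsingleton_congr.symm

lemma relCodim_eq (hs : Surjective (algebraMap R A)) (I : Ideal A) (p : PrimeSpectrum A) :
    SGA2.relCodim I p = ⨅ q : {q : PrimeSpectrum A // p ≤ q ∧ I ≤ q.asIdeal},
      ((pre R q.1.asIdeal).map (Ideal.Quotient.mk (pre R p.asIdeal))).height :=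
  iInf_congr fun q => by rw [height_map_mk_comap hs, height_map_mk_eq_orderHeight q.2.1]

/-- Reduction to relative codimension one. -/
theorem exists_relCodim_one [IsRegularRing R] [IsNoetherianRing A] (hs : Surjective (algebraMap R A))
    (I : Ideal A) (p : PrimeSpectrum A) (hp : ¬ I ≤ p.asIdeal) (c : ℕ) (hc : SGA2.relCodim I p = c) :
    1 ≤ c ∧ ∃ p' : PrimeSpectrum A, ¬ I ≤ p'.asIdeal ∧ SGA2.relCodim I p' = 1 ∧
      ∀ (M : Type u) [AddCommGroup M] [Module A M] [Module.Finite A M] (j : ℕ),
        Subsingleton (LocCoh.H (maximalIdeal (Localization.AtPrime p'.asIdeal)) (j + (c - 1))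
          (LocalizedModule p'.asIdeal.primeCompl M)) →
        Subsingleton (LocCoh.H (maximalIdeal (Localization.AtPrime p.asIdeal)) j
          (LocalizedModule p.asIdeal.primeCompl M)) := by
  have hCM := isCohenMacaulayRing_of_isRegularRing (S := R)
  have hne : Nonempty {q : PrimeSpectrum A // p ≤ q ∧ I ≤ q.asIdeal} := by
    by_contra he
    rw [not_nonempty_iff] at he
    rw [SGA2.relCodim, iInf_of_empty] at hc
    exact ENat.top_ne_natCast c hc
  rw [relCodim_eq hs] at hc
  obtain ⟨⟨q, hpq, hIq⟩, hq⟩ := ENat.exists_eq_iInf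
    (fun q : {q : PrimeSpectrum A // p ≤ q ∧ I ≤ q.asIdeal} =>
      ((pre R q.1.asIdeal).map (Ideal.Quotient.mk (pre R p.asIdeal))).height)
  rw [hc] at hq
  have hlt : p.asIdeal < q.asIdeal := lt_of_le_of_ne hpq fun e => hp (e ▸ hIq)
  have hlt' : pre R p.asIdeal < pre R q.asIdeal :=
    lt_of_le_of_ne (Ideal.comap_mono hpq) fun e => hlt.ne (Ideal.comap_injective_of_surjective _ hs e)
  have hc1 : 1 ≤ c := by
    have := one_le_height_map_mk hlt'
    rw [hq] at this
    exact_mod_cast this
  obtain ⟨a, haI, hap⟩ := SetLike.not_le_iff_exists.mp hp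
  obtain ⟨a, rfl⟩ := hs a
  -- a maximal prime between avoiding `a`
  obtain ⟨t, ⟨htp, hpt, htq, hat⟩, hmax⟩ := set_has_maximal_iff_noetherian.mpr (inferInstance : IsNoetherianRing R)
    {t : Ideal R | t.IsPrime ∧ pre R p.asIdeal ≤ t ∧ t < pre R q.asIdeal ∧ a ∉ t}
    ⟨pre R p.asIdeal, inferInstance, le_rfl, hlt', hap⟩
  have hht : ((pre R q.asIdeal).map (Ideal.Quotient.mk t)).height ≤ 1 := by
    by_contra hgt
    obtain ⟨t', ht'p, htt', ht'q, hat'⟩ := exists_prime_between t (pre R q.asIdeal) htq (not_le.mp hgt) a hat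
    exact hmax t' ⟨ht'p, hpt.trans htt'.le, ht'q, hat'⟩ htt'
  have hker : RingHom.ker (algebraMap R A) ≤ t := le_trans (Ideal.comap_mono bot_le) hpt
  have hprime : (Ideal.map (algebraMap R A) t).IsPrime := Ideal.map_isPrime_of_surjective hs hker
  have hcomap : pre R (Ideal.map (algebraMap R A) t) = t := by
    rw [pre, Ideal.comap_map_of_surjective _ hs, ← RingHom.ker_eq_comap_bot, sup_of_le_left hker]
  let p' : PrimeSpectrum A := ⟨Ideal.map (algebraMap R A) t, hprime⟩
  have hp'q : p' ≤ q := by
    change Ideal.map (algebraMap R A) t ≤ q.asIdeal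
    exact (Ideal.map_mono htq.le).trans (Ideal.map_comap_of_surjective _ hs _).le
  have hIp' : ¬ I ≤ p'.asIdeal := fun h => hat (hcomap ▸ Ideal.mem_comap.mpr (h haI))
  have h1 : ((pre R q.asIdeal).map (Ideal.Quotient.mk t)).height = 1 := le_antisymm hht (one_le_height_map_mk htq)
  have hrel : SGA2.relCodim I p' = 1 := by
    rw [relCodim_eq hs]
    refine le_antisymm (iInf_le_of_le ⟨q, hp'q, hIq⟩ ?_) (le_iInf fun r => ?_)
    · change ((pre R q.asIdeal).map (Ideal.Quotient.mk (pre R p'.asIdeal))).height ≤ 1
      rw [hcomap]; exact hht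
    · refine one_le_height_map_mk (lt_of_le_of_ne (Ideal.comap_mono r.2.1) fun e => hIp' ?_)
      rw [show p'.asIdeal = r.1.asIdeal from Ideal.comap_injective_of_surjective _ hs e]
      exact r.2.2
  refine ⟨hc1, p', hIp', hrel, fun M _ _ _ j h => ?_⟩
  let : Module R M := Module.compHom M (algebraMap R A)
  have : IsScalarTower R A M := IsScalarTower.of_algebraMap_smul fun _ _ => rfl
  have : Module.Finite R A := Module.Finite.of_surjective (Algebra.linearMap R A) hs
  have : Module.Finite R M := Module.Finite.trans A M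
  rw [nonempty_localized_equiv hs] at h ⊢
  obtain ⟨hP, hhP⟩ := ENat.ne_top_iff_exists.mp (Ideal.height_ne_top_of_isPrime (I := pre R p.asIdeal))
  obtain ⟨hT, hhT⟩ := ENat.ne_top_iff_exists.mp (Ideal.height_ne_top_of_isPrime (I := t))
  have e1 := height_eq_add hCM (pre R p.asIdeal) (pre R q.asIdeal) hlt'.le
  have e2 := height_eq_add hCM t (pre R q.asIdeal) htq.le
  rw [hq, e2, h1, ← hhP, ← hhT] at e1
  have e3 : hT + 1 = hP + c := by exact_mod_cast e1
  refine subsingleton_H_of_specializes (q := pre R p'.asIdeal) (hcomap.symm ▸ hpt) hhP.symm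
    (by rw [hcomap]; exact hhT.symm) M ?_
  rwa [show hT - hP = c - 1 by omega]

end

end Groth.Agent.LocDuality
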