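import Groth.Agent.LocDuality.ExtLocalIff
import Groth.Agent.LocDuality.RelCodim
import Groth.Agent.LocDuality.CompleteGor
import Groth.Agent.LocDuality.GorenLocal
import Groth.Agent.LocCohBasic.Artinian
import Groth.Agent.LocDuality.CanonCM

/-!
# Where local cohomology at the maximal ideal is killed
-/

universe u

open CategoryTheory Abelian LocCoh IsLocalRing Function

namespace Groth.Agent.LocDuality

open Groth.Agent.LocCohBasic

noncomputable section

variable {S R : Type u} [CommRing S] [CommRing R] [Algebra S R]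

/-- Independence of the base, semilinearly, for any module. -/
theorem exists_H_equiv_smul [IsNoetherianRing S] [IsNoetherianRing R] [IsLocalRing S] [IsLocalRing R]
    (hs : Surjective (algebraMap S R)) (i : ℕ) (N : Type u) [AddCommGroup N] [Module S N] [Module R N]
    [IsScalarTower S R N] :
    ∃ e : LocCoh.H (maximalIdeal R) i N ≃+ LocCoh.H (maximalIdeal S) i N,
      ∀ (a : S) y, e (algebraMap S R a • y) = a • e y := by
  have h := LocCohBasic.nonempty_independence (R' := R) (maximalIdeal S) i
  rw [IsLocalRing.map_maximalIdeal_of_surjective _ hs] at h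
  obtain ⟨ι⟩ := h
  let Y : ModuleCat.{u} S := (ModuleCat.restrictScalars (algebraMap S R)).obj (ModuleCat.of R N)
  let u : Y ≃ₗ[S] (ModuleCat.of S N : ModuleCat.{u} S) :=
    { toFun := fun x => (x : N)
      invFun := fun x => x
      left_inv := fun _ => rfl
      right_inv := fun _ => rfl
      map_add' := fun _ _ => rfl
      map_smul' := fun (a : S) (x : N) => by
        change algebraMap S R a • x = a • x
        rw [algebraMap_smul] }
  let L := (ι.app (ModuleCat.of R N) ≪≫ (localCohomology (maximalIdeal S) i).mapIso u.toModuleIso).toLinearEquiv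
  exact ⟨L.toAddEquiv, fun a y => L.map_smul a y⟩

/-- Heights and quotient dimensions in a Cohen–Macaulay local ring. -/
lemma exists_height_add (S : Type u) [CommRing S] [IsCohenMacaulayLocalRing S] (P : Ideal S) [P.IsPrime]
    {g : ℕ} (hg : ringKrullDim S = g) :
    ∃ h e : ℕ, P.height = h ∧ ringKrullDim (S ⧸ P) = e ∧ h + e = g := by
  have := Depth.isCohenMacaulayRing_of_local (R := S)
  have h1 := Depth.supportDim_eq_quotient_add_idealDepth S (Depth.isCohenMacaulayModule_self (R := S))
    (IsLocalRing.le_maximalIdeal (Ideal.IsPrime.ne_top ‹P.IsPrime›))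
  rw [Module.supportDim_self_eq_ringKrullDim, Depth.idealDepth_eq_height,
    Module.supportDim_eq_of_equiv (Submodule.quotEquivOfEq _ P (by simp)),
    Module.supportDim_quotient_eq_ringKrullDim, hg] at h1
  obtain ⟨h, hh⟩ := ENat.ne_top_iff_exists.mp (Ideal.height_ne_top_of_isPrime (I := P))
  have : IsLocalRing (S ⧸ P) := IsLocalRing.of_surjective' (Ideal.Quotient.mk P) Ideal.Quotient.mk_surjective
  obtain ⟨e, he⟩ := Depth.exists_natCast_eq_supportDim (R := S ⧸ P) (M := S ⧸ P)
  rw [Module.supportDim_self_eq_ringKrullDim] at he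
  rw [← hh, he] at h1
  refine ⟨h, e, hh.symm, he, ?_⟩
  have h2 : ((g : ℕ∞) : WithBot ℕ∞) = ((e + h : ℕ∞) : WithBot ℕ∞) := by rw [WithBot.coe_add]; exact h1
  have h3 := WithBot.coe_injective h2
  norm_cast at h3
  omega

variable [IsGorensteinLocalRing S] [IsNoetherianRing R] [IsLocalRing R]

/-- When an ideal is contained in the radical of the annihilator of `H^i`. -/
theorem le_radical_annihilator_iff (hs : Surjective (algebraMap S R)) (M : Type u) [AddCommGroup M] [Module R M]
    [Module.Finite R M] (J : Ideal R) (i : ℕ) :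
    J ≤ (Module.annihilator R (LocCoh.H (maximalIdeal R) i M)).radical ↔
      ∀ (p : Ideal R) [p.IsPrime], ¬ J ≤ p → ∀ j : ℕ, (j : WithBot ℕ∞) + ringKrullDim (R ⧸ p) = i →
        Subsingleton (LocCoh.H (maximalIdeal (Localization.AtPrime p)) j (LocalizedModule p.primeCompl M)) := by
  have := isCohenMacaulayLocalRing_of_gorenstein (R := S)
  obtain ⟨g, hg, -⟩ := GorenBasic.gorenstein_dim (R := S)
  let _ : Module S M := Module.compHom M (algebraMap S R)
  have : IsScalarTower S R M := IsScalarTower.of_algebraMap_smul fun _ _ => rfl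
  have : Module.Finite S R := Module.Finite.of_surjective (Algebra.linearMap S R) hs
  have : Module.Finite S M := Module.Finite.trans R M
  -- dimensions
  have hquot : ∀ (p : Ideal R) [p.IsPrime], ringKrullDim (R ⧸ p) = ringKrullDim (S ⧸ pre S p) := fun p _ => by
    let φ : S →+* R ⧸ p := (Ideal.Quotient.mk p).comp (algebraMap S R)
    have hk : RingHom.ker φ = pre S p := by rw [← RingHom.comap_ker, Ideal.mk_ker]
    rw [← hk]
    exact (ringKrullDim_eq_of_ringEquiv
      (RingHom.quotientKerEquivOfSurjective (f := φ) (Ideal.Quotient.mk_surjective.comp hs))).symm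
  -- vanishing at a prime
  have hloc : ∀ (p : Ideal R) [p.IsPrime] (k : ℕ), k ≤ g → ((∀ j : ℕ, (j : WithBot ℕ∞) + ringKrullDim (R ⧸ p) = (g - k : ℕ) →
      Subsingleton (LocCoh.H (maximalIdeal (Localization.AtPrime p)) j (LocalizedModule p.primeCompl M))) ↔
      ∃ s : (pre S p).primeCompl, ∀ x : Ext (ModuleCat.of S M) (ModuleCat.of S S) k, (s : S) • x = 0) := by
    intro p _ k hk
    obtain ⟨h, e, hh, he, hhe⟩ := exists_height_add S (pre S p) hg
    have := isGorensteinLocalRing_atPrime S (pre S p)
    have hdim : ringKrullDim (Localization.AtPrime (pre S p)) = h := by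
      rw [IsLocalization.AtPrime.ringKrullDim_eq_height (pre S p), hh]; rfl
    rw [← subsingleton_ext_localized_iff (pre S p).primeCompl k M, hquot p, he]
    by_cases hkh : k ≤ h
    · rw [← subsingleton_H_iff hdim k hkh, ← nonempty_localized_equiv hs p M (h - k)]
      refine ⟨fun H => H (h - k) ?_, fun H j hj => ?_⟩
      · rw [show g - k = (h - k) + e by omega, Nat.cast_add]
      · have : j + e = g - k := by exact_mod_cast hj
        rwa [show j = h - k by omega]
    · refine ⟨fun _ => ?_, fun _ j hj => absurd ?_ hkh⟩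
      · have hid := hasInjectiveDimensionLT_self (R := Localization.AtPrime (pre S p)) hdim
        exact HasInjectiveDimensionLT.subsingleton (ModuleCat.of (Localization.AtPrime (pre S p)) _) (h + 1) k (by omega) _
      · have : j + e = g - k := by exact_mod_cast hj
        omega
  -- the case above the dimension
  by_cases hig : g < i
  · have hHz : Subsingleton (LocCoh.H (maximalIdeal R) i M) :=
      subsingleton_of_supportDim_lt _ (ModuleCat.of R M) (lt_of_le_of_lt ((Module.supportDim_le_ringKrullDim R M).trans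
        ((ringKrullDim_le_of_surjective _ hs).trans hg.le)) (by exact_mod_cast hig))
    refine ⟨fun _ p _ _ j hj => ?_, fun _ x _ => ⟨1, Module.mem_annihilator.mpr fun y => Subsingleton.elim _ _⟩⟩
    obtain ⟨h, e, hh, he, hhe⟩ := exists_height_add S (pre S p) hg
    rw [hquot p, he] at hj
    have hje : j + e = i := by exact_mod_cast hj
    rw [nonempty_localized_equiv hs p M]
    refine subsingleton_of_supportDim_lt _ (ModuleCat.of _ (LocalizedModule (pre S p).primeCompl M)) ?_
    refine lt_of_le_of_lt (Module.supportDim_le_ringKrullDim _ _) ?_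
    rw [IsLocalization.AtPrime.ringKrullDim_eq_height (pre S p), hh]
    exact_mod_cast (show h < j by omega)
  push Not at hig
  obtain ⟨f, hf⟩ := exists_isInjectiveHull_top hg
  obtain ⟨D⟩ := nonempty_gorenstein_duality hg hf (g - i) (Nat.sub_le _ _) M
  rw [Nat.sub_sub_self hig] at D
  obtain ⟨eH, heH⟩ := exists_H_equiv_smul hs i M
  -- annihilators agree
  have hann : ∀ a : S, algebraMap S R a ∈ Module.annihilator R (LocCoh.H (maximalIdeal R) i M) ↔
      ∀ x : Ext (ModuleCat.of S M) (ModuleCat.of S S) (g - i), a • x = 0 := fun a => by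
    rw [Module.mem_annihilator]
    constructor
    · intro h x
      refine MatlisDual.applyₗ_injective hf _ (LinearMap.ext fun φ => ?_)
      obtain ⟨y, rfl⟩ := (eH.trans D.toAddEquiv).surjective φ
      rw [map_zero, LinearMap.zero_apply, map_smul, LinearMap.smul_apply]
      change a • (D (eH y) : _ →ₗ[S] _) x = 0
      rw [← LinearMap.smul_apply, ← map_smul, ← heH, h, map_zero, map_zero, LinearMap.zero_apply]
    · intro h y
      apply (eH.trans D.toAddEquiv).injective
      refine LinearMap.ext fun x => ?_
      change D (eH _) x = (D (eH 0) : _ →ₗ[S] _) x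
      rw [heH, map_smul, LinearMap.smul_apply, ← map_smul, h, map_zero, map_zero, map_zero, LinearMap.zero_apply]
  constructor
  · intro hJ p _ hp
    obtain ⟨b, hbJ, hbp⟩ := SetLike.not_le_iff_exists.mp hp
    obtain ⟨n, hn⟩ := hJ hbJ
    obtain ⟨a, rfl⟩ := hs b
    have := (hloc p (g - i) (Nat.sub_le _ _)).mpr ⟨⟨a ^ n, fun h => hbp (Ideal.mem_comap.mp ((Ideal.comap_isPrime _ p).mem_of_pow_mem n h))⟩,
      (hann _).mp (by rw [map_pow]; exact hn)⟩
    rwa [Nat.sub_sub_self hig] at this
  · intro h b hb
    obtain ⟨a, rfl⟩ := hs b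
    suffices a ∈ (Module.annihilator S (Ext (ModuleCat.of S M) (ModuleCat.of S S) (g - i))).radical by
      obtain ⟨n, hn⟩ := this
      exact ⟨n, map_pow (algebraMap S R) a n ▸ (hann _).mpr (Module.mem_annihilator.mp hn)⟩
    rw [Ideal.radical_eq_sInf, Ideal.mem_sInf]
    rintro P ⟨hP, hPp⟩
    have hker : RingHom.ker (algebraMap S R) ≤ P := fun k hk => hP (Module.mem_annihilator.mpr
      ((hann k).mp (Module.mem_annihilator.mpr fun y => by rw [RingHom.mem_ker.mp hk, zero_smul])))
    have hprime : (P.map (algebraMap S R)).IsPrime := Ideal.map_isPrime_of_surjective hs hker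
    have hcomap : pre S (P.map (algebraMap S R)) = P := by
      rw [pre, Ideal.comap_map_of_surjective _ hs, ← RingHom.ker_eq_comap_bot, sup_of_le_left hker]
    by_contra haP
    have hJp : ¬ J ≤ P.map (algebraMap S R) := fun hJ => haP (hcomap ▸ Ideal.mem_comap.mpr (hJ hb))
    obtain ⟨⟨s, hs'⟩, hskill⟩ := (hloc (P.map (algebraMap S R)) (g - i) (Nat.sub_le _ _)).mp
      (fun j hj => h _ hJp j (by rwa [Nat.sub_sub_self hig] at hj))
    exact hs' (show s ∈ pre S (P.map (algebraMap S R)) from hcomap.symm ▸ hP (Module.mem_annihilator.mpr hskill))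

/-- Finite length of `H^i`. -/
theorem isFiniteLength_H_iff (hs : Surjective (algebraMap S R)) (M : Type u) [AddCommGroup M] [Module R M]
    [Module.Finite R M] (i : ℕ) :
    IsFiniteLength R (LocCoh.H (maximalIdeal R) i M) ↔
      maximalIdeal R ≤ (Module.annihilator R (LocCoh.H (maximalIdeal R) i M)).radical := by
  have hA : IsArtinian R (LocCoh.H (maximalIdeal R) i M) := isArtinian_localCohomology i (ModuleCat.of R M)
  rw [isFiniteLength_iff_isNoetherian_isArtinian]
  constructor
  · rintro ⟨hN, -⟩
    obtain ⟨k, hk⟩ := exists_pow_le_annihilator (R := R) (X := LocCoh.H (maximalIdeal R) i M)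
      (isFiniteLength_iff_isNoetherian_isArtinian.mpr ⟨hN, hA⟩)
    exact fun x hx => ⟨k, hk (Ideal.pow_mem_pow hx k)⟩
  · intro h
    obtain ⟨k, hk⟩ := (maximalIdeal R).exists_pow_le_of_le_radical_of_fg h (maximalIdeal R).fg_of_isNoetherianRing
    have := finite_of_isArtinian_killed (R := R) k (LocCoh.H (maximalIdeal R) i M)
      (fun r hr y => Module.mem_annihilator.mp (hk hr) y)
    exact ⟨inferInstance, hA⟩

end

end Groth.Agent.LocDuality
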