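import Groth.Agent.LocDuality.Propagate
import Mathlib.Algebra.Category.ModuleCat.Ext.Finite

/-!
# `Ext(M, R)` vanishes after localising iff a denominator kills it
-/

universe u

open CategoryTheory Abelian LocCoh IsLocalRing Function

namespace Groth.Agent.LocDuality

noncomputable section

variable {R : Type u} [CommRing R] [IsNoetherianRing R] (S : Submonoid R)

omit [IsNoetherianRing R] in
/-- A finitely generated module all of whose elements have annihilating denominators has a common one. -/
lemma exists_smul_eq_zero_of_finite {X : Type u} [AddCommGroup X] [Module R X] [Module.Finite R X]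
    (h : ∀ x : X, ∃ s : S, (s : R) • x = 0) : ∃ s : S, ∀ x : X, (s : R) • x = 0 := by
  classical
  obtain ⟨T, hT⟩ := Module.Finite.fg_top (R := R) (M := X)
  choose σ hσ using h
  refine ⟨∏ y ∈ T, σ y, fun x => ?_⟩
  have hx : x ∈ Submodule.span R (T : Set X) := hT ▸ Submodule.mem_top
  induction hx using Submodule.span_induction with
  | mem y hy =>
    obtain ⟨c, hc⟩ := Finset.dvd_prod_of_mem σ (Finset.mem_coe.mp hy)
    rw [hc, mul_comm, Submonoid.coe_mul, mul_smul, hσ, smul_zero]
  | zero => exact smul_zero _
  | add a b _ _ ha hb => rw [smul_add, ha, hb, add_zero]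
  | smul r a _ ha => rw [smul_comm, ha, smul_zero]

/-- The localised functional of a functional. -/
def locDual {M : Type u} [AddCommGroup M] [Module R M] (φ : M →ₗ[R] R) :
    LocalizedModule S M →ₗ[Localization S] Localization S :=
  (IsLocalizedModule.lift S (LocalizedModule.mkLinearMap S M) ((Algebra.linearMap R (Localization S)) ∘ₗ φ)
    (IsLocalizedModule.map_units (Algebra.linearMap R (Localization S)))).extendScalarsOfIsLocalization S _

omit [IsNoetherianRing R] in
lemma locDual_mk {M : Type u} [AddCommGroup M] [Module R M] (φ : M →ₗ[R] R) (m : M) :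
    locDual S φ (LocalizedModule.mkLinearMap S M m) = algebraMap R (Localization S) (φ m) :=
  IsLocalizedModule.lift_apply S (LocalizedModule.mkLinearMap S M) _
    (IsLocalizedModule.map_units (Algebra.linearMap R (Localization S))) m

/-- Vanishing of the localised `Ext` into the ring is killing by a denominator. -/
theorem subsingleton_ext_localized_iff : ∀ (e : ℕ) (M : Type u) [AddCommGroup M] [Module R M] [Module.Finite R M],
    Subsingleton (Ext (ModuleCat.of (Localization S) (LocalizedModule S M))
        (ModuleCat.of (Localization S) (Localization S)) e) ↔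
      ∃ s : S, ∀ x : Ext (ModuleCat.of R M) (ModuleCat.of R R) e, (s : R) • x = 0 := by
  intro e
  induction e with
  | zero =>
    intro M _ _ _
    rw [subsingleton_ext_zero_iff]
    constructor
    · intro h
      have h0 : ∀ φ : M →ₗ[R] R, ∃ s : S, (s : R) • φ = 0 := fun φ => by
        refine (Module.Finite.exists_smul_of_comp_eq_of_isLocalizedModule S (Algebra.linearMap R (Localization S)) φ 0
          (LinearMap.ext fun m => ?_)).imp fun s hs => hs.trans (smul_zero _)
        have := locDual_mk S φ m
        rw [Subsingleton.elim (locDual S φ) 0] at this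
        simpa using this.symm
      obtain ⟨s, hs⟩ := exists_smul_eq_zero_of_finite (X := M →ₗ[R] R) S h0
      refine ⟨s, fun x => ?_⟩
      obtain ⟨φ, rfl⟩ := (Ext.mk₀_bijective _ _).2 x
      rw [← Ext.mk₀_smul, show (s : R) • φ = 0 from ModuleCat.hom_ext (hs φ.hom), Ext.mk₀_zero]
    · rintro ⟨s, hs⟩
      refine subsingleton_of_forall_eq 0 fun ψ => localized_linearMap_ext S fun m => ?_
      obtain ⟨φ, t, hφ⟩ := exists_lift S ψ
      have h1 : (s : R) • φ = 0 := by
        have h := hs (Ext.mk₀ (ModuleCat.ofHom φ))
        rw [← Ext.mk₀_smul, ← Ext.mk₀_zero] at h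
        exact congrArg ModuleCat.Hom.hom ((Ext.mk₀_bijective _ _).1 h)
      have h2 : algebraMap R (Localization S) ((s : R) * φ m) = 0 := by
        rw [show (s : R) * φ m = 0 from LinearMap.congr_fun h1 m, map_zero]
      rw [map_mul, hφ, ← Algebra.smul_def, ← mul_smul] at h2
      refine ((Module.End.isUnit_iff _).mp (IsLocalizedModule.map_units (Algebra.linearMap R (Localization S)) (s * t))).1
        (h2.trans ?_)
      simp
  | succ e ih =>
    intro M _ _ _
    obtain ⟨a, π, hπ⟩ := Module.Finite.exists_fin' R M
    let Ω := LinearMap.ker π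
    have hS := LinearMap.shortExact_shortComplexKer hπ
    have : Projective π.shortComplexKer.X₂ := (IsProjective.iff_projective (R := R) (Fin a → R)).1 inferInstance
    have hex := LocalizedModule.map_exact S Ω.subtype π (LinearMap.exact_subtype_ker_map π)
    let Sq : ShortComplex (ModuleCat.{u} (Localization S)) :=
      ModuleCat.shortComplexOfCompEqZero (LocalizedModule.map S Ω.subtype) (LocalizedModule.map S π)
        (LinearMap.ext fun z => hex.apply_apply_eq_zero z)
    have hSq : Sq.ShortExact := ModuleCat.shortComplex_shortExact _ hex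
      (LocalizedModule.map_injective S _ (Submodule.injective_subtype _)) (LocalizedModule.map_surjective S _ hπ)
    have : Projective Sq.X₂ :=
      have : Module.Projective (Localization S) (LocalizedModule S (Fin a → R)) :=
        Module.projective_of_isLocalizedModule S (LocalizedModule.mkLinearMap S (Fin a → R))
      (IsProjective.iff_projective (R := Localization S) _).mp this
    have hloc : ∀ (i : ℕ) (y : Ext Sq.X₃ (ModuleCat.of (Localization S) (Localization S)) (i + 1)),
        ∃ x, hSq.extClass.comp x (Nat.add_comm 1 i) = y := fun i y =>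
      Ext.contravariant_sequence_exact₃ hSq _ y (@Subsingleton.elim _ (Ext.subsingleton_of_projective _ _ i) _ _)
        (Nat.add_comm 1 i)
    have hgl : ∀ (i : ℕ) (y : Ext π.shortComplexKer.X₃ (ModuleCat.of R R) (i + 1)),
        ∃ x, hS.extClass.comp x (Nat.add_comm 1 i) = y := fun i y =>
      Ext.contravariant_sequence_exact₃ hS _ y (@Subsingleton.elim _ (Ext.subsingleton_of_projective _ _ i) _ _)
        (Nat.add_comm 1 i)
    cases e with
    | zero =>
      constructor
      · intro h
        refine exists_smul_eq_zero_of_finite S fun y => ?_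
        obtain ⟨x, rfl⟩ := hgl 0 y
        obtain ⟨φ, rfl⟩ := (Ext.mk₀_bijective _ _).2 x
        obtain ⟨z, hz⟩ := Ext.contravariant_sequence_exact₁ hSq _ (Ext.mk₀ (ModuleCat.ofHom (locDual S φ.hom)))
          (Nat.add_comm 1 0) (@Subsingleton.elim _ h _ _)
        let χS : LocalizedModule S (Fin a → R) →ₗ[Localization S] Localization S := (Ext.addEquiv₀ z).hom
        have hχS : χS ∘ₗ LocalizedModule.map S Ω.subtype = locDual S φ.hom := by
          rw [← Ext.mk₀_addEquiv₀_apply z, Ext.mk₀_comp_mk₀] at hz
          exact congrArg ModuleCat.Hom.hom ((Ext.mk₀_bijective _ _).1 hz)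
        obtain ⟨χ, t, hχ⟩ := exists_lift S χS
        obtain ⟨u, hu⟩ := Module.Finite.exists_smul_of_comp_eq_of_isLocalizedModule S
          (Algebra.linearMap R (Localization S)) (χ ∘ₗ Ω.subtype) ((t : R) • φ.hom) (LinearMap.ext fun m => by
            have h1 := hχ m.1
            have h2 : χS (LocalizedModule.mkLinearMap S (Fin a → R) m.1) = algebraMap R (Localization S) (φ.hom m) := by
              rw [← locDual_mk S φ.hom m, ← hχS, LinearMap.comp_apply, LocalizedModule.mkLinearMap_apply,
                LocalizedModule.mkLinearMap_apply, LocalizedModule.map_mk]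
              rfl
            rw [h2] at h1
            simp only [LinearMap.comp_apply, Algebra.linearMap_apply, LinearMap.smul_apply, Submodule.coe_subtype, smul_eq_mul,
              map_mul]
            rw [h1, Algebra.smul_def])
        refine ⟨u * t, ?_⟩
        rw [← Ext.comp_smul, ← Ext.mk₀_smul, show ((u * t : S) : R) • φ =
          π.shortComplexKer.f ≫ ModuleCat.ofHom ((u : R) • χ) from ModuleCat.hom_ext (by
            rw [Submonoid.coe_mul, ModuleCat.hom_smul, ModuleCat.hom_comp, mul_smul]
            exact hu.symm.trans (LinearMap.smul_comp _ _ _).symm), ← Ext.mk₀_comp_mk₀, hS.extClass_comp_assoc]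
      · rintro ⟨t, ht⟩
        refine subsingleton_of_forall_eq 0 fun y => ?_
        obtain ⟨x, rfl⟩ := hloc 0 y
        obtain ⟨ψ, rfl⟩ := (Ext.mk₀_bijective _ _).2 x
        obtain ⟨φ, s, hφ⟩ := exists_lift S ψ.hom
        obtain ⟨z, hz⟩ := Ext.contravariant_sequence_exact₁ hS _ (Ext.mk₀ ((t : R) • ModuleCat.ofHom φ))
          (Nat.add_comm 1 0) (by rw [Ext.mk₀_smul, Ext.comp_smul]; exact ht _)
        obtain ⟨χ, rfl⟩ := (Ext.mk₀_bijective _ _).2 z
        rw [Ext.mk₀_comp_mk₀] at hz
        have hχ : ∀ m : Ω, χ.hom m.1 = (t : R) * φ m := fun m =>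
          congrArg (fun g => g.hom m) ((Ext.mk₀_bijective _ _).1 hz)
        obtain ⟨w, hw⟩ : IsUnit (algebraMap R (Localization S) ((t : R) * s)) :=
          IsLocalization.map_units (Localization S) (t * s)
        have key : ((↑w⁻¹ : Localization S) • locDual S χ.hom) ∘ₗ LocalizedModule.map S Ω.subtype = ψ.hom := by
          refine localized_linearMap_ext S fun m => ?_
          have h1 : locDual S χ.hom (LocalizedModule.map S Ω.subtype (LocalizedModule.mkLinearMap S Ω m)) =
              algebraMap R (Localization S) (χ.hom m.1) := by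
            rw [LocalizedModule.mkLinearMap_apply, LocalizedModule.map_mk]
            exact locDual_mk S χ.hom m.1
          rw [LinearMap.comp_apply, LinearMap.smul_apply, h1, hχ, map_mul, hφ]
          simp only [Algebra.smul_def, Algebra.algebraMap_self, RingHom.id_apply]
          rw [← mul_assoc (algebraMap R (Localization S) (t : R)), ← map_mul, ← hw, ← mul_assoc, Units.inv_mul, one_mul]
        rw [show ψ = Sq.f ≫ ModuleCat.ofHom ((↑w⁻¹ : Localization S) • locDual S χ.hom) from ModuleCat.hom_ext key.symm,
          ← Ext.mk₀_comp_mk₀, hSq.extClass_comp_assoc]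
    | succ e =>
      rw [show (∃ s : S, ∀ x : Ext (ModuleCat.of R M) (ModuleCat.of R R) (e + 1 + 1), (s : R) • x = 0) ↔
          ∃ s : S, ∀ x : Ext (ModuleCat.of R Ω) (ModuleCat.of R R) (e + 1), (s : R) • x = 0 from ?_, ← ih Ω]
      · constructor
        · intro h
          refine subsingleton_of_forall_eq 0 fun x => ?_
          obtain ⟨z, hz⟩ := Ext.contravariant_sequence_exact₁ hSq _ x (Nat.add_comm 1 (e + 1))
            (@Subsingleton.elim _ h _ _)
          rw [← hz, @Subsingleton.elim _ (Ext.subsingleton_of_projective Sq.X₂ _ e) z 0, Ext.comp_zero]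
        · intro h
          refine subsingleton_of_forall_eq 0 fun y => ?_
          obtain ⟨x, rfl⟩ := hloc (e + 1) y
          rw [@Subsingleton.elim _ h x 0, Ext.comp_zero]
      · refine exists_congr fun s => ⟨fun h x => ?_, fun h y => ?_⟩
        · have h1 : hS.extClass.comp ((s : R) • x) (Nat.add_comm 1 (e + 1)) = 0 := by rw [Ext.comp_smul]; exact h _
          obtain ⟨z, hz⟩ := Ext.contravariant_sequence_exact₁ hS _ _ (Nat.add_comm 1 (e + 1)) h1
          rw [← hz, @Subsingleton.elim _ (Ext.subsingleton_of_projective π.shortComplexKer.X₂ _ e) z 0, Ext.comp_zero]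
        · obtain ⟨x, rfl⟩ := hgl (e + 1) y
          rw [← Ext.comp_smul, h x, Ext.comp_zero]

end

end Groth.Agent.LocDuality
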