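import Groth.Agent.LocDuality.RelCodim
import Groth.Agent.LocCohBasic.Finiteness

/-!
# Finiteness of local cohomology in a range, in terms of depth and relative codimension
-/

universe u

open CategoryTheory LocCoh

namespace Groth.Agent.LocDuality

open Groth.Agent.LocCohBasic

noncomputable section

variable {A : Type u} [CommRing A]

/-- The relative codimension is the height of `(I + p)/p`. -/
lemma height_sup_eq_relCodim (I : Ideal A) (p : PrimeSpectrum A) :
    ((I ⊔ p.asIdeal).map (Ideal.Quotient.mk p.asIdeal)).height = SGA2.relCodim I p := by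
  refine le_antisymm (le_iInf fun q => ?_) ?_
  · rw [← height_map_mk_eq_orderHeight q.2.1]
    exact Ideal.height_mono (Ideal.map_mono (sup_le q.2.2 q.2.1))
  · rw [Ideal.height_eq_inf_minimalPrimes]
    refine le_iInf₂ fun T hT => ?_
    have hTp := hT.1.1
    let q : PrimeSpectrum A := ⟨T.comap (Ideal.Quotient.mk p.asIdeal), inferInstance⟩
    have hpq : p ≤ q := le_comap_mk p.asIdeal T
    have hIq : I ≤ q.asIdeal := le_sup_left.trans (Ideal.map_le_iff_le_comap.mp hT.1.2)
    have h1 : SGA2.relCodim I p ≤ Order.height (⟨q, hpq⟩ : Set.Ici p) :=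
      iInf_le_of_le ⟨q, hpq, hIq⟩ le_rfl
    refine h1.trans (le_of_eq ?_)
    rw [← height_map_mk_eq_orderHeight hpq, show q.asIdeal = T.comap (Ideal.Quotient.mk p.asIdeal) from rfl,
      Ideal.map_comap_of_surjective _ Ideal.Quotient.mk_surjective]

variable [IsNoetherianRing A]

/-- Finiteness in a range is annihilation in that range. -/
theorem forall_finite_iff_lt_finDimRel (I : Ideal A) (M : Type u) [AddCommGroup M] [Module A M]
    [Module.Finite A M] (n : ℕ) :
    (∀ i ≤ n, Module.Finite A (LocCoh.H I i M)) ↔ (n : ℕ∞) < finDimRel I I M := by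
  constructor
  · intro h
    obtain ⟨N, hN⟩ := exists_pow_smul_of_finite_le I n (ModuleCat.of A M) h
    refine lt_of_lt_of_le (b := ((n.succ : ℕ) : ℕ∞)) (by exact_mod_cast n.lt_succ_self) (le_iInf₂ fun i hi => ?_)
    rw [Nat.cast_le]
    by_contra hlt
    refine hi fun x hx => ⟨N, Module.mem_annihilator.mpr (hN i (by omega) _ (Ideal.pow_mem_pow hx N))⟩
  · intro h
    have hle : ∀ i : Fin (n + 1), ∃ N : ℕ, I ^ N ≤ Module.annihilator A (LocCoh.H I i M) := fun i =>
      Ideal.exists_pow_le_of_le_radical_of_fg (by
        by_contra hI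
        have h1 : finDimRel I I M ≤ ((i : ℕ) : ℕ∞) := iInf₂_le (i : ℕ) hI
        have h2 := h.trans_le h1
        rw [Nat.cast_lt] at h2
        omega) I.fg_of_isNoetherianRing
    choose N hN using hle
    refine finite_of_annihilated I n (ModuleCat.of A M) (∑ i, N i) fun i hi a ha y => ?_
    exact Module.mem_annihilator.mp (hN ⟨i, by omega⟩ (Ideal.pow_le_pow_right
      (Finset.single_le_sum (f := N) (fun _ _ => Nat.zero_le _) (Finset.mem_univ (⟨i, by omega⟩ : Fin (n + 1)))) ha)) y

variable {R : Type u} [CommRing R] [IsRegularRing R] [Algebra R A]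

/-- Over images of regular rings, finiteness up to `n` means depth plus relative codimension exceeds `n`. -/
theorem forall_finite_iff_depth_add_relCodim (hs : Function.Surjective (algebraMap R A)) (I : Ideal A)
    (M : Type u) [AddCommGroup M] [Module A M] [Module.Finite A M] (n : ℕ) :
    (∀ i ≤ n, Module.Finite A (LocCoh.H I i M)) ↔ ∀ p : PrimeSpectrum A, ¬ I ≤ p.asIdeal →
      (n : ℕ∞) < LocCoh.depth (Localization.AtPrime p.asIdeal) (LocalizedModule p.asIdeal.primeCompl M) +
        SGA2.relCodim I p := by
  let : Module R M := Module.compHom M (algebraMap R A)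
  have : IsScalarTower R A M := IsScalarTower.of_algebraMap_smul fun _ _ => rfl
  rw [forall_finite_iff_lt_finDimRel,
    le_antisymm (finDimRel_le_minAdjDepth I I M) (minAdjDepth_le_finDimRel (S := R) hs I I M)]
  constructor
  · intro h p hp
    rw [← height_sup_eq_relCodim]
    exact h.trans_le (iInf₂_le p hp)
  · intro h
    refine lt_of_lt_of_le (b := ((n.succ : ℕ) : ℕ∞)) (by exact_mod_cast n.lt_succ_self) (le_iInf₂ fun p hp => ?_)
    rw [adjDepth, height_sup_eq_relCodim]
    exact (Nat.cast_succ n).le.trans (Order.add_one_le_of_lt (h p hp))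

end

end Groth.Agent.LocDuality
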