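import Groth.Agent.LocDuality.GorenLocal
import Groth.Agent.LocDuality.Gorenstein

/-!
# Finite injective dimension is local
-/

universe u

open CategoryTheory Limits

namespace Groth.Agent.LocDuality

variable {R : Type u} [CommRing R] [IsNoetherianRing R]

/-- A module is injective if its localisations at maximal ideals are. -/
theorem injective_of_localized (M : Type u) [AddCommGroup M] [Module R M]
    (h : ∀ (P : Ideal R) [P.IsMaximal], Module.Injective (Localization.AtPrime P) (LocalizedModule P.primeCompl M)) :
    Module.Injective R M := by
  refine Module.Baer.injective fun J g => ?_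
  have : Module.FinitePresentation R J := Module.finitePresentation_of_finite R J
  let C : Ideal R := (LinearMap.range (J.subtype.lcomp R M)).comap (LinearMap.toSpanSingleton R _ g)
  have hC : C = ⊤ := by
    by_contra hne
    obtain ⟨P, hP, hCP⟩ := Ideal.exists_le_maximal C hne
    let MP := LocalizedModule P.primeCompl M
    let jP : LocalizedModule P.primeCompl J →ₗ[Localization.AtPrime P] LocalizedModule P.primeCompl R :=
      LocalizedModule.map P.primeCompl J.subtype
    let gP : LocalizedModule P.primeCompl J →ₗ[Localization.AtPrime P] MP := LocalizedModule.map P.primeCompl g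
    have := h P
    obtain ⟨k, hk⟩ := Module.Injective.extension_property (Localization.AtPrime P) MP _ _ jP
      (LocalizedModule.map_injective P.primeCompl J.subtype (Submodule.injective_subtype _)) gP
    obtain ⟨⟨m, s⟩, hm⟩ := IsLocalizedModule.surj P.primeCompl (LocalizedModule.mkLinearMap P.primeCompl M)
      (k (LocalizedModule.mkLinearMap P.primeCompl R 1))
    have hext : LocalizedModule.mkLinearMap P.primeCompl M ∘ₗ ((s : R) • g) =
        LocalizedModule.mkLinearMap P.primeCompl M ∘ₗ (LinearMap.toSpanSingleton R M m ∘ₗ J.subtype) :=
      LinearMap.ext fun j => by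
        have h1 : k (LocalizedModule.mk (J.subtype j) (1 : P.primeCompl)) = LocalizedModule.mk (g j) 1 :=
          (congrArg k (LocalizedModule.map_mk P.primeCompl J.subtype j 1).symm).trans
            ((LinearMap.congr_fun hk (LocalizedModule.mkLinearMap P.primeCompl J j)).trans
              (LocalizedModule.map_mk P.primeCompl g j 1))
        simp only [LinearMap.comp_apply, LinearMap.smul_apply, map_smul, LinearMap.toSpanSingleton_apply,
          LocalizedModule.mkLinearMap_apply]
        rw [← h1]
        have h2 : LocalizedModule.mk (J.subtype j) (1 : P.primeCompl) = (j : R) • LocalizedModule.mkLinearMap P.primeCompl R 1 := by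
          rw [← map_smul, smul_eq_mul, mul_one]; rfl
        rw [h2, LinearMap.map_smul_of_tower, smul_comm, show (s : R) • k _ = LocalizedModule.mkLinearMap P.primeCompl M m from hm]
        rfl
    obtain ⟨t, ht⟩ := Module.Finite.exists_smul_of_comp_eq_of_isLocalizedModule P.primeCompl
      (LocalizedModule.mkLinearMap P.primeCompl M) _ _ hext
    have hmem : (t : R) * s ∈ C := ⟨(t : R) • LinearMap.toSpanSingleton R M m, by
      rw [LinearMap.toSpanSingleton_apply, mul_smul, LinearMap.lcomp_apply', LinearMap.smul_comp]
      exact ht.symm⟩
    exact (mul_mem t.2 s.2 : (t : R) * s ∈ P.primeCompl) (hCP hmem)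
  obtain ⟨f, hf⟩ := (Ideal.eq_top_iff_one C).mp hC
  refine ⟨f, fun x hx => ?_⟩
  have := LinearMap.congr_fun hf ⟨x, hx⟩
  simpa using this

/-- Finite injective dimension is tested at the maximal ideals. -/
theorem hasInjectiveDimensionLT_of_localized : ∀ (n : ℕ) (M : ModuleCat.{u} R),
    (∀ (P : Ideal R) [P.IsMaximal], HasInjectiveDimensionLT (ModuleCat.of (Localization.AtPrime P) (LocalizedModule P.primeCompl M)) n) →
    HasInjectiveDimensionLT M n := by
  intro n
  induction n with
  | zero =>
    intro M hM
    have : Subsingleton M := by
      refine Module.subsingleton_of_localization_maximal (R := R) (fun (P : Ideal R) _ => LocalizedModule P.primeCompl M)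
        (fun P _ => LocalizedModule.mkLinearMap P.primeCompl M) fun P _ => ?_
      exact ModuleCat.subsingleton_of_isZero (@isZero_of_hasInjectiveDimensionLT_zero _ _ _ _ (hM P))
    exact (ModuleCat.isZero_of_subsingleton M).hasInjectiveDimensionLT_zero
  | succ n ih =>
    intro M hM
    rcases Nat.eq_zero_or_pos n with rfl | hn
    · have := injective_of_localized M fun P _ => Module.injective_module_of_injective_object
        (inj := injective_iff_hasInjectiveDimensionLT_one.mpr (hM P)) (Localization.AtPrime P) (LocalizedModule P.primeCompl M)
      exact injective_iff_hasInjectiveDimensionLT_one.mp (Module.injective_object_of_injective_module (inj := this) R M)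
    let I := Injective.under M
    have hI : Injective I := inferInstanceAs (Injective (Injective.under M))
    let T := ShortComplex.mk (Injective.ι M) (cokernel.π _) (cokernel.condition _)
    have hT : T.ShortExact := { exact := ShortComplex.exact_cokernel _ }
    obtain ⟨m, rfl⟩ : ∃ m, n = m + 1 := ⟨n - 1, by omega⟩
    have : Module.Injective R I := Module.injective_module_of_injective_object (inj := hI) R I
    have hC : HasInjectiveDimensionLT T.X₃ (m + 1) := ih T.X₃ fun P _ => by
      let S := P.primeCompl
      have hI' : Injective (ModuleCat.of (Localization S) (LocalizedModule S I)) :=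
        Module.injective_object_of_injective_module (inj := injective_localizedModule S I) (Localization S) (LocalizedModule S I)
      let f' : LocalizedModule S M →ₗ[Localization S] LocalizedModule S I := LocalizedModule.map S T.f.hom
      let g' : LocalizedModule S I →ₗ[Localization S] LocalizedModule S T.X₃ := LocalizedModule.map S T.g.hom
      have hex : Function.Exact f' g' := LocalizedModule.map_exact S T.f.hom T.g.hom ((ShortComplex.ShortExact.moduleCat_exact_iff_function_exact T).mp hT.exact)
      let T' := ModuleCat.shortComplexOfCompEqZero f' g' hex.linearMap_comp_eq_zero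
      have hT' : T'.ShortExact := ModuleCat.shortComplex_shortExact _ hex
        (LocalizedModule.map_injective S T.f.hom hT.moduleCat_injective_f)
        (LocalizedModule.map_surjective S T.g.hom hT.moduleCat_surjective_g)
      exact hT'.hasInjectiveDimensionLT_X₃ (m + 1) (hasInjectiveDimensionLT_of_ge T'.X₂ 1 _ (by omega)) (hM P)
    exact hT.hasInjectiveDimensionLT_X₁ (m + 1) hC (hasInjectiveDimensionLT_of_ge T.X₂ 1 _ (by omega))

end Groth.Agent.LocDuality
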