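import Groth.Agent.LocCohBasic.Basic
import Mathlib.Algebra.Homology.DerivedCategory.Ext.Linear
import Mathlib.RingTheory.Support
import Mathlib.RingTheory.Noetherian.Basic

/-!
# `Ext^n(-, G)` on torsion modules, when `Ext^{n-1}(-, G)` vanishes, is corepresented by `H^n_J G`
-/

universe u

open CategoryTheory Limits Abelian Function

namespace Groth.Agent.LocDuality.LeftExact

open Groth.Agent.LocCohBasic

noncomputable section

variable {A : Type u} [CommRing A] [IsNoetherianRing A] (J : Ideal A)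

/-- Finite modules killed by a power of the ideal. -/
def Tor (X : ModuleCat.{u} A) : Prop := Module.Finite A X ∧ ∃ k, ∀ a ∈ J ^ k, ∀ x : X, a • x = 0

omit [IsNoetherianRing A] in
lemma tor_QI (k : ℕ) : Tor J (QI J k) :=
  ⟨inferInstanceAs (Module.Finite A (A ⧸ J ^ k)), k, fun a ha x => by
    obtain ⟨y, rfl⟩ := Submodule.mkQ_surjective (J ^ k) x
    exact (Submodule.Quotient.mk_eq_zero (J ^ k)).2 (Ideal.mul_mem_right y _ ha)⟩

omit [IsNoetherianRing A] in
lemma tor_pi (k s : ℕ) : Tor J (ModuleCat.of A (Fin s → QI J k)) := by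
  refine ⟨?_, k, fun a ha x => funext fun i => ?_⟩
  · haveI : Module.Finite A (QI J k) := inferInstanceAs (Module.Finite A (A ⧸ J ^ k))
    infer_instance
  · obtain ⟨y, hy⟩ := Submodule.mkQ_surjective (J ^ k) (x i)
    show a • x i = 0
    rw [← hy]
    exact (Submodule.Quotient.mk_eq_zero (J ^ k)).2 (Ideal.mul_mem_right y _ ha)

/-- Precomposition. -/
def pre {X Y : ModuleCat.{u} A} (f : X ⟶ Y) (G : ModuleCat.{u} A) (n : ℕ) : Ext Y G n →ₗ[A] Ext X G n where
  toFun x := (Ext.mk₀ f).comp x (zero_add n)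
  map_add' := fun x y => by simp
  map_smul' := fun r x => by simp

omit [IsNoetherianRing A] in
lemma pre_pre {X Y Z : ModuleCat.{u} A} (f : X ⟶ Y) (g : Y ⟶ Z) (G : ModuleCat.{u} A) (n : ℕ)
    (x : Ext Z G n) : pre f G n (pre g G n x) = pre (f ≫ g) G n x := by
  show (Ext.mk₀ f).comp ((Ext.mk₀ g).comp x (zero_add n)) (zero_add n) = _
  rw [← Ext.comp_assoc _ _ _ (zero_add 0) (zero_add n) (by simp), Ext.mk₀_comp_mk₀]
  rfl

omit [IsNoetherianRing A] in
lemma pre_id {X : ModuleCat.{u} A} (G : ModuleCat.{u} A) (n : ℕ) (x : Ext X G n) :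
    pre (𝟙 X) G n x = x := Ext.mk₀_id_comp x

omit [IsNoetherianRing A] in
lemma pre_add {X Y : ModuleCat.{u} A} (f g : X ⟶ Y) (G : ModuleCat.{u} A) (n : ℕ) (x : Ext Y G n) :
    pre (f + g) G n x = pre f G n x + pre g G n x := by
  show (Ext.mk₀ (f + g)).comp x (zero_add n) = _
  rw [Ext.mk₀_add, Ext.add_comp]
  rfl

omit [IsNoetherianRing A] in
lemma pre_smul {X Y : ModuleCat.{u} A} (c : A) (f : X ⟶ Y) (G : ModuleCat.{u} A) (n : ℕ) (x : Ext Y G n) :
    pre (c • f) G n x = c • pre f G n x := by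
  show (Ext.mk₀ (c • f)).comp x (zero_add n) = _
  rw [Ext.mk₀_smul, Ext.smul_comp]
  rfl

omit [IsNoetherianRing A] in
lemma pre_sum {X Y : ModuleCat.{u} A} {ι : Type*} (s : Finset ι) (f : ι → (X ⟶ Y))
    (G : ModuleCat.{u} A) (n : ℕ) (x : Ext Y G n) :
    pre (∑ j ∈ s, f j) G n x = ∑ j ∈ s, pre (f j) G n x :=
  map_sum (AddMonoidHom.mk' (fun g => pre g G n x) fun a b => pre_add a b G n x) f s

/-- The map out of `A ⧸ J ^ k` given by an element. -/
def tsp {k : ℕ} {X : ModuleCat.{u} A} (hX : ∀ a ∈ J ^ k, ∀ x : X, a • x = 0) (y : X) : QI J k ⟶ X :=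
  ModuleCat.ofHom ((J ^ k).liftQ (LinearMap.toSpanSingleton A X y) fun a ha => hX a ha y)

/-- A projection. -/
def prj (k s : ℕ) (j : Fin s) : ModuleCat.of A (Fin s → QI J k) ⟶ QI J k :=
  ModuleCat.ofHom (LinearMap.proj j)

/-- The map given by finitely many elements. -/
def lc {k s : ℕ} {X : ModuleCat.{u} A} (hX : ∀ a ∈ J ^ k, ∀ x : X, a • x = 0) (y : Fin s → X) :
    ModuleCat.of A (Fin s → QI J k) ⟶ X :=
  ∑ j, prj J k s j ≫ tsp J hX (y j)

omit [IsNoetherianRing A] in
lemma lc_apply {k s : ℕ} {X : ModuleCat.{u} A} (hX : ∀ a ∈ J ^ k, ∀ x : X, a • x = 0) (y : Fin s → X)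
    (c : Fin s → A) :
    (lc J hX y).hom (fun j => Submodule.Quotient.mk (c j)) = ∑ j, c j • y j := by
  simp only [lc, ModuleCat.hom_sum, LinearMap.coe_sum, Finset.sum_apply]
  rfl

omit [IsNoetherianRing A] in
lemma lc_surjective {k s : ℕ} {X : ModuleCat.{u} A} (hX : ∀ a ∈ J ^ k, ∀ x : X, a • x = 0)
    (y : Fin s → X) (hy : Submodule.span A (Set.range y) = ⊤) : Surjective (lc J hX y).hom := fun x => by
  obtain ⟨c, hc⟩ := (Submodule.mem_span_range_iff_exists_fun A).1 (hy ▸ Submodule.mem_top (x := x))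
  exact ⟨_, (lc_apply J hX y c).trans hc⟩

variable (G : ModuleCat.{u} A) (n : ℕ)
  (hvan : ∀ X : ModuleCat.{u} A, Tor J X → ∀ i, i + 1 = n → Subsingleton (Ext X G i))

include hvan in
lemma pre_injective {X Y : ModuleCat.{u} A} (f : X ⟶ Y) (hX : Tor J X) (hf : Surjective f.hom) :
    Injective (pre f G n) := by
  rw [injective_iff_map_eq_zero]
  intro x hx
  haveI : Epi f := (ModuleCat.epi_iff_surjective f).2 hf
  match n, hvan, x, hx with
  | 0, _, x, hx =>
    obtain ⟨g, rfl⟩ := (Ext.mk₀_bijective _ _).2 x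
    have h1 : f ≫ g = 0 := (Ext.mk₀_bijective _ _).1 (by
      rw [← Ext.mk₀_comp_mk₀, Ext.mk₀_zero]
      exact hx)
    rw [(cancel_epi f).1 (h1.trans comp_zero.symm), Ext.mk₀_zero]
  | i + 1, hvan, x, hx =>
    let S : ShortComplex (ModuleCat.{u} A) := ModuleCat.shortComplexOfCompEqZero
      (LinearMap.ker f.hom).subtype f.hom (LinearMap.ext fun z => z.2)
    have hS : S.ShortExact := ModuleCat.shortComplex_shortExact _
      (LinearMap.exact_subtype_ker_map f.hom) (Submodule.injective_subtype _) hf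
    haveI := hX.1
    have hK : Tor J S.X₁ := ⟨Module.Finite.of_injective (LinearMap.ker f.hom).subtype
      (Submodule.injective_subtype _), hX.2.choose, fun a ha z => Subtype.ext (hX.2.choose_spec a ha z.1)⟩
    obtain ⟨y, hy⟩ := Ext.contravariant_sequence_exact₃ hS G x hx (show 1 + i = i + 1 by omega)
    rw [← hy, @Subsingleton.elim _ (hvan _ hK i rfl) y 0, Ext.comp_zero]

omit [IsNoetherianRing A] in
lemma exists_pre_eq {X Y : ModuleCat.{u} A} (f : X ⟶ Y) (hf : Surjective f.hom) (x : Ext X G n)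
    (hx : pre (ModuleCat.ofHom (LinearMap.ker f.hom).subtype) G n x = 0) : ∃ y, pre f G n y = x := by
  let S : ShortComplex (ModuleCat.{u} A) := ModuleCat.shortComplexOfCompEqZero
    (LinearMap.ker f.hom).subtype f.hom (LinearMap.ext fun z => z.2)
  have hS : S.ShortExact := ModuleCat.shortComplex_shortExact _
    (LinearMap.exact_subtype_ker_map f.hom) (Submodule.injective_subtype _) hf
  exact Ext.contravariant_sequence_exact₂ hS G x hx

include hvan in
/-- Vanishing may be tested on generators. -/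
lemma eq_zero_of_gen {k s : ℕ} {X : ModuleCat.{u} A} (hX : ∀ a ∈ J ^ k, ∀ x : X, a • x = 0)
    (y : Fin s → X) (hy : Submodule.span A (Set.range y) = ⊤) (x : Ext X G n)
    (h : ∀ j, pre (tsp J hX (y j)) G n x = 0) : x = 0 := by
  refine pre_injective J G n hvan (lc J hX y) (tor_pi J k s) (lc_surjective J hX y hy) ?_
  rw [map_zero, lc, pre_sum]
  refine Finset.sum_eq_zero fun j _ => ?_
  rw [← pre_pre, h, map_zero]

include hvan in
lemma pre_proj_injective {k l : ℕ} (h : k ≤ l) : Injective (pre (proj J h) G n) :=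
  pre_injective J G n hvan _ (tor_QI J l) (fun z => by
    obtain ⟨y, rfl⟩ := Submodule.mkQ_surjective (J ^ k) z
    exact ⟨Submodule.Quotient.mk y, rfl⟩)

include hvan in
lemma loc_injective (k : ℕ) : Injective (loc J (n := n) G k) := by
  rw [injective_iff_map_eq_zero]
  intro x hx
  obtain ⟨l, h, hl⟩ := (loc_eq_zero_iff J G x).1 hx
  exact pre_proj_injective J G n hvan h (hl.trans (map_zero _).symm)

include hvan in
lemma exists_loc_of_killed (k : ℕ) (z : (localCohomology J n).obj G) (hz : ∀ a ∈ J ^ k, a • z = 0) :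
    ∃ x : Ext (QI J k) G n, loc J G k x = z := by
  obtain ⟨l₀, x₀, rfl⟩ := exists_loc J (n := n) G z
  obtain ⟨l, hkl, hl⟩ : ∃ l, k ≤ l ∧ l₀ ≤ l := ⟨max k l₀, le_max_left _ _, le_max_right _ _⟩
  rw [← loc_proj J G hl x₀] at hz ⊢
  generalize (Ext.mk₀ (proj J hl)).comp x₀ (zero_add n) = x at hz ⊢
  have hkill : ∀ a ∈ J ^ k, a • x = 0 := fun a ha => loc_injective J G n hvan l (by
    rw [map_smul, hz a ha, map_zero])
  have hsurj : Surjective (proj J hkl).hom := fun w => by
    obtain ⟨y, rfl⟩ := Submodule.mkQ_surjective (J ^ k) w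
    exact ⟨Submodule.Quotient.mk y, rfl⟩
  obtain ⟨y, hy⟩ : ∃ y, pre (proj J hkl) G n y = x := by
    refine exists_pre_eq G n _ hsurj x ?_
    haveI := (tor_QI J l).1
    obtain ⟨s, g, hg⟩ := Module.Finite.exists_fin (R := A) (M := LinearMap.ker (proj J hkl).hom)
    have hK : ∀ a ∈ J ^ l, ∀ w : LinearMap.ker (proj J hkl).hom, a • w = 0 := fun a ha w =>
      Subtype.ext (by
        obtain ⟨y, hy⟩ := Submodule.mkQ_surjective (J ^ l) w.1
        show a • w.1 = 0
        rw [← hy]
        exact (Submodule.Quotient.mk_eq_zero (J ^ l)).2 (Ideal.mul_mem_right y _ ha))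
    refine eq_zero_of_gen J G n hvan (X := ModuleCat.of A _) hK g hg _ fun j => ?_
    obtain ⟨c, hc⟩ := Submodule.mkQ_surjective (J ^ l) (g j).1
    have hcJ : c ∈ J ^ k := (Submodule.Quotient.mk_eq_zero (J ^ k)).1 (by
      have h0 : (proj J hkl).hom (g j).1 = 0 := (g j).2
      rw [← hc] at h0
      exact h0)
    have hcomp : tsp J (X := ModuleCat.of A (LinearMap.ker (proj J hkl).hom)) hK (g j) ≫
        ModuleCat.ofHom (LinearMap.ker (proj J hkl).hom).subtype = c • 𝟙 (QI J l) := by
      refine ModuleCat.hom_ext (Submodule.linearMap_qext _ (LinearMap.ext_ring ?_))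
      show (1 : A) • (g j).1 = c • Submodule.Quotient.mk (1 : A)
      rw [one_smul, ← hc, ← Submodule.Quotient.mk_smul, smul_eq_mul, mul_one]
      rfl
    rw [pre_pre, hcomp, pre_smul, pre_id, hkill c hcJ]
  exact ⟨y, by rw [← hy]; exact (loc_proj J G hkl y).symm⟩

omit [IsNoetherianRing A] in
lemma tsp_add {k : ℕ} {X : ModuleCat.{u} A} (hX : ∀ a ∈ J ^ k, ∀ x : X, a • x = 0) (y y' : X) :
    tsp J hX (y + y') = tsp J hX y + tsp J hX y' := by
  refine ModuleCat.hom_ext (Submodule.linearMap_qext _ (LinearMap.ext_ring ?_))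
  exact smul_add (1 : A) y y'

omit [IsNoetherianRing A] in
lemma tsp_smul {k : ℕ} {X : ModuleCat.{u} A} (hX : ∀ a ∈ J ^ k, ∀ x : X, a • x = 0) (c : A) (y : X) :
    tsp J hX (c • y) = c • tsp J hX y := by
  refine ModuleCat.hom_ext (Submodule.linearMap_qext _ (LinearMap.ext_ring ?_))
  exact smul_comm (1 : A) c y

/-- The comparison map. -/
def toHom {k : ℕ} {X : ModuleCat.{u} A} (hX : ∀ a ∈ J ^ k, ∀ x : X, a • x = 0) :
    Ext X G n →ₗ[A] (X →ₗ[A] (localCohomology J n).obj G) where
  toFun x :=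
    { toFun := fun y => loc J G k (pre (tsp J hX y) G n x)
      map_add' := fun y y' => by rw [tsp_add, pre_add, map_add]
      map_smul' := fun c y => by rw [tsp_smul, pre_smul, map_smul]; rfl }
  map_add' x x' := LinearMap.ext fun y => by
    show loc J G k (pre (tsp J hX y) G n (x + x')) = _
    rw [map_add, map_add]
    rfl
  map_smul' c x := LinearMap.ext fun y => by
    show loc J G k (pre (tsp J hX y) G n (c • x)) = _
    rw [map_smul, map_smul]
    rfl

include hvan in
theorem toHom_bijective {k : ℕ} {X : ModuleCat.{u} A} [Module.Finite A X]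
    (hX : ∀ a ∈ J ^ k, ∀ x : X, a • x = 0) : Bijective (toHom J G n hX) := by
  obtain ⟨s, g, hg⟩ := Module.Finite.exists_fin (R := A) (M := X)
  refine ⟨(injective_iff_map_eq_zero _).2 fun x hx => ?_, fun φ => ?_⟩
  · exact eq_zero_of_gen J G n hvan hX g hg x fun j =>
      loc_injective J G n hvan k ((LinearMap.congr_fun hx (g j)).trans (map_zero _).symm)
  · choose x hx using fun j => exists_loc_of_killed J G n hvan k (φ (g j))
      (fun a ha => by rw [← map_smul, hX a ha, map_zero])
    let x' : Ext (ModuleCat.of A (Fin s → QI J k)) G n := ∑ j, pre (prj J k s j) G n (x j)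
    obtain ⟨y, hy⟩ : ∃ y, pre (lc J hX g) G n y = x' := by
      refine exists_pre_eq G n _ (lc_surjective J hX g hg) x' ?_
      haveI := (tor_pi J k s).1
      obtain ⟨t, w, hw⟩ := Module.Finite.exists_fin (R := A) (M := LinearMap.ker (lc J hX g).hom)
      have hK : ∀ a ∈ J ^ k, ∀ z : LinearMap.ker (lc J hX g).hom, a • z = 0 := fun a ha z =>
        Subtype.ext (funext fun i => by
          obtain ⟨y, hy⟩ := Submodule.mkQ_surjective (J ^ k) (z.1 i)
          show a • z.1 i = 0
          rw [← hy]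
          exact (Submodule.Quotient.mk_eq_zero (J ^ k)).2 (Ideal.mul_mem_right y _ ha))
      refine eq_zero_of_gen J G n hvan (X := ModuleCat.of A _) hK w hw _ fun l => ?_
      choose c hc using fun i => Submodule.mkQ_surjective (J ^ k) ((w l).1 i)
      have hcomp : ∀ i, tsp J (X := ModuleCat.of A (LinearMap.ker (lc J hX g).hom)) hK (w l) ≫
          ModuleCat.ofHom (LinearMap.ker (lc J hX g).hom).subtype ≫ prj J k s i = c i • 𝟙 (QI J k) := fun i => by
        refine ModuleCat.hom_ext (Submodule.linearMap_qext _ (LinearMap.ext_ring ?_))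
        show ((1 : A) • (w l).1) i = c i • Submodule.Quotient.mk (1 : A)
        rw [one_smul, ← hc i, ← Submodule.Quotient.mk_smul, smul_eq_mul, mul_one]
        rfl
      rw [pre_pre, map_sum]
      refine loc_injective J G n hvan k ?_
      rw [map_sum, map_zero]
      have h1 : ∀ i, loc J G k (pre (tsp J (X := ModuleCat.of A (LinearMap.ker (lc J hX g).hom)) hK (w l) ≫
          ModuleCat.ofHom (LinearMap.ker (lc J hX g).hom).subtype) G n (pre (prj J k s i) G n (x i))) =
            c i • φ (g i) := fun i => by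
        rw [pre_pre, Category.assoc, hcomp, pre_smul, pre_id, map_smul, hx]
      rw [Finset.sum_congr rfl fun i _ => h1 i]
      have h2 : ∑ i, c i • g i = 0 := by
        rw [← lc_apply J hX g c]
        have : (fun i => Submodule.Quotient.mk (c i)) = (w l).1 := funext fun i => hc i
        rw [this]
        exact (w l).2
      rw [← map_zero φ, ← h2, map_sum]
      simp only [map_smul]
    refine ⟨y, LinearMap.ext_on hg ?_⟩
    rintro _ ⟨j, rfl⟩
    show loc J G k (pre (tsp J hX (g j)) G n y) = φ (g j)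
    rw [← hx j]
    congr 1
    have hins : tsp J hX (g j) = ModuleCat.ofHom (LinearMap.single A (fun _ : Fin s => QI J k) j) ≫ lc J hX g := by
      rw [lc, Preadditive.comp_sum, Finset.sum_eq_single j]
      · refine ModuleCat.hom_ext (LinearMap.ext fun z => ?_)
        simp [prj]
      · intro i _ hi
        refine ModuleCat.hom_ext (LinearMap.ext fun z => ?_)
        simp [prj, Pi.single_eq_of_ne hi]
      · simp
    rw [hins, ← pre_pre, hy, map_sum, Finset.sum_eq_single j]
    · rw [pre_pre]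
      have : ModuleCat.ofHom (LinearMap.single A (fun _ : Fin s => QI J k) j) ≫ prj J k s j = 𝟙 _ :=
        ModuleCat.hom_ext (LinearMap.ext fun z => by simp [prj])
      rw [this, pre_id]
    · intro i _ hi
      rw [pre_pre]
      have h0 : ModuleCat.ofHom (LinearMap.single A (fun _ : Fin s => QI J k) j) ≫ prj J k s i = 0 :=
        ModuleCat.hom_ext (LinearMap.ext fun z => by simp [prj, Pi.single_eq_of_ne hi])
      rw [h0]
      show (Ext.mk₀ (0 : QI J k ⟶ QI J k)).comp (x i) (zero_add n) = 0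
      rw [Ext.mk₀_zero, Ext.zero_comp]
    · simp

end

end Groth.Agent.LocDuality.LeftExact
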