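import Groth.Agent.LocDuality.Gorenstein
import Groth.Agent.LocCohBasic.Depth
import Groth.Agent.Depth.Basic

/-!
# Maximal Cohen–Macaulay modules over a Gorenstein local ring are reflexive
-/

universe u

open CategoryTheory Limits Abelian LocCoh Function IsLocalRing Groth.Agent.LocCohBasic

namespace Groth.Agent.LocDuality

noncomputable section

variable {A : Type u} [CommRing A] [IsGorensteinLocalRing A] {n : ℕ} (hn : ringKrullDim A = n)

include hn

lemma subsingleton_ext_one (M : Type u) [AddCommGroup M] [Module A M] [Module.Finite A M]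
    (hM : (n : ℕ∞) ≤ depth A M) : Subsingleton (Ext (ModuleCat.of A M) (ModuleCat.of A A) 1) := by
  rcases Nat.eq_zero_or_pos n with rfl | hpos
  · have := hasInjectiveDimensionLT_self hn
    exact HasInjectiveDimensionLT.subsingleton (ModuleCat.of A A) 1 1 le_rfl _
  · exact (subsingleton_H_iff hn 1 hpos M).mp
      ((le_idealDepth_iff_subsingleton (maximalIdeal A) (ModuleCat.of A M)).mp hM (n - 1) (by omega))

lemma le_depth_pi (m : ℕ) : (n : ℕ∞) ≤ depth A (Fin m → A) :=
  (le_idealDepth_iff_subsingleton (maximalIdeal A) (ModuleCat.of A (Fin m → A))).mpr fun i hi =>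
    subsingleton_pi _ (subsingleton_low hn i hi) m

/-- Functionals extend along an inclusion with maximal Cohen–Macaulay cokernel. -/
lemma exists_extend {X Y Z : Type u} [AddCommGroup X] [Module A X] [AddCommGroup Y] [Module A Y]
    [AddCommGroup Z] [Module A Z] [Module.Finite A Z] (j : X →ₗ[A] Y) (hj : Injective j) (q : Y →ₗ[A] Z)
    (hq : Surjective q) (he : Exact j q) (hZ : (n : ℕ∞) ≤ depth A Z) (ψ : X →ₗ[A] A) :
    ∃ ψ' : Y →ₗ[A] A, ψ' ∘ₗ j = ψ := by
  let S := ModuleCat.shortComplexOfCompEqZero j q he.linearMap_comp_eq_zero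
  have hS : S.ShortExact := ModuleCat.shortComplex_shortExact _ he hj hq
  obtain ⟨y, hy⟩ := Ext.contravariant_sequence_exact₁ hS (ModuleCat.of A A)
    (Ext.mk₀ (ModuleCat.ofHom ψ : S.X₁ ⟶ ModuleCat.of A A)) (n₁ := 1) rfl (@Subsingleton.elim _ (subsingleton_ext_one hn Z hZ) _ _)
  obtain ⟨g, rfl⟩ := (Ext.mk₀_bijective _ _).2 y
  rw [Ext.mk₀_comp_mk₀] at hy
  exact ⟨g.hom, congrArg (fun t => t.hom) ((Ext.mk₀_bijective _ _).1 hy)⟩

variable {a : ℕ} {M : Type u} [AddCommGroup M] [Module A M] [Module.Finite A M]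
  (π : (Fin a → A) →ₗ[A] M) (hπ : Surjective π)

include hπ

lemma le_depth_ker {k : ℕ} (hk : k ≤ n) (hM : (k : ℕ∞) ≤ depth A M + 1) :
    (k : ℕ∞) ≤ depth A (LinearMap.ker π) :=
  Depth.le_idealDepth_left (Submodule.injective_subtype _) hπ (LinearMap.exact_subtype_ker_map π)
    (le_trans (by exact_mod_cast hk) (le_depth_pi hn a)) hM

/-- The dual of a presentation is short exact. -/
lemma dual_exact (hM : (n : ℕ∞) ≤ depth A M) :
    Injective (π.lcomp A A) ∧ Exact (π.lcomp A A) ((LinearMap.ker π).subtype.lcomp A A) ∧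
      Surjective ((LinearMap.ker π).subtype.lcomp A A) := by
  refine ⟨fun φ ψ h => LinearMap.ext fun y => ?_, fun φ => ⟨fun hφ => ?_, ?_⟩,
    fun ψ => exists_extend hn _ (Submodule.injective_subtype _) π hπ (LinearMap.exact_subtype_ker_map π) hM ψ⟩
  · obtain ⟨x, rfl⟩ := hπ y; exact LinearMap.congr_fun h x
  · refine ⟨(LinearMap.ker π).liftQ φ (fun x hx => LinearMap.congr_fun hφ ⟨x, hx⟩) ∘ₗ
      (π.quotKerEquivOfSurjective hπ).symm.toLinearMap, LinearMap.ext fun x => ?_⟩
    have : (π.quotKerEquivOfSurjective hπ).symm (π x) = Submodule.Quotient.mk x := by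
      rw [LinearEquiv.symm_apply_eq]; rfl
    simp [this]
  · rintro ⟨ψ, rfl⟩
    refine LinearMap.ext fun x => ?_
    change ψ (π x.1) = 0
    rw [LinearMap.mem_ker.mp x.2, map_zero]

omit hπ in
/-- The dual of a maximal Cohen–Macaulay module is maximal Cohen–Macaulay. -/
theorem le_depth_dual : ∀ (k : ℕ), k ≤ n → ∀ (M : Type u) [AddCommGroup M] [Module A M] [Module.Finite A M],
    (n : ℕ∞) ≤ depth A M → (k : ℕ∞) ≤ depth A (M →ₗ[A] A) := by
  intro k
  induction k with
  | zero => intros; simp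
  | succ k ih =>
    intro hk M _ _ _ hM
    obtain ⟨a, π, hπ⟩ := Module.Finite.exists_fin' A M
    obtain ⟨h1, h2, h3⟩ := dual_exact hn π hπ hM
    have hN := le_depth_ker hn π hπ le_rfl (le_trans hM le_self_add)
    refine Depth.le_idealDepth_left h1 h3 h2 ?_ ?_
    · rw [← LocCoh.depth, Depth.depth_congr ((Pi.basisFun A (Fin a)).constr A).symm]
      exact le_trans (by exact_mod_cast hk) (le_depth_pi hn a)
    · rw [Nat.cast_succ]
      exact add_le_add (ih (by omega) _ hN) le_rfl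

/-- Every functional on the dual is an evaluation. -/
theorem exists_eval (hM : (n : ℕ∞) ≤ depth A M) (Φ : (M →ₗ[A] A) →ₗ[A] A) :
    ∃ x : M, ∀ φ : M →ₗ[A] A, Φ φ = φ x := by
  classical
  obtain ⟨h1, h2, h3⟩ := dual_exact hn π hπ hM
  have hN := le_depth_ker hn π hπ le_rfl (le_trans hM le_self_add)
  obtain ⟨Φ', hΦ'⟩ := exists_extend hn _ h1 _ h3 h2 (le_depth_dual hn n le_rfl _ hN) Φ
  refine ⟨π (fun i => Φ' (LinearMap.proj i)), fun φ => ?_⟩
  rw [← hΦ']
  change Φ' (φ ∘ₗ π) = (φ ∘ₗ π) _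
  generalize φ ∘ₗ π = g
  have hg : g = ∑ i, g (Pi.single i 1) • (LinearMap.proj i : (Fin a → A) →ₗ[A] A) := LinearMap.ext fun v => by
    conv_lhs => rw [pi_eq_sum_univ' v]
    simp [mul_comm]
  conv_lhs => rw [hg]
  conv_rhs => rw [pi_eq_sum_univ' (fun i => Φ' (LinearMap.proj i))]
  simp [mul_comm]

omit hπ in
/-- Functionals separate the points of a maximal Cohen–Macaulay module. -/
theorem eq_zero_of_forall_dual (hM : (n : ℕ∞) ≤ depth A M) {z : M}
    (hz : ∀ φ : M →ₗ[A] A, φ z = 0) : z = 0 := by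
  classical
  obtain ⟨a, π, hπ⟩ := Module.Finite.exists_fin' A M
  obtain ⟨y, rfl⟩ := hπ z
  obtain ⟨h1, h2, h3⟩ := dual_exact hn π hπ hM
  obtain ⟨a', σ, hσ⟩ := Module.Finite.exists_fin' A (LinearMap.ker π)
  let res := (LinearMap.ker π).subtype.lcomp A A
  have hker : LinearMap.ker res ≤ LinearMap.ker (LinearMap.applyₗ y : ((Fin a → A) →ₗ[A] A) →ₗ[A] A) := fun g hg => by
    obtain ⟨φ, rfl⟩ := (h2 g).mp hg
    exact hz φ
  let Ψ : ((LinearMap.ker π) →ₗ[A] A) →ₗ[A] A :=
    (LinearMap.ker res).liftQ _ hker ∘ₗ (res.quotKerEquivOfSurjective h3).symm.toLinearMap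
  obtain ⟨w, hw⟩ := exists_eval hn σ hσ (le_depth_ker hn π hπ le_rfl (le_trans hM le_self_add)) Ψ
  suffices y = w.1 by rw [this]; exact w.2
  funext i
  have h := hw (res (LinearMap.proj i))
  have : (res.quotKerEquivOfSurjective h3).symm (res (LinearMap.proj i)) = Submodule.Quotient.mk (LinearMap.proj i) := by
    rw [LinearEquiv.symm_apply_eq]; rfl
  simpa [Ψ, this, res] using h

end

end Groth.Agent.LocDuality
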