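import Groth.Agent.LocCohBasic.ExtVanish
import Groth.Agent.InjHullBasic.Basic
import Groth.Agent.LocCohBasic.Finiteness
import Mathlib.CategoryTheory.Abelian.Injective.Dimension
import Mathlib.Algebra.Homology.DerivedCategory.Ext.Linear

/-!
# Local cohomology concentrated in one degree

If the local cohomology of `M` vanishes below `d`, then `Ext^d(N, M) ≅ Hom(N, H^d M)` for `N` killed
by the ideal; if moreover it is a single injective module, the higher `Ext`s vanish.
-/

universe u

open CategoryTheory Limits Abelian LocCoh Function

namespace Groth.Agent.LocDuality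

open Groth.Agent.LocCohBasic

noncomputable section

variable {R : Type u} [CommRing R] (I : Ideal R)

/-- A quotient of an injective module by an injective submodule is injective. -/
lemma injective_of_exact {A B C : Type u} [AddCommGroup A] [Module R A] [AddCommGroup B] [Module R B]
    [AddCommGroup C] [Module R C] [Module.Injective R A] [Module.Injective R B]
    (f : A →ₗ[R] B) (g : B →ₗ[R] C) (hf : Injective f) (he : Exact f g) (hg : Surjective g) :
    Module.Injective R C := by
  obtain ⟨s, hs⟩ := Module.Injective.extension_property R A A B f hf LinearMap.id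
  have hle : LinearMap.ker g ≤ LinearMap.ker (LinearMap.id - f ∘ₗ s) := by
    intro b hb
    obtain ⟨a, rfl⟩ := (he b).mp hb
    simp [show s (f a) = a from LinearMap.congr_fun hs a]
  let σ : C →ₗ[R] B := (LinearMap.ker g).liftQ _ hle ∘ₗ (g.quotKerEquivOfSurjective hg).symm.toLinearMap
  have hσ : ∀ b, σ (g b) = b - f (s b) := fun b => by
    have h : (g.quotKerEquivOfSurjective hg).symm (g b) = Submodule.Quotient.mk b := by
      rw [LinearEquiv.symm_apply_eq]; rfl
    simp [σ, h]
  refine ⟨fun X Y _ _ _ _ ι hι φ => ?_⟩
  obtain ⟨ψ, hψ⟩ := Module.Injective.out ι hι (σ ∘ₗ φ)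
  refine ⟨g ∘ₗ ψ, fun x => ?_⟩
  rw [LinearMap.comp_apply, hψ, LinearMap.comp_apply]
  obtain ⟨b, hb⟩ := hg (φ x)
  rw [← hb, hσ, map_sub, he.apply_apply_eq_zero, sub_zero]

/-- `H^0_I M ≅ Γ_I M`. -/
def h0Equiv (M : ModuleCat.{u} R) : (localCohomology I 0).obj M ≃ₗ[R] DRing.torsionSub I M :=
  ((zeroIso I).app M).toLinearEquiv

lemma h0Equiv_map {M N : ModuleCat.{u} R} (f : M ⟶ N) (y : (localCohomology I 0).obj M) :
    (h0Equiv I N ((localCohomology I 0).map f y) : N) = f (h0Equiv I M y : M) :=
  congrArg Subtype.val (congrArg (fun k => k.hom y) ((zeroIso I).hom.naturality f))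

variable [IsNoetherianRing R]

section Shift

variable {S : ShortComplex (ModuleCat.{u} R)} (hS : S.ShortExact)

omit [IsNoetherianRing R] in
lemma delta_bijective (i : ℕ) (h₀ : Subsingleton ((localCohomology I i).obj S.X₂))
    (h₁ : Subsingleton ((localCohomology I (i + 1)).obj S.X₂)) : Bijective (delta I i hS) := by
  refine ⟨(injective_iff_map_eq_zero _).mpr fun z hz => ?_, fun y =>
    exists_of_map_f_eq_zero I hS y (Subsingleton.elim _ _)⟩
  obtain ⟨w, rfl⟩ := exists_of_delta_eq_zero I hS z hz
  rw [Subsingleton.eq_zero w, map_zero]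

/-- Dimension shift of local cohomology. -/
def shiftEquiv (i : ℕ) (h₀ : Subsingleton ((localCohomology I i).obj S.X₂))
    (h₁ : Subsingleton ((localCohomology I (i + 1)).obj S.X₂)) :
    (localCohomology I i).obj S.X₃ ≃ₗ[R] (localCohomology I (i + 1)).obj S.X₁ :=
  LinearEquiv.ofBijective (delta I i hS).hom (delta_bijective I hS i h₀ h₁)

end Shift

/-- If `Γ_I M` is injective and `H^i_I M = 0` for `0 < i < n`, then `H^n_I M` is injective,
provided `M` has injective dimension at most `n`. -/
theorem injective_localCohomology : ∀ (n : ℕ) (M : ModuleCat.{u} R) [HasInjectiveDimensionLT M (n + 1)],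
    Module.Injective R (DRing.torsionSub I M) →
    (∀ i, 0 < i → i < n → Subsingleton ((localCohomology I i).obj M)) →
    Module.Injective R ((localCohomology I n).obj M) := by
  intro n
  induction n with
  | zero => exact fun M _ h _ => Groth.Agent.InjHullBasic.injective_of_linearEquiv (h0Equiv I M).symm
  | succ n ih =>
    intro M _ hM hvan
    let J := Injective.under M
    have hJ : Injective J := inferInstanceAs (Injective (Injective.under M))
    have : Module.Injective R J := Module.injective_module_of_injective_object (inj := hJ) R J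
    let S := ShortComplex.mk (Injective.ι M) (cokernel.π _) (cokernel.condition _)
    have hS : S.ShortExact := { exact := ShortComplex.exact_cokernel _ }
    have hX₃ : HasInjectiveDimensionLT S.X₃ (n + 1) :=
      hS.hasInjectiveDimensionLT_X₃ (n + 1) inferInstance inferInstance
    have hJ0 : Module.Injective R ((localCohomology I 0).obj S.X₂) := by
      have := injective_torsionSub I J
      exact Groth.Agent.InjHullBasic.injective_of_linearEquiv (h0Equiv I J).symm
    have hM0 : Module.Injective R ((localCohomology I 0).obj S.X₁) :=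
      Groth.Agent.InjHullBasic.injective_of_linearEquiv (h0Equiv I M).symm
    let f0 := ((localCohomology I 0).map S.f).hom
    let g0 := ((localCohomology I 0).map S.g).hom
    have hQ : Module.Injective R (LinearMap.range g0) := by
      refine injective_of_exact f0 g0.rangeRestrict (map_f_injective I hS) (fun y => ?_)
        g0.surjective_rangeRestrict
      refine ⟨fun hy => exists_of_map_g_eq_zero I hS y (congrArg Subtype.val hy), ?_⟩
      rintro ⟨x, rfl⟩
      exact Subtype.ext (congrArg (fun k => k.hom x) (map_comp_map_eq_zero (I := I) (n := 0) S))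
    cases n with
    | zero =>
      have : Injective S.X₃ := inferInstance
      have : Module.Injective R S.X₃ := Module.injective_module_of_injective_object (inj := this) R _
      have := injective_torsionSub I S.X₃
      have : Module.Injective R ((localCohomology I 0).obj S.X₃) :=
        Groth.Agent.InjHullBasic.injective_of_linearEquiv (h0Equiv I S.X₃).symm
      refine injective_of_exact (LinearMap.range g0).subtype (delta I 0 hS).hom
        (Submodule.injective_subtype _) (fun z => ?_) fun y =>
          exists_of_map_f_eq_zero I hS y (@Subsingleton.elim _ (subsingleton_of_injective I J 0) _ _)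
      refine ⟨fun hz => ?_, ?_⟩
      · obtain ⟨w, rfl⟩ := exists_of_delta_eq_zero I hS z hz
        exact ⟨⟨_, w, rfl⟩, rfl⟩
      · rintro ⟨⟨_, w, rfl⟩, rfl⟩
        exact congrArg (fun k => k.hom w) (map_comp_delta I hS (n := 0))
    | succ n =>
      have h1 : Subsingleton ((localCohomology I 1).obj S.X₁) := hvan 1 one_pos (by omega)
      have hC0 : Module.Injective R (DRing.torsionSub I S.X₃) := by
        have : LinearMap.range g0 = ⊤ := LinearMap.range_eq_top.mpr fun z =>
          exists_of_delta_eq_zero I hS z (Subsingleton.elim _ _)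
        exact Groth.Agent.InjHullBasic.injective_of_linearEquiv ((LinearEquiv.ofTop _ this).trans (h0Equiv I S.X₃))
      have := ih S.X₃ hC0 fun i hi hi' =>
        (shiftEquiv I hS i (by cases i; · omega
                               exact subsingleton_of_injective I J _)
          (subsingleton_of_injective I J _)).toEquiv.subsingleton_congr.mpr (hvan (i + 1) (by omega) (by omega))
      exact Groth.Agent.InjHullBasic.injective_of_linearEquiv (shiftEquiv I hS (n + 1) (subsingleton_of_injective I J _)
        (subsingleton_of_injective I J _))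

section Ext

variable (N : Type u) [AddCommGroup N] [Module R N] [Module.Finite R N]
  (hN : ∀ a ∈ I, ∀ x : N, a • x = 0)

omit [IsNoetherianRing R] [Module.Finite R N] in
include hN in
lemma support_subset : Module.support R N ⊆ PrimeSpectrum.zeroLocus (I : Set R) := by
  intro p hp a ha
  by_contra hap
  obtain ⟨x, hx⟩ := Module.mem_support_iff'.mp hp
  exact hx a hap (hN a ha x)

include hN in
/-- The socle formula. -/
theorem nonempty_ext_equiv_hom : ∀ (d : ℕ) (M : ModuleCat.{u} R),
    (∀ i < d, Subsingleton ((localCohomology I i).obj M)) →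
    Nonempty (Ext (ModuleCat.of R N) M d ≃ₗ[R] (N →ₗ[R] (localCohomology I d).obj M)) := by
  intro d
  induction d with
  | zero =>
    intro M _
    have hmem : ∀ (f : N →ₗ[R] M) x, f x ∈ DRing.torsionSub I M := fun f x =>
      ⟨1, fun a ha => by rw [pow_one] at ha; rw [← map_smul, hN a ha, map_zero]⟩
    let e : (N →ₗ[R] M) ≃ₗ[R] (N →ₗ[R] DRing.torsionSub I M) :=
      { toFun := fun f => f.codRestrict _ (hmem f)
        map_add' := fun _ _ => rfl
        map_smul' := fun _ _ => rfl
        invFun := fun g => (DRing.torsionSub I M).subtype ∘ₗ g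
        left_inv := fun _ => rfl
        right_inv := fun _ => rfl }
    exact ⟨(Ext.linearEquiv₀ (R := R) (X := ModuleCat.of R N) (Y := M)) ≪≫ₗ
      (ModuleCat.homLinearEquiv (S := R)) ≪≫ₗ e ≪≫ₗ (h0Equiv I M).symm.congrRight⟩
  | succ d ih =>
    intro M hM
    obtain ⟨S, hS, rfl, hinj, htf⟩ :=
      exists_injective_embedding I M (torsionFree_of_subsingleton I M (hM 0 d.succ_pos))
    have hH : ∀ i, Subsingleton ((localCohomology I i).obj S.X₂) := fun i => by
      cases i with
      | zero => exact subsingleton_zero_of_torsionFree I S.X₂ htf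
      | succ i => exact subsingleton_of_injective I S.X₂ i
    have hE : ∀ i, Subsingleton (Ext (ModuleCat.of R N) S.X₂ i) := fun i => by
      cases i with
      | zero =>
        have := subsingleton_hom_of_torsionFree I N (support_subset I N hN) S.X₂ htf
        exact (Ext.addEquiv₀.toEquiv.trans ModuleCat.homEquiv).subsingleton
      | succ i => exact Ext.subsingleton_of_injective _ S.X₂ i
    obtain ⟨e⟩ := ih S.X₃ fun i hi =>
      (shiftEquiv I hS i (hH _) (hH _)).toEquiv.subsingleton_congr.mpr (hM (i + 1) (by omega))
    let δ : Ext (ModuleCat.of R N) S.X₃ d →ₗ[R] Ext (ModuleCat.of R N) S.X₁ (d + 1) :=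
      { toFun := fun x => x.comp hS.extClass rfl
        map_add' := fun x y => Ext.add_comp x y _ _
        map_smul' := fun r x => Ext.smul_comp x _ _ r }
    have hδ : Bijective δ := by
      refine ⟨(injective_iff_map_eq_zero _).mpr fun z hz => ?_, fun y => ?_⟩
      · obtain ⟨w, rfl⟩ := Ext.covariant_sequence_exact₃ (ModuleCat.of R N) hS z rfl hz
        rw [@Subsingleton.elim _ (hE _) w 0, Ext.zero_comp]
      · obtain ⟨x, hx⟩ := Ext.covariant_sequence_exact₁ (ModuleCat.of R N) hS y
          (@Subsingleton.elim _ (hE _) _ _) rfl
        exact ⟨x, hx⟩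
    exact ⟨(LinearEquiv.ofBijective δ hδ).symm ≪≫ₗ e ≪≫ₗ (shiftEquiv I hS d (hH _) (hH _)).congrRight⟩

include hN in
/-- Vanishing of higher `Ext` when the local cohomology is a single injective module. -/
theorem subsingleton_ext_of_single : ∀ (d : ℕ) (M : ModuleCat.{u} R),
    (∀ i, i ≠ d → Subsingleton ((localCohomology I i).obj M)) →
    Module.Injective R ((localCohomology I d).obj M) →
    ∀ j, d < j → Subsingleton (Ext (ModuleCat.of R N) M j) := by
  intro d
  induction d with
  | zero =>
    intro M hM hinj j hj
    obtain ⟨j, rfl⟩ : ∃ k, j = k + 1 := ⟨j - 1, by omega⟩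
    let T := DRing.torsionSub I M
    let S := ModuleCat.shortComplexOfCompEqZero T.subtype T.mkQ
      (LinearMap.ext fun x => (Submodule.Quotient.mk_eq_zero T).mpr x.2)
    have hS : S.ShortExact := ModuleCat.shortComplex_shortExact _
      (LinearMap.exact_subtype_mkQ T) (Submodule.injective_subtype _) (Submodule.mkQ_surjective _)
    have : Module.Injective R T := Groth.Agent.InjHullBasic.injective_of_linearEquiv (h0Equiv I M)
    have : Injective S.X₁ := Module.injective_object_of_injective_module R T
    have h3 : ∀ i, Subsingleton ((localCohomology I i).obj (modTorsion I M)) := fun i => by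
      cases i with
      | zero => exact subsingleton_zero_modTorsion I M
      | succ i => exact (modTorsionEquiv I M i).toEquiv.subsingleton_congr.mp (hM (i + 1) (by omega))
    have h3' : Subsingleton (Ext (ModuleCat.of R N) S.X₃ (j + 1)) :=
      subsingleton_ext_of_forall I (j + 2) (modTorsion I M) (fun i _ => h3 i) N (support_subset I N hN)
        (j + 1) (by omega)
    refine subsingleton_of_forall_eq 0 fun x => ?_
    obtain ⟨y, rfl⟩ := Ext.covariant_sequence_exact₂ (ModuleCat.of R N) hS x (@Subsingleton.elim _ h3' _ _)
    have : Subsingleton (Ext (ModuleCat.of R N) S.X₁ (j + 1)) := Ext.subsingleton_of_injective _ _ j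
    rw [Subsingleton.eq_zero y, Ext.zero_comp]
  | succ d ih =>
    intro M hM hinj j hj
    obtain ⟨j, rfl⟩ : ∃ k, j = k + 1 := ⟨j - 1, by omega⟩
    obtain ⟨S, hS, rfl, hJ, htf⟩ :=
      exists_injective_embedding I M (torsionFree_of_subsingleton I M (hM 0 d.succ_ne_zero.symm))
    have hH : ∀ i, Subsingleton ((localCohomology I i).obj S.X₂) := fun i => by
      cases i with
      | zero => exact subsingleton_zero_of_torsionFree I S.X₂ htf
      | succ i => exact subsingleton_of_injective I S.X₂ i
    have := ih S.X₃ (fun i hi =>
      (shiftEquiv I hS i (hH _) (hH _)).toEquiv.subsingleton_congr.mpr (hM (i + 1) (by omega)))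
      (Groth.Agent.InjHullBasic.injective_of_linearEquiv (shiftEquiv I hS d (hH _) (hH _)).symm) j (by omega)
    refine subsingleton_of_forall_eq 0 fun x => ?_
    have : Subsingleton (Ext (ModuleCat.of R N) S.X₂ (j + 1)) := Ext.subsingleton_of_injective _ _ j
    obtain ⟨y, hy⟩ := Ext.covariant_sequence_exact₁ (ModuleCat.of R N) hS x (Subsingleton.elim _ _) rfl
    rw [← hy, Subsingleton.eq_zero y, Ext.zero_comp]

end Ext

end

end Groth.Agent.LocDuality
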