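import Groth.Agent.LocDuality.Duality

/-!
# The top local cohomology is a tensor product
-/

universe u

open CategoryTheory LocCoh Function
open scoped TensorProduct

namespace Groth.Agent.LocDuality

open Groth.Agent.LocCohBasic

noncomputable section

variable {R : Type u} [CommRing R] [IsNoetherianRing R] (I : Ideal R) {n : ℕ} (hn : ringKrullDim R = n)
  (M : Type u) [AddCommGroup M] [Module R M]

include hn in
/-- `M ⊗ H^n(R) ≅ H^n(M)` for every module `M`. -/
theorem tensorToH_bijective_all : Bijective (tensorToH I n M) := by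
  refine ⟨(injective_iff_map_eq_zero _).mpr fun z hz => ?_, fun y => ?_⟩
  · obtain ⟨s, hs⟩ := TensorProduct.exists_finset z
    classical
    let N : Submodule R M := Submodule.span R ((s.image Prod.fst : Finset M) : Set M)
    let z' : N ⊗[R] LocCoh.H I n R := ∑ p ∈ s,
      if h : p.1 ∈ N then (⟨p.1, h⟩ : N) ⊗ₜ[R] p.2 else 0
    have hz' : N.subtype.rTensor _ z' = z := by
      rw [hs, map_sum]
      refine Finset.sum_congr rfl fun p hp => ?_
      rw [dif_pos (show p.1 ∈ N from Submodule.subset_span (Finset.mem_image_of_mem Prod.fst hp))]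
      rfl
    have : Module.Finite R N := Module.Finite.iff_fg.mpr ⟨_, rfl⟩
    rw [← hz', ← tensorToH_natural] at hz
    suffices h : ∃ N' : Submodule R M, ∃ hle : N ≤ N', N'.FG ∧
        hMap I n (Submodule.inclusion hle) (tensorToH I n N z') = 0 by
      obtain ⟨N', hle, hfg, h0⟩ := h
      have : Module.Finite R N' := Module.Finite.iff_fg.mpr hfg
      rw [tensorToH_natural] at h0
      rw [← hz', show N.subtype = N'.subtype ∘ₗ Submodule.inclusion hle from rfl, LinearMap.rTensor_comp_apply,
        (tensorToH_bijective I hn).1 (h0.trans (map_zero _).symm), map_zero]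
    have hS : (ModuleCat.shortComplexOfCompEqZero N.subtype N.mkQ
        (LinearMap.ext fun x => (Submodule.Quotient.mk_eq_zero N).mpr x.2)).ShortExact :=
      ModuleCat.shortComplex_shortExact _ (LinearMap.exact_subtype_mkQ N) (Submodule.injective_subtype _)
        (Submodule.mkQ_surjective _)
    generalize hy : tensorToH I n N z' = y at hz ⊢
    cases n with
    | zero =>
      refine ⟨N, le_rfl, ⟨_, rfl⟩, ?_⟩
      have : y = 0 := map_f_injective I hS (hz.trans (map_zero _).symm)
      rw [this, map_zero]
    | succ d =>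
      obtain ⟨w, hw⟩ := exists_of_map_f_eq_zero I hS y hz
      obtain ⟨P, hP, w', hw'⟩ := exists_fg_map I (ModuleCat.of R (M ⧸ N)) w
      obtain ⟨L, hL⟩ : ∃ L : Submodule R M, L.FG ∧ L.map N.mkQ = P := by
        obtain ⟨t, ht⟩ := hP
        choose g hg using Submodule.mkQ_surjective N
        refine ⟨Submodule.span R (t.image g : Finset M), ⟨_, rfl⟩, ?_⟩
        rw [Submodule.map_span, Finset.coe_image, ← Set.image_comp, ← ht]
        congr 1
        ext x
        simp [hg]
      let N' := N ⊔ L
      refine ⟨N', le_sup_left, Submodule.FG.sup ⟨_, rfl⟩ hL.1, ?_⟩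
      let q : N' →ₗ[R] P := (N.mkQ ∘ₗ N'.subtype).codRestrict P fun x => by
        obtain ⟨a, ha, b, hb, hab⟩ := Submodule.mem_sup.mp x.2
        change N.mkQ (x : M) ∈ P
        rw [← hab, map_add, show N.mkQ a = 0 from (Submodule.Quotient.mk_eq_zero N).mpr ha, zero_add, ← hL.2]
        exact Submodule.mem_map_of_mem hb
      have hq : Surjective q := fun p => by
        obtain ⟨b, hb, hbp⟩ := (hL.2.symm ▸ p.2 : (p : M ⧸ N) ∈ L.map N.mkQ)
        exact ⟨⟨b, Submodule.mem_sup_right hb⟩, Subtype.ext hbp⟩
      have he : Exact (Submodule.inclusion (le_sup_left : N ≤ N')) q := fun x => by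
        refine ⟨fun hx => ⟨⟨x, (Submodule.Quotient.mk_eq_zero N).mp (congrArg Subtype.val hx)⟩, rfl⟩, ?_⟩
        rintro ⟨a, rfl⟩
        exact Subtype.ext ((Submodule.Quotient.mk_eq_zero N).mpr a.2)
      let S' := ModuleCat.shortComplexOfCompEqZero (Submodule.inclusion (le_sup_left : N ≤ N')) q
        he.linearMap_comp_eq_zero
      have hS' : S'.ShortExact := ModuleCat.shortComplex_shortExact _ he (Submodule.inclusion_injective (le_sup_left : N ≤ N')) hq
      let φ : S' ⟶ ModuleCat.shortComplexOfCompEqZero N.subtype N.mkQ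
          (LinearMap.ext fun x => (Submodule.Quotient.mk_eq_zero N).mpr x.2) :=
        { τ₁ := 𝟙 _
          τ₂ := ModuleCat.ofHom N'.subtype
          τ₃ := ModuleCat.ofHom P.subtype }
      have hnat := congrArg (fun k => k.hom w') (delta_naturality I hS' (n := d) hS φ)
      have hy' : delta I d hS' w' = y := by
        rw [← hw, ← hw']
        refine Eq.trans ?_ hnat.symm
        change _ = ((localCohomology I (d + 1)).map (𝟙 S'.X₁)).hom (delta I d hS' w')
        rw [CategoryTheory.Functor.map_id]
        rfl
      rw [← hy']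
      exact congrArg (fun k => k.hom w') (delta_comp_map I hS' (n := d))
  · obtain ⟨M', hM', y', rfl⟩ := exists_fg_map I (ModuleCat.of R M) y
    have : Module.Finite R M' := Module.Finite.iff_fg.mpr hM'
    obtain ⟨z, rfl⟩ := (tensorToH_bijective (M := M') I hn).2 y'
    exact ⟨M'.subtype.rTensor _ z, (tensorToH_natural I M'.subtype z).symm⟩

end

end Groth.Agent.LocDuality
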